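/-!
Block lists and case trees for S(3, 6, 22), made by a search outside the kernel.
-/

set_option autoImplicit false
set_option maxRecDepth 4000

namespace Cfsg.Agent.Steiner.Search22

/-- The standard blocks of S(3, 6, 22): the octads through two fixed positions. -/
def std22 : List Nat :=
  [1594, 4773, 12036, 16601, 21574, 41666, 55680, 58401, 67881, 73751, 78984, 102512, 115212, 134275, 137244, 143650, 150112, 164165, 197520, 267080, 278836, 288778, 297489, 329924, 361730, 402512, 426152, 479233, 525792, 538689, 541443, 559142, 565528, 609296, 680068, 693760, 720970, 787469, 790674, 860704, 1048974, 1053969, 1058992, 1084488, 1120770, 1139008, 1188361, 1228818, 1246244, 1310819, 1328768, 1355780, 1573460, 1593384, 1671297, 1968384, 2099538, 2105452, 2126352, 2131092, 2134027, 2164289, 2179234, 2245896, 2336768, 2366496, 2367873, 2490886, 2624136, 2691332, 2752561, 2932800, 3164165, 3179296, 3281088, 3473432, 3679234]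

/-- The standard blocks through the last point. -/
def frame22 : List Nat :=
  [2099538, 2105452, 2126352, 2131092, 2134027, 2164289, 2179234, 2245896, 2336768, 2366496, 2367873, 2490886, 2624136, 2691332, 2752561, 2932800, 3164165, 3179296, 3281088, 3473432, 3679234]

/-- The nine blocks fixed by the labelling. -/
def init22 : List Nat :=
  [3145743, 3145968, 3149568, 3207168, 4128768, 2167057, 2236961, 2376769, 2656385]

/-- The tree of planes. -/
def treeE : List Nat :=
  [2097171, 2097441, 2101313, 2097283, 2097173, 2097189, 2097221, 2097285, 2097177, 2097193, 2097225, 2097289, 0, 852385183959532663712475010019425, 2097189, 2097221, 2097285, 2097177, 2097193, 2097225, 2097289, 0, 852082970194762787539766676533345, 2097441, 2105409, 2097283, 2097173, 2097189, 2097221, 2097285, 2097177, 2097193, 2097225, 2097289, 0, 852620236391402474615328442134625, 2097189, 2097221, 2097285, 2097177, 2097193, 2097225, 2097289, 0, 852154926599849029007170223976545, 2101281, 2097473, 2097283, 2097173, 2097189, 2097221, 2097285, 2097177, 2097193, 2097225, 2097289, 0, 852082970531146915373183496859745, 2097189,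 2097221, 2097285, 2097177, 2097193, 2097225, 2097289, 0, 852385183632573660190711606653025, 2162721, 2097473, 2097283, 2097173, 2097189, 2097221, 2097285, 2097177, 2097193, 2097225, 2097289, 0, 852507651259460209716377619509345, 2097189, 2097221, 2097285, 2097177, 2097193, 2097225, 2097289, 0, 852277394700366634511116712521825, 2101281, 2097729, 2097283, 2097173, 2097189, 2097221, 2097285, 2097177, 2097193, 2097225, 2097289, 0, 852620236288606938376633603043425, 2097189, 2097221, 2097285, 2097177, 2097193, 2097225, 2097289, 0, 852154927004856132272259586306145, 2162721, 2097729, 2097283, 2097173, 2097189, 2097221, 2097285, 2097177, 2097193, 2097225, 2097289, 0, 852277394924530101794185276797025, 2097189, 2097221, 2097285, 2097177, 2097193, 2097225, 2097289, 0, 852507651328083185148050161512545]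

/-- The tree of completions of a plane. -/
def treeF : List Nat :=
  [8, 36, 132, 260, 14, 38, 70, 26, 42, 522, 274, 530, 1058, 2114, 32898, 20482, 15, 39, 71, 27, 75, 2059, 147, 16403, 291, 195, 1283, 2563, 29, 525, 53, 85, 1061, 197, 8325, 773, 12293, 281, 169, 4137, 329, 1097, 1161, 113, 177, 1105, 401, 3089, 225, 609, 8737, 8513, 2433, 1665, 133377, 5633, 0, 2108774733242808945804471242850, 20, 68, 2052, 14, 22, 518, 26, 42, 74, 274, 98, 4130, 1154, 770, 33794, 15, 71, 135, 43, 75, 267, 51, 1043, 99, 387, 4355, 1539, 269, 525, 53, 277, 165, 4133, 197, 1093, 9221, 57, 89, 1065, 2121, 8329, 12297, 113, 209, 2193, 785, 6161, 353, 673, 2337, 1345, 2625, 1409, 4737, 82433, 0, 2107521987514577197170829103202, 20, 36, 260, 14, 38, 1030, 42, 74, 8202, 82, 146, 98, 642, 1282, 4610, 15, 23, 263, 27, 43, 75, 531, 99, 4163, 387, 2179, 6147, 141, 32781, 85, 2069, 165, 549, 325, 581, 645, 57, 89, 553, 201, 2313, 1545, 113, 305, 401, 4369, 1553, 2145, 4257, 24609, 1217, 833, 66689, 2817, 21505, 0, 1750742927162442287619648327778]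

end Cfsg.Agent.Steiner.Search22
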