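import Cfsg.Agent.Lib.Steiner.HSGraphData
import Cfsg.Agent.Lib.Steiner.Data22
import Cfsg.Agent.Lib.LeechCount.HSData

/-!
The check of the table of the Higman-Sims configuration against the standard S(3, 6, 22).
-/

set_option autoImplicit false
set_option Elab.async false

namespace Cfsg.Agent.Steiner.HSGraph

open Search22

/-- All encoded vectors. -/
def hsAll : List (List ℤ) := hsRoot :: (hsPts ++ hsBlks)

open LeechCount in
/-- The checks on the table. -/
def tableOk : Bool :=
  (hsPts.length == 22) && (hsBlks.length == 77) && (hsAll.all fun n => decide (n.length = 24) && (latOk 0 n || latOk 1 n) && decide (dotL n n = 32) &&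
      decide (dotL uList n = 24) && decide (dotL dList n = 0)) &&
    decide hsAll.Nodup &&
    (hsPts.all fun p => dotL hsRoot p == 8) &&
    (hsBlks.all fun b => dotL hsRoot b == 16) &&
    ((List.range 22).all fun i => (List.range 22).all fun j =>
      i == j || dotL (hsPts.getD (i) []) (hsPts.getD (j) []) == 16) &&
    ((List.range 22).all fun i => (List.range 77).all fun m =>
      (dotL (hsPts.getD (i) []) (hsBlks.getD (m) []) == 8) == Nat.testBit (std22.getD m 0) i &&
        (dotL (hsBlks.getD (m) []) (hsPts.getD (i) []) == 8) == Nat.testBit (std22.getD m 0) i) &&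
    ((List.range 77).all fun m => (List.range 77).all fun k =>
      m == k || ((dotL (hsBlks.getD (m) []) (hsBlks.getD (k) []) == 8) ==
        (Nat.land (std22.getD m 0) (std22.getD k 0) == 0)))

set_option maxHeartbeats 1000000 in
theorem tableOk_true : tableOk = true := by decide +kernel

end Cfsg.Agent.Steiner.HSGraph
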