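import Cfsg.Agent.Lib.Steiner.HSGraph
import Cfsg.Agent.Lib.Golay.Index.Eleven
import Cfsg.Prelude.Def_KGroupFacts

/-!
The outer automorphism group of the group of the Higman-Sims configuration has order two: every subgroup
isomorphic to a point stabiliser fixes a vertex, so every automorphism is induced from the graph.
-/

set_option autoImplicit false
set_option maxHeartbeats 800000
set_option linter.style.haveILetI false

namespace Cfsg.Agent.Steiner.HSGraph

open Cfsg Search Search22 MulAction

noncomputable section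

open scoped Pointwise

/-- Every nontrivial index at most 100 in a group isomorphic to M22 is divisible by 11. -/
theorem m22_index_dvd {N : Type*} [Group N] (e : N ≃* Spor.M22) (U : Subgroup N) (h : U.index ≤ 100)
    (h1 : U.index ≠ 1) : 11 ∣ U.index := by
  by_contra h11
  let K := (U.map e.toMonoidHom).map Spor.M22.subtype
  have hK : K ≤ Spor.M22 := Subgroup.map_subtype_le _
  have hc : Nat.card K = Nat.card U := by
    rw [(Nat.card_congr ((U.map e.toMonoidHom).equivMapOfInjective _ Spor.M22.subtype_injective).toEquiv).symm]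
    exact (Nat.card_congr (U.equivMapOfInjective _ e.injective).toEquiv).symm
  have hn : U.index * Nat.card K = 443520 := by
    rw [hc, U.index_mul_card, Nat.card_congr e.toEquiv, Golay24.card_M22]
  obtain ⟨g, hg, hel⟩ := Golay24.Index.exists_elev_le Golay24.Index.elevC_props.2.1 hK
    (hn.trans Golay24.card_M22.symm) h11
  have hcj := Golay24.Index.card_conjBy g K
  rcases Nat.even_or_odd (Nat.card K) with he | ho
  · rcases Golay24.Index.eleven_even_bound (Golay24.Index.conjBy_le hg hK) hel
        (by rw [hcj]; exact he.two_dvd) with h' | h'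
    · rw [h', Golay24.card_M22] at hcj
      rw [← hcj] at hn
      exact h1 (by omega)
    · rw [hcj] at h'
      have := Nat.mul_le_mul h h'
      omega
  · have hcop : Nat.Coprime (Nat.card K) (2 ^ 7) :=
      Nat.Coprime.pow_right _ ((Nat.coprime_two_right).2 ho)
    have : Nat.card K ∣ 2 ^ 7 * 3465 := ⟨U.index, by rw [mul_comm (Nat.card K), hn]; norm_num⟩
    have h2 := Nat.le_of_dvd (by norm_num) (hcop.dvd_of_dvd_mul_left this)
    have := Nat.mul_le_mul h h2
    omega

/-- The automorphism group of the standard graph. -/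
abbrev GAut : Type := pointBlockGraph stdB ≃g pointBlockGraph stdB

/-- Its action on vertices. -/
@[instance_reducible] def gAct : MulAction GAut Vtx where
  smul f x := f x
  one_smul _ := rfl
  mul_smul _ _ _ := rfl

attribute [local instance] gAct

theorem gsmul (f : GAut) (x : Vtx) : f • x = f x := rfl

theorem gaut_finite : Finite GAut := Nat.finite_of_card_ne_zero (by rw [card_aut_std]; norm_num)

attribute [local instance] gaut_finite

/-- The group of the configuration inside the automorphism group. -/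
abbrev hsH : Subgroup GAut := hsHom.range

theorem hsH_index : hsH.index = 2 := by
  have h := Subgroup.card_mul_index hsH
  rw [isHS_range.2, card_aut_std] at h
  omega

/-- Automorphisms from the pair stabiliser. -/
def pairHom (φ : pairStab →* setSystemAut stdB) : pairStab →* GAut where
  toFun g := pbgIso (φ g).1 ((mem_setSystemAut_iff _ _).1 (φ g).2)
  map_one' := RelIso.ext fun x => by
    rcases x with _ | (i | b)
    · rfl
    · show some (Sum.inl ((φ 1).1 i)) = some (Sum.inl i)
      rw [map_one]; rfl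
    · show some (Sum.inr (blkEquiv _ _ b)) = some (Sum.inr b)
      congr 2
      apply Subtype.ext
      rw [blkEquiv_val, map_one]
      simp
  map_mul' g h := RelIso.ext fun x => by
    rcases x with _ | (i | b)
    · rfl
    · show some (Sum.inl ((φ (g * h)).1 i)) = some (Sum.inl ((φ g).1 ((φ h).1 i)))
      rw [map_mul]; rfl
    · show some (Sum.inr (blkEquiv _ _ b)) = some (Sum.inr (blkEquiv _ _ (blkEquiv _ _ b)))
      congr 2
      apply Subtype.ext
      simp only [blkEquiv_val, map_mul, Finset.image_image]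
      rfl

theorem exists_q : ∃ (Q : Subgroup GAut), Nonempty (Q ≃* Spor.M22) ∧ Q = hsH ⊓ stabilizer GAut (none : Vtx) ∧
    (∀ i j : Fin 22, ∃ q ∈ Q, q (some (Sum.inl i)) = some (Sum.inl j)) ∧
    (∀ b c : stdB, ∃ q ∈ Q, q (some (Sum.inr b)) = some (Sum.inr c)) := by
  classical
  obtain ⟨φ, hφ, hspec⟩ := pairStab_spec
  obtain ⟨hP, hne, huniv, -⟩ := P22_spec
  let Qs : Subgroup ↥M24 := stabilizer ↥M24 ptA ⊓ stabilizer ↥M24 ptB
  obtain ⟨e⟩ := Golay24.stab_two_equiv ptA ptB hne
  have hQs : ∀ g : Qs, (g.1 : Equiv.Perm GolayPt) ∈ pairStab := fun g => by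
    refine ⟨g.1.2, ?_⟩
    show (g.1 : Equiv.Perm GolayPt) • ({ptA, ptB} : Finset GolayPt) = {ptA, ptB}
    have ha : (g.1 : Equiv.Perm GolayPt) ptA = ptA := g.2.1
    have hb : (g.1 : Equiv.Perm GolayPt) ptB = ptB := g.2.2
    simp [Finset.smul_finset_def, ha, hb]
  let ι : Qs →* pairStab := (M24.subtype.comp Qs.subtype).codRestrict pairStab hQs
  let qh : Qs →* GAut := (pairHom φ).comp ι
  have hpt : ∀ (g : Qs) (i : Fin 22), qh g (some (Sum.inl i)) = some (Sum.inl ((φ (ι g)).1 i)) := fun _ _ => rfl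
  have hnone : ∀ g : Qs, qh g none = none := fun _ => rfl
  have hinj : Function.Injective qh := by
    intro g h he
    have h1 : φ (ι g) = φ (ι h) := Subtype.ext (Equiv.ext fun i => by
      have := congrArg (fun f : GAut => f (some (Sum.inl i))) he
      simpa [hpt] using this)
    exact Subtype.ext (Subtype.ext (congrArg Subtype.val (hφ.1 h1) :))
  have hcard : Nat.card Qs = 443520 := by rw [Nat.card_congr e.toEquiv, Golay24.card_M22]
  haveI : IsSimpleGroup Qs := by
    haveI := Golay24.M22_simple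
    exact e.isSimpleGroup
  haveI : Finite Qs := Nat.finite_of_card_ne_zero (by rw [hcard]; norm_num)
  haveI := Subgroup.normal_of_index_eq_two hsH_index
  have hle : qh.range ≤ hsH := by
    rcases Subgroup.Normal.eq_bot_or_eq_top (H := hsH.comap qh) inferInstance with h | h
    · exfalso
      have h1 : (hsH.comap qh).index = Nat.card Qs := by rw [h, Subgroup.index_bot]
      rw [Subgroup.index_comap] at h1
      have h2 := Nat.le_of_dvd (by rw [hsH_index]; norm_num)
        (Subgroup.relIndex_dvd_index_of_normal hsH qh.range)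
      rw [h1, hcard, hsH_index] at h2
      omega
    · rintro _ ⟨g, rfl⟩
      have : g ∈ hsH.comap qh := h ▸ Subgroup.mem_top g
      exact this
  have hle' : qh.range ≤ hsH ⊓ stabilizer GAut (none : Vtx) :=
    le_inf hle (by rintro _ ⟨g, rfl⟩; exact hnone g)
  have hst : Nat.card ↥(hsH ⊓ stabilizer GAut (none : Vtx)) = 443520 := by
    have h1 : Nat.card ↥(stabilizer hsH (none : Vtx)) * 100 = 44352000 := by
      have h := Subgroup.card_mul_index (stabilizer hsH (none : Vtx))
      have horb : orbit hsH (none : Vtx) = Set.univ := Set.eq_univ_of_forall fun y => by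
        obtain ⟨g, hg⟩ := hsHom_trans none y
        exact ⟨⟨hsHom g, ⟨g, rfl⟩⟩, hg⟩
      rwa [index_stabilizer, horb, Set.ncard_univ, card_Vtx, isHS_range.2] at h
    have h2 : Nat.card ↥(hsH ⊓ stabilizer GAut (none : Vtx)) = Nat.card ↥(stabilizer hsH (none : Vtx)) :=
      Nat.card_congr
        { toFun := fun f => ⟨⟨f.1, f.2.1⟩, f.2.2⟩
          invFun := fun f => ⟨f.1.1, ⟨f.1.2, f.2⟩⟩
          left_inv := fun _ => rfl
          right_inv := fun _ => rfl }
    omega
  have heq : qh.range = hsH ⊓ stabilizer GAut (none : Vtx) := by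
    refine SetLike.coe_injective (Set.eq_of_subset_of_ncard_le hle' ?_ (Set.toFinite _))
    rw [← Nat.card_coe_set_eq, ← Nat.card_coe_set_eq]
    show Nat.card ↥(hsH ⊓ stabilizer GAut (none : Vtx)) ≤ Nat.card qh.range
    rw [hst, ← Nat.card_congr (MonoidHom.ofInjective hinj).toEquiv, hcard]
  have hmove : ∀ {n : ℕ}, n + 2 ≤ 5 → ∀ x y : Fin n ↪ Fin 22, ∃ g : Qs, ∀ k, (φ (ι g)).1 (x k) = y k := by
    intro n hn x y
    have hnot : ∀ i, P22 i ≠ ptA ∧ P22 i ≠ ptB := fun i => by
      have := huniv ▸ Finset.mem_image_of_mem P22 (Finset.mem_univ i)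
      simpa [not_or] using (Finset.mem_sdiff.1 this).2
    have hcons : ∀ x : Fin n ↪ Fin 22, Function.Injective (Fin.cons ptA (Fin.cons ptB (P22 ∘ x))) := fun x => by
      refine Fin.cons_injective_iff.2 ⟨?_, Fin.cons_injective_iff.2 ⟨?_, hP.comp x.injective⟩⟩
      · rintro ⟨k, hk⟩
        rcases Fin.eq_zero_or_eq_succ k with rfl | ⟨k, rfl⟩
        · exact hne (by simpa using hk.symm)
        · exact (hnot (x k)).1 (by simpa using hk)
      · rintro ⟨k, hk⟩
        exact (hnot (x k)).2 hk
    obtain ⟨σ, hσ, h⟩ := Golay24.exists_map_le_five hn ⟨_, hcons x⟩ ⟨_, hcons y⟩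
    have ha : σ ptA = ptA := by simpa using h 0
    have hb : σ ptB = ptB := by simpa using h 1
    refine ⟨⟨⟨σ, hσ⟩, ha, hb⟩, fun k => hP ?_⟩
    rw [hspec]
    show σ (P22 (x k)) = P22 (y k)
    simpa using h k.succ.succ
  refine ⟨qh.range, ⟨(MonoidHom.ofInjective hinj).symm.trans e⟩, heq, fun i j => ?_, fun b c => ?_⟩
  · obtain ⟨g, hg⟩ := hmove (n := 1) (by norm_num) ⟨fun _ => i, Function.injective_of_subsingleton _⟩
      ⟨fun _ => j, Function.injective_of_subsingleton _⟩
    exact ⟨qh g, ⟨g, rfl⟩, by rw [hpt]; exact congrArg _ (congrArg _ (hg 0))⟩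
  · have hB := isSteiner_sysOf steiner22_ok
    have h3 : ∀ d : stdB, ∃ x : Fin 3 ↪ Fin 22, ∀ k, x k ∈ d.1 := fun d => by
      obtain ⟨t, ht, hc⟩ := Finset.exists_subset_card_eq (show 3 ≤ d.1.card by rw [hB.1 d.1 d.2]; norm_num)
      exact ⟨(t.orderEmbOfFin hc).toEmbedding, fun k => ht (t.orderEmbOfFin_mem hc k)⟩
    obtain ⟨x, hx⟩ := h3 b
    obtain ⟨y, hy⟩ := h3 c
    obtain ⟨g, hg⟩ := hmove (n := 3) (by norm_num) x y
    refine ⟨qh g, ⟨g, rfl⟩, ?_⟩
    show some (Sum.inr (blkEquiv _ _ b)) = some (Sum.inr c)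
    congr 2
    apply Subtype.ext
    refine (hB.2 (Finset.univ.map y) (by simp)).unique ⟨(blkEquiv _ _ b).2, ?_⟩ ⟨c.2, ?_⟩
    · intro p hp
      obtain ⟨k, -, rfl⟩ := Finset.mem_map.1 hp
      rw [blkEquiv_val, ← hg k]
      exact Finset.mem_image_of_mem _ (hx k)
    · intro p hp
      obtain ⟨k, -, rfl⟩ := Finset.mem_map.1 hp
      exact hy k

/-- Conjugation by graph automorphisms is onto the automorphism group of the simple group. -/
theorem card_mulAut_hsH : Nat.card (MulAut hsH) = 88704000 := by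
  classical
  obtain ⟨Q, ⟨eQ⟩, hQ, htP, htB⟩ := exists_q
  haveI := Subgroup.normal_of_index_eq_two hsH_index
  have hQc : Nat.card Q = 443520 := by rw [Nat.card_congr eQ.toEquiv, Golay24.card_M22]
  have hQH : Q ≤ hsH := hQ ▸ inf_le_left
  have hQ0 : ∀ q ∈ Q, q none = none := fun q hq => (hQ ▸ hq : q ∈ hsH ⊓ stabilizer GAut (none : Vtx)).2
  have htrans : ∀ x y : Vtx, ∃ h ∈ hsH, h x = y := fun x y => by
    obtain ⟨g, hg⟩ := hsHom_trans x y
    exact ⟨hsHom g, ⟨g, rfl⟩, hg⟩
  have hB77 : Nat.card stdB = 77 := by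
    have h := card_Vtx
    rw [Finite.card_option, Nat.card_sum, Nat.card_fin] at h
    omega
  -- orbit sizes of the point stabiliser
  have hfixQ : ∀ y : Vtx, (∀ q ∈ Q, q y = y) → y = none := by
    rintro (_ | (i | b)) h
    · rfl
    · exfalso
      obtain ⟨j, hj⟩ := exists_ne i
      obtain ⟨q, hq, e⟩ := htP i j
      rw [h q hq] at e
      exact hj (by simpa using e.symm)
    · exfalso
      haveI : Nontrivial stdB := by rw [← Finite.one_lt_card_iff_nontrivial, hB77]; norm_num
      obtain ⟨c, hc⟩ := exists_ne b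
      obtain ⟨q, hq, e⟩ := htB b c
      rw [h q hq] at e
      exact hc (by simpa using e.symm)
  have horb : ∀ y : Vtx, ((pointBlockGraph stdB).Adj none y ↔ (orbit Q y).ncard = 22) := by
    have hmem : ∀ q ∈ Q, ∀ i, ∃ j, q (some (Sum.inl i)) = some (Sum.inl j) := by
      intro q hq i
      have h := (q.map_adj_iff (v := none) (w := some (Sum.inl i))).2
        (by simp [pointBlockGraph, pointBlockRel])
      rw [hQ0 q hq] at h
      revert h
      rcases q (some (Sum.inl i)) with _ | (j | b) <;> intro h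
      · exact absurd h (SimpleGraph.irrefl _)
      · exact ⟨j, rfl⟩
      · simp [pointBlockGraph, pointBlockRel] at h
    rintro (_ | (i | b))
    · refine iff_of_false (SimpleGraph.irrefl _) fun h => ?_
      have e : orbit Q (none : Vtx) = {none} := by
        ext y
        refine ⟨?_, fun h => h ▸ mem_orbit_self _⟩
        rintro ⟨q, rfl⟩
        exact hQ0 q.1 q.2
      rw [e, Set.ncard_singleton] at h
      omega
    · refine iff_of_true (by simp [pointBlockGraph, pointBlockRel]) ?_
      have e : orbit Q (some (Sum.inl i) : Vtx) = Set.range fun j => some (Sum.inl j) := by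
        ext y
        constructor
        · rintro ⟨q, rfl⟩
          obtain ⟨j, hj⟩ := hmem q.1 q.2 i
          exact ⟨j, hj.symm⟩
        · rintro ⟨j, rfl⟩
          obtain ⟨q, hq, e⟩ := htP i j
          exact ⟨⟨q, hq⟩, e⟩
      rw [e, Set.ncard_range_of_injective (fun a b h => by simpa using h), Nat.card_fin]
    · refine iff_of_false (by simp [pointBlockGraph, pointBlockRel]) fun h => ?_
      have e : (Set.range fun c : stdB => (some (Sum.inr c) : Vtx)) ⊆ orbit Q (some (Sum.inr b) : Vtx) := by
        rintro _ ⟨c, rfl⟩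
        obtain ⟨q, hq, e⟩ := htB b c
        exact ⟨⟨q, hq⟩, e⟩
      have := Set.ncard_le_ncard e (Set.toFinite _)
      rw [Set.ncard_range_of_injective (fun a b h => by simpa using h), hB77, h] at this
      omega
  -- conjugation
  let ψ : GAut →* MulAut hsH := MulAut.conjNormal
  have hinj : Function.Injective ψ := by
    rw [injective_iff_map_eq_one]
    intro c hc
    have hcom : ∀ h ∈ hsH, ∀ x, c (h x) = h (c x) := fun h hh x => by
      have e : c * h * c⁻¹ = h := congrArg (fun f : MulAut hsH => ((f ⟨h, hh⟩ : hsH) : GAut)) hc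
      exact congrArg (fun f : GAut => f x) (mul_inv_eq_iff_eq_mul.1 e)
    have h0 : c none = none := hfixQ _ fun q hq => by
      rw [← hcom q (hQH hq) none, hQ0 q hq]
    refine RelIso.ext fun x => ?_
    obtain ⟨h, hh, rfl⟩ := htrans none x
    show c (h none) = h none
    rw [hcom h hh, h0]
  have hsurj : Function.Surjective ψ := by
    intro α
    -- the image of the point stabiliser fixes a vertex
    let K : Subgroup GAut := ((Q.subgroupOf hsH).map α.toMonoidHom).map hsH.subtype
    let eK : K ≃* Q :=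
      ((((Q.subgroupOf hsH).map α.toMonoidHom).equivMapOfInjective _ hsH.subtype_injective).symm.trans
        ((Q.subgroupOf hsH).equivMapOfInjective _ α.injective).symm).trans (Subgroup.subgroupOfEquivOfLe hQH)
    obtain ⟨x0, hx0⟩ : ∃ x0 : Vtx, ∀ k ∈ K, k x0 = x0 := by
      by_contra hno
      push_neg at hno
      have hd : ∀ x : Vtx, 11 ∣ Nat.card (orbit K x) := fun x => by
        rw [Nat.card_coe_set_eq, ← index_stabilizer]
        refine m22_index_dvd (eK.trans eQ) _ ?_ ?_
        · rw [index_stabilizer]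
          exact (Set.ncard_le_ncard (Set.subset_univ _) (Set.toFinite _)).trans (by rw [Set.ncard_univ, card_Vtx])
        · intro h1
          rw [Subgroup.index_eq_one] at h1
          obtain ⟨k, hk, hne⟩ := hno x
          exact hne (mem_stabilizer_iff.1 (show (⟨k, hk⟩ : K) ∈ stabilizer K x from h1 ▸ Subgroup.mem_top _))
      have h := Nat.card_congr (MulAction.selfEquivSigmaOrbits K Vtx)
      haveI : Fintype (orbitRel.Quotient K Vtx) := Fintype.ofFinite _
      rw [card_Vtx, Nat.card_sigma] at h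
      have : 11 ∣ 100 := h ▸ Finset.dvd_sum fun ω _ => hd _
      omega
    obtain ⟨h0, hh0, hh0x⟩ := htrans none x0
    have hQf : ∀ f ∈ hsH, f none = none → f ∈ Q := fun f hf h => hQ ▸ ⟨hf, h⟩
    let β : MulAut hsH := ψ h0⁻¹ * α
    have hβQ : ∀ f : hsH, f.1 ∈ Q → (β f).1 ∈ Q := by
      intro f hf
      refine hQf _ (β f).2 ?_
      have hk : (α f).1 ∈ K := ⟨α f, ⟨f, hf, rfl⟩, rfl⟩
      show (h0⁻¹ * (α f).1 * h0⁻¹⁻¹) none = none
      rw [inv_inv]
      show h0⁻¹ ((α f).1 (h0 none)) = none
      rw [hh0x, hx0 _ hk, ← hh0x]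
      exact h0.symm_apply_apply none
    have hβQ' : ∀ f : hsH, (β f).1 ∈ Q → f.1 ∈ Q := by
      have himg : (Q.subgroupOf hsH).map β.toMonoidHom = Q.subgroupOf hsH := by
        refine SetLike.coe_injective (Set.eq_of_subset_of_ncard_le ?_ ?_ (Set.toFinite _))
        · rintro _ ⟨f, hf, rfl⟩; exact hβQ f hf
        · rw [Subgroup.coe_map]
          exact le_of_eq (Set.ncard_image_of_injective _ β.injective).symm
      intro f hf
      have : β f ∈ (Q.subgroupOf hsH).map β.toMonoidHom := by rw [himg]; exact hf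
      obtain ⟨f', hf', e⟩ := this
      rwa [← β.injective e]
    choose t htH ht using fun y => htrans none y
    let f : Vtx → Vtx := fun y => (β ⟨t y, htH y⟩).1 none
    have hf : ∀ (h : hsH) (y : Vtx), f (h.1 y) = (β h).1 (f y) := by
      intro h y
      have hq : ((⟨t (h.1 y), htH _⟩ : hsH)⁻¹ * (h * ⟨t y, htH y⟩)).1 ∈ Q := by
        refine hQf _ (Subtype.prop _) ?_
        show (t (h.1 y))⁻¹ (h.1 (t y none)) = none
        rw [ht]
        exact (t (h.1 y)).injective (((t (h.1 y)).apply_symm_apply _).trans (ht _).symm)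
      have h1 := hQ0 _ (hβQ _ hq)
      rw [map_mul, map_mul, map_inv] at h1
      change (β ⟨t (h.1 y), htH _⟩).1⁻¹ ((β h).1 ((β ⟨t y, htH y⟩).1 none)) = none at h1
      show (β ⟨t (h.1 y), htH _⟩).1 none = (β h).1 ((β ⟨t y, htH y⟩).1 none)
      conv_lhs => rw [← h1]
      exact (β ⟨t (h.1 y), htH _⟩).1.apply_symm_apply _
    have hf0 : f none = none := hQ0 _ (hβQ _ (hQf _ (htH none) (ht none)))
    have hfinj : Function.Injective f := by
      intro x y h
      have hq : ((⟨t y, htH y⟩ : hsH)⁻¹ * ⟨t x, htH x⟩).1 ∈ Q := by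
        refine hβQ' _ (hQf _ (Subtype.prop _) ?_)
        rw [map_mul, map_inv]
        show (β ⟨t y, htH y⟩).1⁻¹ ((β ⟨t x, htH x⟩).1 none) = none
        rw [show (β ⟨t x, htH x⟩).1 none = (β ⟨t y, htH y⟩).1 none from h]
        exact (β ⟨t y, htH y⟩).1.symm_apply_apply none
      have := hQ0 _ hq
      change (t y)⁻¹ (t x none) = none at this
      rw [← ht x, ← ht y]
      exact ((t y).apply_symm_apply _).symm.trans (congrArg (t y) this)
    let F : Vtx ≃ Vtx := Equiv.ofBijective f (Finite.injective_iff_bijective.1 hfinj)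
    have horbf : ∀ y, (orbit Q (f y)).ncard = (orbit Q y).ncard := by
      intro y
      rw [← Set.ncard_image_of_injective (orbit Q y) hfinj]
      congr 1
      ext z
      constructor
      · rintro ⟨q, rfl⟩
        obtain ⟨q', hq'⟩ := β.surjective ⟨q.1, hQH q.2⟩
        refine ⟨q'.1 y, ⟨⟨q'.1, hβQ' q' (by rw [hq']; exact q.2)⟩, rfl⟩, ?_⟩
        rw [hf, hq']; rfl
      · rintro ⟨_, ⟨q, rfl⟩, rfl⟩
        refine ⟨⟨(β ⟨q.1, hQH q.2⟩).1, hβQ _ q.2⟩, ?_⟩
        exact (hf ⟨q.1, hQH q.2⟩ y).symm
    have hadj : ∀ x y, (pointBlockGraph stdB).Adj (f x) (f y) ↔ (pointBlockGraph stdB).Adj x y := by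
      intro x y
      obtain ⟨z, rfl⟩ : ∃ z, (t x) z = y := ⟨(t x).symm y, (t x).apply_symm_apply y⟩
      have key : ∀ (g : hsH) (z : Vtx), (pointBlockGraph stdB).Adj (f (g.1 none)) (f (g.1 z)) ↔
          (pointBlockGraph stdB).Adj (g.1 none) (g.1 z) := fun g z => by
        rw [hf g none, hf g z, SimpleGraph.Iso.map_adj_iff, SimpleGraph.Iso.map_adj_iff, hf0, horb, horb, horbf]
      have e := key ⟨t x, htH x⟩ z
      change (pointBlockGraph stdB).Adj (f (t x none)) (f (t x z)) ↔
        (pointBlockGraph stdB).Adj (t x none) (t x z) at e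
      rw [ht x] at e
      exact e
    let a : GAut := ⟨F, fun {x y} => hadj x y⟩
    have ha : ψ a = β := by
      refine MulEquiv.ext fun h => Subtype.ext (RelIso.ext fun y => ?_)
      show f (h.1 (F.symm y)) = (β h).1 y
      rw [hf, show f (F.symm y) = y from F.apply_symm_apply y]
    refine ⟨h0 * a, ?_⟩
    rw [map_mul, ha]
    show ψ h0 * (ψ h0⁻¹ * α) = α
    rw [← mul_assoc, ← map_mul, mul_inv_cancel, map_one, one_mul]
  rw [← card_aut_std]
  exact (Nat.card_congr (Equiv.ofBijective ψ ⟨hinj, hsurj⟩)).symm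

theorem card_out_hsH : Nat.card (Out hsH) = 2 := by
  haveI := isHS_range.1
  have hI : Nat.card (Inn hsH) = 44352000 := by
    rw [← isHS_range.2]
    refine (Nat.card_congr (MonoidHom.ofInjective ?_).toEquiv).symm
    rw [injective_iff_map_eq_one]
    intro z hz
    have hz' : z ∈ Subgroup.center hsH := Subgroup.mem_center_iff.2 fun g => by
      have := congrArg (fun φ : MulAut hsH => φ g) hz
      simp only [MulAut.conj_apply, MulAut.one_apply] at this
      exact (mul_inv_eq_iff_eq_mul.1 this).symm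
    rcases Subgroup.Normal.eq_bot_or_eq_top (H := Subgroup.center hsH) inferInstance with h | h
    · exact Subgroup.mem_bot.1 (h ▸ hz')
    · exfalso
      have hc : ∀ a b : hsH, a * b = b * a := fun a b =>
        (Subgroup.mem_center_iff.1 (h ▸ Subgroup.mem_top a) b).symm
      letI : CommGroup hsH := { (inferInstance : Group hsH) with mul_comm := hc }
      haveI : Finite hsH := Nat.finite_of_card_ne_zero (by rw [isHS_range.2]; norm_num)
      have hp := IsSimpleGroup.prime_card (α := hsH)
      rw [isHS_range.2] at hp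
      norm_num at hp
  have h := Subgroup.card_mul_index (Inn hsH)
  rw [hI, card_mulAut_hsH, Subgroup.index_eq_card] at h
  show Nat.card (MulAut hsH ⧸ Inn hsH) = 2
  omega

theorem card_out_congr {G : Type*} [Group G] (E : G ≃* hsH) : Nat.card (Out G) = 2 := by
  rw [← card_out_hsH]
  refine Nat.card_congr (QuotientGroup.congr (Inn G) (Inn hsH) (MulAut.congr E) ?_).toEquiv
  have key : ∀ x, MulAut.congr E (MulAut.conj x) = MulAut.conj (E x) := fun x => MulEquiv.ext fun y => by
    show E (x * E.symm y * x⁻¹) = E x * y * (E x)⁻¹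
    simp
  ext β
  constructor
  · rintro ⟨_, ⟨x, rfl⟩, rfl⟩; exact ⟨E x, (key x).symm⟩
  · rintro ⟨y, rfl⟩
    refine ⟨MulAut.conj (E.symm y), ⟨_, rfl⟩, ?_⟩
    show MulAut.congr E _ = _
    rw [key, E.apply_symm_apply]

theorem card_out_HS : Nat.card (Out ↥Spor.HS) = 2 := by
  have hc : Nat.card ↥hsG = 44352000 := by
    obtain ⟨p, q, r⟩ := u0_spec
    exact (LeechCount.isHS_stab p q r).2
  haveI : Finite ↥hsG := Nat.finite_of_card_ne_zero (by rw [hc]; norm_num)
  have hbij : Function.Bijective hsHom.rangeRestrict :=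
    (Nat.bijective_iff_surjective_and_card _).2 ⟨hsHom.rangeRestrict_surjective, by rw [hc]; exact isHS_range.2.symm⟩
  have hmap : hsG.map (Subgroup.subtype Co0) = Spor.HS := by
    ext f
    simp only [Spor.HS, Spor.Co3, Subgroup.mem_map, Subgroup.mem_inf, mem_stabilizer_iff, Subgroup.coe_subtype]
    constructor
    · rintro ⟨g, ⟨h1, h2⟩, rfl⟩; exact ⟨⟨g.2, h1⟩, h2⟩
    · rintro ⟨⟨h0, h1⟩, h2⟩; exact ⟨⟨f, h0⟩, ⟨h1, h2⟩, rfl⟩
  exact card_out_congr (((MulEquiv.subgroupCongr hmap).symm.trans
    (hsG.equivMapOfInjective _ Subtype.val_injective).symm).trans (MulEquiv.ofBijective _ hbij))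

end

end Cfsg.Agent.Steiner.HSGraph
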