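import Cfsg.Agent.Lib.Steiner.CodeUnique
import Cfsg.Agent.Lib.Golay.Cosets

/-!
A binary code of length 24, dimension 12 and minimum weight 8 is a relabelling of
`Cfsg.golayCode`.
-/

set_option autoImplicit false

namespace Cfsg.Agent.Steiner

open Cfsg Finset

variable {α : Type*} [Fintype α] [DecidableEq α]

theorem steiner_of_minWeight (hα : Fintype.card α = 24) (C : Submodule (ZMod 2) (α → ZMod 2))
    (hdim : Module.finrank (ZMod 2) C = 12) (hmin : ∀ w ∈ C, w ≠ 0 → 8 ≤ hammingNorm w) :
    IsSteinerSystem 5 8 (wordsOfWeight (C : Set (α → ZMod 2)) 8) := by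
  classical
  have hsmall : ∀ s : Finset α, word₂ s ∈ C → s.card ≤ 7 → s = ∅ := by
    intro s hs h7
    by_contra hne
    have hne' : word₂ s ≠ 0 := fun h => hne (by rw [← support₂_word₂ s, h]; simp [support₂])
    have := hmin _ hs hne'
    rw [hammingNorm_word₂] at this
    omega
  let q : Finset α → (α → ZMod 2) ⧸ C := fun s => Submodule.Quotient.mk (word₂ s)
  have hq : ∀ s t, q s = q t → word₂ (symmDiff s t) ∈ C := fun s t h => by
    rw [← word₂_sub]; exact (Submodule.Quotient.eq C).1 h
  have hq7 : ∀ s t, q s = q t → s.card + t.card ≤ 7 → s = t := fun s t h hle =>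
    symmDiff_eq_bot.1 (hsmall _ (hq s t h) (by have := card_symmDiff' s t; omega))
  let P4 := (univ : Finset α).powersetCard 4
  let P3 := (univ : Finset α).powerset.filter fun s => s.card ≤ 3
  have c3 : P3.card = 2325 := by
    rw [Finset.card_eq_sum_card_fiberwise (f := Finset.card) (t := Finset.range 4)
      (fun s hs => Finset.mem_range.2 (by have := (Finset.mem_filter.1 hs).2; omega))]
    have : ∀ i ∈ Finset.range 4, (P3.filter fun s => s.card = i).card = Nat.choose 24 i := by
      intro i hi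
      rw [Finset.mem_range] at hi
      rw [← hα, ← Finset.card_univ, ← Finset.card_powersetCard]
      congr 1
      ext s
      simp only [P3, Finset.mem_filter, Finset.mem_powersetCard, Finset.mem_powerset]
      constructor
      · rintro ⟨⟨h, -⟩, e⟩; exact ⟨h, e⟩
      · rintro ⟨h, e⟩; exact ⟨⟨h, by omega⟩, e⟩
    rw [Finset.sum_congr rfl this]
    decide
  have c4 : P4.card = 10626 := by
    rw [Finset.card_powersetCard, Finset.card_univ, hα]; decide
  have i3 : (P3.image q).card = 2325 := by
    rw [Finset.card_image_of_injOn, c3]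
    intro s hs t ht h
    have a := (Finset.mem_filter.1 hs).2
    have b := (Finset.mem_filter.1 ht).2
    exact hq7 s t h (by omega)
  have hdisj : Disjoint (P3.image q) (P4.image q) := by
    rw [Finset.disjoint_left]
    intro z hz hz'
    obtain ⟨s, hs, rfl⟩ := Finset.mem_image.1 hz
    obtain ⟨t, ht, e⟩ := Finset.mem_image.1 hz'
    have a := (Finset.mem_filter.1 hs).2
    have b := (Finset.mem_powersetCard.1 ht).2
    have := hq7 t s e (by omega)
    subst this
    omega
  have hsum : (P3.image q).card + (P4.image q).card ≤ 4096 := by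
    rw [← Finset.card_union_of_disjoint hdisj]
    letI := Fintype.ofFinite ((α → ZMod 2) ⧸ C)
    refine (Finset.card_le_univ _).trans (le_of_eq ?_)
    have h1 := Submodule.finrank_quotient_add_finrank C
    rw [hdim, Module.finrank_fintype_fun_eq_card, hα] at h1
    rw [Module.card_eq_pow_finrank (K := ZMod 2), ZMod.card,
      show Module.finrank (ZMod 2) ((α → ZMod 2) ⧸ C) = 12 by omega]
    norm_num
  have fib_disj : ∀ z, ∀ s ∈ P4.filter (fun s => q s = z), ∀ t ∈ P4.filter (fun s => q s = z), s ≠ t → Disjoint s t := by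
    intro z s hs t ht hne
    simp only [P4, Finset.mem_filter, Finset.mem_powersetCard] at hs ht
    have hw := hq s t (hs.2.trans ht.2.symm)
    have hc := card_symmDiff' s t
    rw [hs.1.2, ht.1.2] at hc
    by_contra hd
    have hpos : 0 < (s ∩ t).card :=
      Finset.card_pos.2 (Finset.not_disjoint_iff_nonempty_inter.1 hd)
    exact hne (symmDiff_eq_bot.1 (hsmall _ hw (by omega)))
  have fib_card : ∀ z, ((P4.filter fun s => q s = z).biUnion fun s => s).card = 4 * (P4.filter fun s => q s = z).card := by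
    intro z
    rw [Finset.card_biUnion (fib_disj z), Finset.sum_congr rfl
      (fun s hs => (Finset.mem_powersetCard.1 (Finset.mem_filter.1 hs).1).2 : ∀ s ∈ P4.filter (fun s => q s = z), s.card = 4),
      Finset.sum_const, smul_eq_mul, mul_comm]
  have fib_le : ∀ z ∈ P4.image q, (P4.filter fun s => q s = z).card ≤ 6 := fun z _ => by
    have h1 := fib_card z
    have h2 := Finset.card_le_univ ((P4.filter fun s => q s = z).biUnion fun s => s)
    rw [hα] at h2
    omega
  have fib_six : ∀ z ∈ P4.image q, (P4.filter fun s => q s = z).card = 6 := by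
    intro z hz
    by_contra hne
    have hlt : P4.card < ∑ _z ∈ P4.image q, 6 := by
      rw [Finset.card_eq_sum_card_image q P4]
      exact Finset.sum_lt_sum fib_le ⟨z, hz, lt_of_le_of_ne (fib_le z hz) hne⟩
    rw [Finset.sum_const, smul_eq_mul, c4] at hlt
    omega
  refine ⟨fun b hb => (mem_words_iff.1 hb).2, fun F hF => ?_⟩
  obtain ⟨Q, hQF, hQ⟩ := Finset.exists_subset_card_eq (show 4 ≤ F.card by omega)
  obtain ⟨x, hx⟩ := Finset.card_pos.1 (show 0 < (F \ Q).card by
    rw [Finset.card_sdiff_of_subset hQF]; omega)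
  rw [Finset.mem_sdiff] at hx
  have hQ4 : Q ∈ P4 := Finset.mem_powersetCard.2 ⟨Finset.subset_univ _, hQ⟩
  have hcov : (P4.filter fun s => q s = q Q).biUnion (fun s => s) = univ := by
    apply Finset.eq_univ_of_card
    rw [fib_card, fib_six _ (Finset.mem_image_of_mem q hQ4), hα]
  have hxu : x ∈ (P4.filter fun s => q s = q Q).biUnion (fun s => s) := hcov ▸ Finset.mem_univ x
  obtain ⟨T, hT, hxT⟩ := Finset.mem_biUnion.1 hxu
  have hne : Q ≠ T := fun e => hx.2 (e ▸ hxT)
  have hd := fib_disj _ Q (Finset.mem_filter.2 ⟨hQ4, rfl⟩) T hT hne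
  have hT4 : T.card = 4 := (Finset.mem_powersetCard.1 (Finset.mem_filter.1 hT).1).2
  have hFQ : F = insert x Q := (Finset.eq_of_subset_of_card_le (Finset.insert_subset hx.1 hQF)
    (by rw [Finset.card_insert_of_notMem hx.2, hQ, hF])).symm
  have hU : word₂ (symmDiff Q T) ∈ C := hq Q T (Finset.mem_filter.1 hT).2.symm
  refine ⟨symmDiff Q T, ⟨mem_words_iff.2 ⟨hU, ?_⟩, ?_⟩, ?_⟩
  · have hc := card_symmDiff' Q T
    rw [Finset.disjoint_iff_inter_eq_empty.1 hd, hQ, hT4] at hc
    simpa using hc
  · rw [hFQ, hd.symmDiff_eq_sup, Finset.sup_eq_union]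
    exact Finset.insert_subset (Finset.mem_union_right _ hxT) Finset.subset_union_left
  · rintro b ⟨hb, hFb⟩
    rw [mem_words_iff] at hb
    have hQT : F ⊆ symmDiff Q T := by
      rw [hFQ, hd.symmDiff_eq_sup, Finset.sup_eq_union]
      exact Finset.insert_subset (Finset.mem_union_right _ hxT) Finset.subset_union_left
    have h5 : 5 ≤ (b ∩ symmDiff Q T).card := hF ▸ Finset.card_le_card (Finset.subset_inter hFb hQT)
    have h8 : (symmDiff Q T).card = 8 := by
      have hc := card_symmDiff' Q T
      rw [Finset.disjoint_iff_inter_eq_empty.1 hd, hQ, hT4] at hc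
      simpa using hc
    have hw : word₂ (symmDiff b (symmDiff Q T)) ∈ C := word₂_sub b (symmDiff Q T) ▸ sub_mem hb.1 hU
    exact symmDiff_eq_bot.1 (hsmall _ hw (by
      have := card_symmDiff' b (symmDiff Q T); omega))


theorem exists_golay_relabel (hα : Fintype.card α = 24) (C : Submodule (ZMod 2) (α → ZMod 2))
    (hdim : Module.finrank (ZMod 2) C = 12) (hmin : ∀ w ∈ C, w ≠ 0 → 8 ≤ hammingNorm w) :
    ∃ e : α ≃ GolayPt, ∀ w : α → ZMod 2, w ∈ C ↔ (fun p => w (e.symm p)) ∈ golayCode := by
  classical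
  obtain ⟨e, he⟩ := exists_octad_iso (steiner_of_minWeight hα C hdim hmin) hα
  refine ⟨e, ?_⟩
  let L : (α → ZMod 2) ≃ₗ[ZMod 2] (GolayPt → ZMod 2) :=
    LinearEquiv.funCongrLeft (ZMod 2) (ZMod 2) e.symm
  have hle : golayCode ≤ C.map (L : (α → ZMod 2) →ₗ[ZMod 2] (GolayPt → ZMod 2)) := by
    rw [Golay24.golayCode_eq_span, Submodule.span_le]
    rintro _ ⟨i, rfl⟩
    have hb : Golay24.isOct (Golay24.basisMasks.getD i 0) = true := by
      revert i
      decide +kernel
    have hmem := Golay24.setOf_mem_octads hb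
    rw [← he] at hmem
    obtain ⟨b, hb', hbe⟩ := hmem
    obtain ⟨hw, -⟩ := mem_words_iff.1 hb'
    refine ⟨word₂ b, hw, Golay24.support₂_injective ?_⟩
    rw [Golay24.basisWord, Golay24.support₂_wordOf, ← hbe]
    ext x
    simp [L, support₂, word₂, LinearEquiv.funCongrLeft_apply, LinearMap.funLeft,
      Equiv.symm_apply_eq]
    exact ⟨fun h => ⟨_, h, by simp⟩, fun ⟨a, ha, hax⟩ => by simpa [← hax] using ha⟩
  have heq : golayCode = C.map (L : (α → ZMod 2) →ₗ[ZMod 2] (GolayPt → ZMod 2)) :=
    Submodule.eq_of_le_of_finrank_le hle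
      (by rw [LinearEquiv.finrank_map_eq, hdim, Golay24.golayCode_finrank])
  intro w
  rw [heq]
  exact ⟨fun h => ⟨w, h, rfl⟩, fun ⟨v, hv, hve⟩ => L.injective hve ▸ hv⟩

theorem hammingNorm_relabel {β : Type*} [Fintype β] [DecidableEq β] (e : α ≃ β)
    (w : α → ZMod 2) : hammingNorm (fun p => w (e.symm p)) = hammingNorm w := by
  refine (Finset.card_equiv e ?_).symm
  intro a
  simp

end Cfsg.Agent.Steiner
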