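import Cfsg.Agent.Lib.Steiner.Search22

/-!
Every S(3, 6, 22) is the standard one: the labelling.
-/

set_option autoImplicit false

namespace Cfsg.Agent.Steiner.Search22

open Cfsg Search

variable {α : Type*} [Fintype α] [DecidableEq α] {B : Set (Finset α)}
  (hB : IsSteinerSystem 3 6 B) (hα : Fintype.card α = 22)
include hB hα

/-- A labelling of the points putting nine blocks in normal position. -/
theorem exists_label : ∃ e : α ≃ Fin 22, ∀ c ∈ init22, ∃ b ∈ B, msk (b.image e) = c := by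
  obtain ⟨P, Q, hPQ⟩ := Fintype.exists_pair_of_one_lt_card (α := α) (by omega)
  let K := (blocks B).filter fun x => P ∈ x ∧ Q ∈ x
  let L : Fin 5 → Finset α := fun i => ((Finset.equivFinOfCardEq (common_points22 hB hα hPQ)).symm i).1
  have hL : ∀ i, L i ∈ B ∧ P ∈ L i ∧ Q ∈ L i := fun i => by
    have h : L i ∈ (blocks B).filter fun x => P ∈ x ∧ Q ∈ x := ((Finset.equivFinOfCardEq (common_points22 hB hα hPQ)).symm i).2
    simpa [and_assoc] using h
  have hLinj : Function.Injective L := fun i j h =>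
    (Finset.equivFinOfCardEq (common_points22 hB hα hPQ)).symm.injective (Subtype.ext h)
  have hLL : ∀ i j, i ≠ j → ∀ x, x ∈ L i → x ∈ L j → x = P ∨ x = Q := by
    intro i j hij x hi hj
    by_contra hx
    rw [not_or] at hx
    exact hij (hLinj (eq_of_subset hB (s := {P, Q, x})
      (by rw [Finset.card_eq_three.2 ⟨P, Q, x, hPQ, Ne.symm hx.1, Ne.symm hx.2, rfl⟩])
      (hL i).1 (hL j).1 (by simp [Finset.insert_subset_iff, (hL i).2.1, (hL i).2.2, hi])
      (by simp [Finset.insert_subset_iff, (hL j).2.1, (hL j).2.2, hj])))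
  obtain ⟨R0, hR0⟩ := Finset.card_pos.1 (show 0 < (((L 0).erase P).erase Q).card by
    rw [Finset.card_erase_of_mem (Finset.mem_erase.2 ⟨hPQ.symm, (hL 0).2.2⟩),
      Finset.card_erase_of_mem (hL 0).2.1, hB.1 _ (hL 0).1]
    norm_num)
  simp only [Finset.mem_erase] at hR0
  obtain ⟨hR0Q, hR0P, hR0L⟩ := hR0
  let K' := ((blocks B).filter fun x => P ∈ x ∧ R0 ∈ x).erase (L 0)
  have hK' : K'.card = 4 := by
    rw [Finset.card_erase_of_mem (by simp [hL 0, hR0L]), common_points22 hB hα (Ne.symm hR0P)]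
  let C : Fin 4 → Finset α := fun j => ((Finset.equivFinOfCardEq hK').symm j).1
  have hC : ∀ j, C j ∈ B ∧ P ∈ C j ∧ R0 ∈ C j ∧ C j ≠ L 0 := fun j => by
    have h := ((Finset.equivFinOfCardEq hK').symm j).2
    simp only [K', Finset.mem_erase, Finset.mem_filter, mem_blocks] at h
    exact ⟨h.2.1, h.2.2.1, h.2.2.2, h.1⟩
  have hCinj : Function.Injective C := fun i j h =>
    (Finset.equivFinOfCardEq hK').symm.injective (Subtype.ext h)
  have hR0i : ∀ i : Fin 4, R0 ∉ L i.succ := fun i h =>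
    (hLL 0 i.succ (Fin.succ_ne_zero i).symm R0 hR0L h).elim hR0P hR0Q
  have hQC : ∀ j, Q ∉ C j := fun j h =>
    (hC j).2.2.2 (eq_of_subset hB (s := {P, Q, R0})
      (by rw [Finset.card_eq_three.2 ⟨P, Q, R0, hPQ, Ne.symm hR0P, Ne.symm hR0Q, rfl⟩])
      (hC j).1 (hL 0).1 (by simp [Finset.insert_subset_iff, (hC j).2.1, h, (hC j).2.2.1])
      (by simp [Finset.insert_subset_iff, (hL 0).2.1, (hL 0).2.2, hR0L]))
  have hpt : ∀ (i : Fin 4) (j : Fin 4), ∃ x, x ∈ L i.succ ∧ x ∈ C j ∧ x ≠ P := by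
    intro i j
    have hne : L i.succ ≠ C j := fun e => hQC j (e ▸ (hL _).2.2)
    have hpos : 0 < (L i.succ ∩ C j).card :=
      Finset.card_pos.2 ⟨P, Finset.mem_inter.2 ⟨(hL _).2.1, (hC j).2.1⟩⟩
    obtain ⟨x, hx⟩ := Finset.card_pos.1 (show 0 < ((L i.succ ∩ C j).erase P).card by
      rw [Finset.card_erase_of_mem (Finset.mem_inter.2 ⟨(hL _).2.1, (hC j).2.1⟩)]
      rcases inter22 hB hα (hL _).1 (hC j).1 hne with h | h <;> omega)
    simp only [Finset.mem_erase, Finset.mem_inter] at hx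
    exact ⟨x, hx.2.1, hx.2.2, hx.1⟩
  choose pt hptL hptC hptP using hpt
  have hptQ : ∀ i j, pt i j ≠ Q := fun i j e => hQC j (e ▸ hptC i j)
  have hpt0 : ∀ i j, pt i j ∉ L 0 := fun i j h =>
    (hLL 0 i.succ (Fin.succ_ne_zero i).symm _ h (hptL i j)).elim (hptP i j) (hptQ i j)
  have hptinj : ∀ i j i' j', pt i j = pt i' j' → i = i' ∧ j = j' := by
    intro i j i' j' e
    have hi : i = i' := by
      by_contra hne
      exact (hLL i.succ i'.succ (fun h => hne (Fin.succ_injective _ h)) _ (hptL i j) (e ▸ hptL i' j')).elim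
        (hptP i j) (hptQ i j)
    subst hi
    refine ⟨rfl, hCinj (eq_of_subset hB (s := {P, R0, pt i j})
      (by rw [Finset.card_eq_three.2 ⟨P, R0, pt i j, Ne.symm hR0P, Ne.symm (hptP i j),
        fun h => hR0i i (h ▸ hptL i j), rfl⟩]) (hC j).1 (hC j').1
      (by simp [Finset.insert_subset_iff, (hC j).2.1, (hC j).2.2.1, hptC])
      (by simp [Finset.insert_subset_iff, (hC j').2.1, (hC j').2.2.1, e, hptC]))⟩
  let rest := (((L 0).erase P).erase Q).erase R0
  have hrest : rest.card = 3 := by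
    rw [Finset.card_erase_of_mem (by simp [hR0Q, hR0P, hR0L]), Finset.card_erase_of_mem
      (Finset.mem_erase.2 ⟨hPQ.symm, (hL 0).2.2⟩), Finset.card_erase_of_mem (hL 0).2.1, hB.1 _ (hL 0).1]
  let r : Fin 3 → α := fun k => ((Finset.equivFinOfCardEq hrest).symm k).1
  have hr : ∀ k, r k ≠ R0 ∧ r k ≠ Q ∧ r k ≠ P ∧ r k ∈ L 0 := fun k => by
    have h := ((Finset.equivFinOfCardEq hrest).symm k).2
    simp only [rest, Finset.mem_erase] at h
    exact ⟨h.1, h.2.1, h.2.2.1, h.2.2.2⟩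
  have hrinj : Function.Injective r := fun i j h =>
    (Finset.equivFinOfCardEq hrest).symm.injective (Subtype.ext h)
  let f : Fin 22 → α := fun x =>
    if x.val = 21 then P else if x.val = 20 then Q else if x.val = 0 then R0
    else if h : x.val < 4 then r ⟨x.val - 1, by omega⟩
    else if h' : x.val < 20 then pt ⟨x.val / 4 - 1, by omega⟩ ⟨x.val % 4, by omega⟩ else P
  have hf : Function.Injective f := by
    intro x y h
    have key : ∀ z : Fin 22, (z.val = 21 ∧ f z = P) ∨ (z.val = 20 ∧ f z = Q) ∨ (z.val = 0 ∧ f z = R0) ∨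
        (∃ k : Fin 3, z.val = k.val + 1 ∧ f z = r k) ∨
        ∃ i j : Fin 4, z.val = 4 * (i.val + 1) + j.val ∧ f z = pt i j := by
      intro z
      simp only [f]
      split_ifs with h1 h2 h3 h4 h5
      · exact Or.inl ⟨h1, rfl⟩
      · exact Or.inr (Or.inl ⟨h2, rfl⟩)
      · exact Or.inr (Or.inr (Or.inl ⟨h3, rfl⟩))
      · exact Or.inr (Or.inr (Or.inr (Or.inl ⟨_, by simp; omega, rfl⟩)))
      · exact Or.inr (Or.inr (Or.inr (Or.inr ⟨_, _, by simp; omega, rfl⟩)))
      · omega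
    rcases key x with ⟨hx, ex⟩ | ⟨hx, ex⟩ | ⟨hx, ex⟩ | ⟨k, hx, ex⟩ | ⟨i, j, hx, ex⟩ <;>
      rcases key y with ⟨hy, ey⟩ | ⟨hy, ey⟩ | ⟨hy, ey⟩ | ⟨k', hy, ey⟩ | ⟨i', j', hy, ey⟩ <;>
      rw [ex, ey] at h <;> apply Fin.ext <;>
      first
        | omega
        | exact absurd h hPQ
        | exact absurd h.symm hPQ
        | exact absurd h hR0P
        | exact absurd h.symm hR0P
        | exact absurd h hR0Q
        | exact absurd h.symm hR0Q
        | exact absurd h (hr k).1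
        | exact absurd h (hr k).2.1
        | exact absurd h (hr k).2.2.1
        | exact absurd h.symm (hr k').1
        | exact absurd h.symm (hr k').2.1
        | exact absurd h.symm (hr k').2.2.1
        | exact absurd h (hptP i j)
        | exact absurd h (hptQ i j)
        | exact absurd h.symm (hptP i' j')
        | exact absurd h.symm (hptQ i' j')
        | exact absurd (h ▸ hR0L : pt i j ∈ L 0) (hpt0 i j)
        | exact absurd (h.symm ▸ hR0L : pt i' j' ∈ L 0) (hpt0 i' j')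
        | exact absurd (h ▸ (hr k').2.2.2 : pt i j ∈ L 0) (hpt0 i j)
        | exact absurd (h.symm ▸ (hr k).2.2.2 : pt i' j' ∈ L 0) (hpt0 i' j')
        | (have := hrinj h; subst this; omega)
        | (obtain ⟨rfl, rfl⟩ := hptinj _ _ _ _ h; omega)
  let e : α ≃ Fin 22 := (Equiv.ofBijective f ((Fintype.bijective_iff_injective_and_card f).2
    ⟨hf, by rw [hα, Fintype.card_fin]⟩)).symm
  have himg : ∀ (b : Finset α) (S : Finset (Fin 22)), b ∈ B → S.card = 6 → (∀ x ∈ S, f x ∈ b) →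
      msk (b.image e) = msk S := by
    intro b S hb hS h
    congr 1
    refine (Finset.eq_of_subset_of_card_le (fun x hx => Finset.mem_image.2 ⟨f x, h x hx, ?_⟩) ?_).symm
    · exact e.symm_apply_eq.1 rfl |>.symm
    · rw [Finset.card_image_of_injective _ e.injective, hB.1 b hb, hS]
  have hf21 : f 21 = P := rfl
  have hf20 : f 20 = Q := rfl
  have hf0 : f 0 = R0 := rfl
  have hpt' : ∀ (i j : Fin 4) (x : Fin 22), x.val = 4 * (i.val + 1) + j.val → f x = pt i j := by
    intro i j x hx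
    simp only [f]
    split_ifs <;> first
      | omega
      | exact congrArg₂ pt (Fin.ext (by simp; omega)) (Fin.ext (by simp; omega))
  have hr' : ∀ (k : Fin 3) (x : Fin 22), x.val = k.val + 1 → f x = r k := by
    intro k x hx
    simp only [f]
    split_ifs <;> first
      | omega
      | exact congrArg r (Fin.ext (by simp; omega))
  let qs : Fin 4 → Finset (Fin 22) := fun i => Finset.univ.filter fun x => x.val / 4 = i.val + 1 ∨ 20 ≤ x.val
  let cs : Fin 4 → Finset (Fin 22) := fun j =>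
    Finset.univ.filter fun x => x.val = 0 ∨ x.val = 21 ∨ (4 ≤ x.val ∧ x.val < 20 ∧ x.val % 4 = j.val)
  have hnum : (∀ i, (qs i).card = 6 ∧ (cs i).card = 6) ∧
      msk ({0, 1, 2, 3, 20, 21} : Finset (Fin 22)) = init22.getD 0 0 ∧
      (∀ i : Fin 4, msk (qs i) = init22.getD (i.val + 1) 0) ∧
      ∀ j : Fin 4, msk (cs j) = init22.getD (j.val + 5) 0 := by decide +kernel
  have h0 : ∃ b ∈ B, msk (b.image e) = init22.getD 0 0 := by
    refine ⟨L 0, (hL 0).1, (himg _ _ (hL 0).1 (by decide +kernel) ?_).trans hnum.2.1⟩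
    simp only [Finset.mem_insert, Finset.mem_singleton, forall_eq_or_imp, forall_eq]
    rw [hf21, hf20, hf0, hr' 0 1 rfl, hr' 1 2 rfl, hr' 2 3 rfl]
    exact ⟨hR0L, (hr 0).2.2.2, (hr 1).2.2.2, (hr 2).2.2.2, (hL 0).2.2, (hL 0).2.1⟩
  have hq : ∀ i : Fin 4, ∃ b ∈ B, msk (b.image e) = init22.getD (i.val + 1) 0 := by
    intro i
    refine ⟨L i.succ, (hL _).1, (himg _ _ (hL _).1 (hnum.1 i).1 fun x hx => ?_).trans (hnum.2.2.1 i)⟩
    simp only [qs, Finset.mem_filter, Finset.mem_univ, true_and] at hx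
    rcases hx with hx | hx
    · rw [hpt' i ⟨x.val % 4, by omega⟩ x (by simp; omega)]
      exact hptL _ _
    · rcases (show x = 20 ∨ x = 21 by omega) with rfl | rfl
      · exact hf20 ▸ (hL _).2.2
      · exact hf21 ▸ (hL _).2.1
  have hc' : ∀ j : Fin 4, ∃ b ∈ B, msk (b.image e) = init22.getD (j.val + 5) 0 := by
    intro j
    refine ⟨C j, (hC j).1, (himg _ _ (hC j).1 (hnum.1 j).2 fun x hx => ?_).trans (hnum.2.2.2 j)⟩
    simp only [cs, Finset.mem_filter, Finset.mem_univ, true_and] at hx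
    rcases hx with hx | hx | ⟨h4, h20, hx⟩
    · rw [show x = 0 from Fin.ext hx, hf0]; exact (hC j).2.2.1
    · rw [show x = 21 from Fin.ext hx, hf21]; exact (hC j).2.1
    · rw [hpt' ⟨x.val / 4 - 1, by omega⟩ j x (by simp; omega)]
      exact hptC _ _
  refine ⟨e, fun c hc => ?_⟩
  simp only [init22, List.mem_cons, List.not_mem_nil, or_false] at hc
  rcases hc with rfl | rfl | rfl | rfl | rfl | rfl | rfl | rfl | rfl
  exacts [h0, hq 0, hq 1, hq 2, hq 3, hc' 0, hc' 1, hc' 2, hc' 3]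

theorem exists_std22_iso : ∃ e : α ≃ Fin 22, (fun b => b.image e) '' B = sysOf 22 std22 := by
  obtain ⟨e₀, he₀⟩ := exists_label hB hα
  have hB0 := steiner_image hB e₀
  have hmeet : ∀ {C : Set (Finset (Fin 22))}, IsSteinerSystem 3 6 C →
      ∀ b ∈ C, ∀ c ∈ C, b ≠ c → (b ∩ c).card = 0 ∨ (b ∩ c).card = 2 := fun hC b hb c hc hne =>
    inter22 hC (Fintype.card_fin 22) hb hc hne
  obtain ⟨σ₁, hσ₁⟩ := check_spec (by norm_num) hB0 (hmeet hB0) 100 init22 treeE [] treeE_ok fun c hc => by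
    obtain ⟨b, hb, h⟩ := he₀ c hc
    exact ⟨_, ⟨b, hb, rfl⟩, h⟩
  have hB1 := steiner_image hB (e₀.trans σ₁)
  obtain ⟨σ₂, hσ₂⟩ := check_spec (by norm_num) hB1 (hmeet hB1) 100 frame22 treeF [] treeF_ok fun c hc => by
    obtain ⟨_, ⟨b, hb, rfl⟩, hbc⟩ := hσ₁ c hc
    exact ⟨_, ⟨b, hb, rfl⟩, by rw [← hbc, Finset.image_image]; rfl⟩
  refine ⟨(e₀.trans σ₁).trans σ₂, (steiner_eq_of_subset (isSteiner_sysOf steiner22_ok) (steiner_image hB _)
    (by norm_num) ?_).symm⟩
  intro a ha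
  obtain ⟨_, ⟨b, hb, rfl⟩, hbc⟩ := hσ₂ _ ha
  refine ⟨b, hb, msk_injective ?_⟩
  rw [← hbc, Finset.image_image]
  rfl

end Cfsg.Agent.Steiner.Search22
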