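import Cfsg.Agent.Lib.Steiner.Count22
import Cfsg.Agent.Lib.Steiner.Unique22
import Cfsg.Agent.Lib.Golay.Conj
import Cfsg.Agent.Lib.Golay.Gens

/-!
The automorphism group of the standard S(3, 6, 22).
-/

set_option autoImplicit false

namespace Cfsg.Agent.Steiner.Search22

open Cfsg Search
open scoped Pointwise

theorem std22_facts : (∀ m ∈ std22, m < 2 ^ 22) ∧
    msk ({0, 1, 2, 4, 13, 16} : Finset (Fin 22)) ∈ std22 := by decide +kernel

theorem aut22_eq_one {σ : Equiv.Perm (Fin 22)} (hσ : σ ∈ setSystemAut (sysOf 22 std22))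
    (h : ∀ i ∈ ([0, 1, 2, 4, 13, 16, 3] : List (Fin 22)), σ i = i) : σ = 1 := by
  refine rigidIn_spec (by norm_num) std22_facts.1 σ (fun b hb => ?_) _ _ _ rigid22 ?_
  · exact ((mem_setSystemAut_iff _ _).1 hσ).subset ⟨b, hb, rfl⟩
  · intro j hj
    have key : ∀ j : Fin 22, Nat.testBit (2 ^ 0 + 2 ^ 1 + 2 ^ 2 + 2 ^ 4 + 2 ^ 13 + 2 ^ 16 + 2 ^ 3) j.val = true →
        j ∈ ([0, 1, 2, 4, 13, 16, 3] : List (Fin 22)) ∧
          look (0 + 1 * 2 ^ 5 + 2 * 2 ^ 10 + 4 * 2 ^ 20 + 13 * 2 ^ 65 + 16 * 2 ^ 80 + 3 * 2 ^ 15) j.val = j.val := by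
      decide +kernel
    obtain ⟨h1, h2⟩ := key j hj
    rw [h j h1]
    exact h2

theorem card_aut22_le : Nat.card (setSystemAut (sysOf 22 std22)) ≤ 887040 := by
  classical
  let A : Finset (Equiv.Perm (Fin 22)) := Finset.univ.filter (· ∈ setSystemAut (sysOf 22 std22))
  have hA : Nat.card (setSystemAut (sysOf 22 std22)) = A.card := by
    rw [Nat.card_eq_fintype_card, ← Fintype.card_subtype]
  rw [hA]
  have hB := isSteiner_sysOf steiner22_ok
  let three : Equiv.Perm (Fin 22) → (Fin 3 ↪ Fin 22) := fun σ => (Fin.castLEEmb (by norm_num : 3 ≤ 22)).trans σ.toEmbedding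
  refine (Finset.card_le_mul_card_image A (f := three) 96 ?_).trans ?_
  swap
  · refine (Nat.mul_le_mul_left _ (Finset.card_le_univ _)).trans (le_of_eq ?_)
    rw [Fintype.card_embedding_eq, Fintype.card_fin, Fintype.card_fin]
    decide +kernel
  intro x hx
  obtain ⟨σ₀, hσ₀, rfl⟩ := Finset.mem_image.1 hx
  let b₀ : Finset (Fin 22) := {0, 1, 2, 4, 13, 16}
  let b := b₀.image σ₀
  let R := b \ {σ₀ 0, σ₀ 1, σ₀ 2}
  have hb₀ : b₀ ∈ sysOf 22 std22 := std22_facts.2
  have himg : ∀ σ ∈ A, three σ = three σ₀ → b₀.image σ = b ∧ σ 0 = σ₀ 0 ∧ σ 1 = σ₀ 1 ∧ σ 2 = σ₀ 2 := by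
    intro σ hσ h
    have e0 : σ 0 = σ₀ 0 := congrArg (fun f : Fin 3 ↪ Fin 22 => f 0) h
    have e1 : σ 1 = σ₀ 1 := congrArg (fun f : Fin 3 ↪ Fin 22 => f 1) h
    have e2 : σ 2 = σ₀ 2 := congrArg (fun f : Fin 3 ↪ Fin 22 => f 2) h
    refine ⟨?_, e0, e1, e2⟩
    refine eq_of_subset hB (s := ({0, 1, 2} : Finset (Fin 22)).image σ₀)
      (by rw [Finset.card_image_of_injective _ σ₀.injective]; decide)
      (((mem_setSystemAut_iff _ _).1 (Finset.mem_filter.1 hσ).2).subset ⟨b₀, hb₀, rfl⟩)
      (((mem_setSystemAut_iff _ _).1 (Finset.mem_filter.1 hσ₀).2).subset ⟨b₀, hb₀, rfl⟩) ?_ ?_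
    · have : ({0, 1, 2} : Finset (Fin 22)).image σ₀ = ({0, 1, 2} : Finset (Fin 22)).image σ := by
        simp [e0, e1, e2]
      rw [this]
      exact Finset.image_subset_image (by decide)
    · exact Finset.image_subset_image (by decide)
  have hRc : R.card = 3 := by
    have e : R = ({4, 13, 16} : Finset (Fin 22)).image σ₀ := by
      show b₀.image σ₀ \ _ = _
      rw [show ({σ₀ 0, σ₀ 1, σ₀ 2} : Finset (Fin 22)) = ({0, 1, 2} : Finset (Fin 22)).image σ₀ by simp,
        ← Finset.image_sdiff _ _ σ₀.injective]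
      congr 1
    rw [e, Finset.card_image_of_injective _ σ₀.injective]
    decide
  refine (Finset.card_le_card_of_injOn (fun σ => ((σ 4, σ 13), σ 3)) (t := R.offDiag ×ˢ bᶜ) ?_ ?_).trans ?_
  · intro σ hσ
    obtain ⟨hσA, h⟩ := Finset.mem_filter.1 (Finset.mem_coe.1 hσ)
    obtain ⟨hb, e0, e1, e2⟩ := himg σ hσA h
    have hin : ∀ i ∈ b₀, σ i ∈ b := fun i hi => hb ▸ Finset.mem_image_of_mem σ hi
    simp only [Finset.mem_coe, Finset.mem_product, Finset.mem_offDiag, Finset.mem_compl, R, Finset.mem_sdiff,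
      Finset.mem_insert, Finset.mem_singleton, ← e0, ← e1, ← e2, σ.injective.eq_iff]
    refine ⟨⟨⟨hin 4 (by decide), by decide⟩, ⟨hin 13 (by decide), by decide⟩, by simp⟩, fun h3 => ?_⟩
    rw [← hb, Finset.mem_image] at h3
    obtain ⟨i, hi, e⟩ := h3
    rw [σ.injective e] at hi
    revert hi; decide
  · intro σ hσ τ hτ he
    obtain ⟨hσA, hs⟩ := Finset.mem_filter.1 (Finset.mem_coe.1 hσ)
    obtain ⟨hτA, ht⟩ := Finset.mem_filter.1 (Finset.mem_coe.1 hτ)
    obtain ⟨hbσ, a0, a1, a2⟩ := himg σ hσA hs
    obtain ⟨hbτ, c0, c1, c2⟩ := himg τ hτA ht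
    simp only [Prod.mk.injEq] at he
    obtain ⟨⟨h4, h13⟩, h3⟩ := he
    have h16 : σ 16 = τ 16 := by
      have hm : τ 16 ∈ b₀.image σ := by rw [hbσ, ← hbτ]; exact Finset.mem_image_of_mem τ (by decide)
      obtain ⟨i, hi, e⟩ := Finset.mem_image.1 hm
      simp only [b₀, Finset.mem_insert, Finset.mem_singleton] at hi
      rcases hi with rfl | rfl | rfl | rfl | rfl | rfl
      · rw [a0, ← c0] at e; exact absurd (τ.injective e) (by decide)
      · rw [a1, ← c1] at e; exact absurd (τ.injective e) (by decide)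
      · rw [a2, ← c2] at e; exact absurd (τ.injective e) (by decide)
      · rw [h4] at e; exact absurd (τ.injective e) (by decide)
      · rw [h13] at e; exact absurd (τ.injective e) (by decide)
      · exact e
    have h1 := aut22_eq_one (σ := τ⁻¹ * σ)
      (mul_mem (inv_mem (Finset.mem_filter.1 hτA).2) (Finset.mem_filter.1 hσA).2) (fun i hi => by
        show τ.symm (σ i) = i
        rw [Equiv.symm_apply_eq]
        simp only [List.mem_cons, List.not_mem_nil, or_false] at hi
        rcases hi with rfl | rfl | rfl | rfl | rfl | rfl | rfl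
        exacts [a0.trans c0.symm, a1.trans c1.symm, a2.trans c2.symm, h4, h13, h16, h3])
    exact (inv_mul_eq_one.1 h1).symm
  · rw [Finset.card_product, Finset.offDiag_card, hRc, Finset.card_compl, Fintype.card_fin,
      Finset.card_image_of_injective _ σ₀.injective]
    decide

/-- Positions 22 and 23. -/
def ptA : GolayPt := Golay24.pt 22
/-- Positions 22 and 23. -/
def ptB : GolayPt := Golay24.pt 23
/-- The other twenty-two positions. -/
def P22 (i : Fin 22) : GolayPt := Golay24.pt ⟨i.val, by omega⟩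

theorem P22_spec : Function.Injective P22 ∧ ptA ≠ ptB ∧
    (Finset.univ : Finset GolayPt) \ {ptA, ptB} = Finset.univ.image P22 ∧
    std22.all (fun c => Golay24.inCode (Nat.lor c 12582912) && (Golay24.pop24 (Nat.lor c 12582912) == 8)) = true := by
  decide +kernel

theorem octad_of_block {b : Finset (Fin 22)} (hb : b ∈ sysOf 22 std22) :
    insert ptA (insert ptB (b.image P22)) ∈ octads := by
  obtain ⟨-, -, -, h⟩ := P22_spec
  simp only [List.all_eq_true, Bool.and_eq_true, beq_iff_eq] at h
  obtain ⟨hcode, hpop⟩ := h _ hb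
  have hlt : Nat.lor (msk b) 12582912 < 2 ^ 24 :=
    Nat.bitwise_lt_two_pow (lt_of_lt_of_le (Nat.ofBits_lt_two_pow _) (by norm_num)) (by norm_num)
  have e : Golay24.setOf (Nat.lor (msk b) 12582912) = insert ptA (insert ptB (b.image P22)) := by
    ext x
    rw [Golay24.mem_setOf, show Nat.lor (msk b) 12582912 = msk b ||| 12582912 from rfl, Nat.testBit_or]
    obtain ⟨i, rfl⟩ : ∃ i, Golay24.pt i = x := ⟨_, Golay24.pt_idx x⟩
    simp only [Golay24.idx_pt, Finset.mem_insert, Finset.mem_image, ptA, ptB, P22,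
      Golay24.ptEquiv.symm.injective.eq_iff, show ∀ a b, Golay24.pt a = Golay24.pt b ↔ a = b from
        fun a b => ⟨fun h => Golay24.ptEquiv.symm.injective h, fun h => h ▸ rfl⟩]
    by_cases hi : i.val < 22
    · rw [testBit_msk b ⟨i.val, hi⟩]
      have hf : (12582912 : ℕ).testBit i.val = false := by revert hi; revert i; decide +kernel
      simp only [hf, Bool.or_false, decide_eq_true_eq, Fin.ext_iff]
      exact ⟨fun h => Or.inr (Or.inr ⟨_, h, rfl⟩), fun h => h.elim (fun h => by simp at h; omega)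
        fun h => h.elim (fun h => by simp at h; omega) fun ⟨j, hj, e⟩ => (Fin.ext e : j = ⟨i.val, hi⟩) ▸ hj⟩
    · have ht : (12582912 : ℕ).testBit i.val = true := by revert hi; revert i; decide +kernel
      simp only [ht, Bool.or_true, true_iff, Fin.ext_iff]
      have := i.isLt
      rcases (show i.val = 22 ∨ i.val = 23 by omega) with h | h
      · exact Or.inl (by simpa using h)
      · exact Or.inr (Or.inl (by simpa using h))
  rw [← e, Golay24.mem_octads_iff, Golay24.maskOf_setOf hlt, Golay24.weightList, List.mem_filter,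
    Golay24.mem_codeList_iff_inCode hlt, beq_iff_eq]
  exact ⟨hcode, hpop⟩

/-- The setwise stabiliser of the two positions in M24. -/
def pairStab : Subgroup (Equiv.Perm GolayPt) :=
  M24 ⊓ MulAction.stabilizer (Equiv.Perm GolayPt) ({ptA, ptB} : Finset GolayPt)

theorem pairStab_cases {g : Equiv.Perm GolayPt} (hg : g ∈ pairStab) :
    g ptA ∈ ({ptA, ptB} : Finset GolayPt) ∧ g ptB ∈ ({ptA, ptB} : Finset GolayPt) := by
  have h : g • ({ptA, ptB} : Finset GolayPt) = {ptA, ptB} := hg.2
  constructor
  · rw [← h]; exact Finset.smul_mem_smul_finset (by simp)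
  · rw [← h]; exact Finset.smul_mem_smul_finset (by simp)

theorem card_pairStab : Nat.card pairStab = 887040 := by
  obtain ⟨-, hne, -, -⟩ := P22_spec
  refine Golay24.card_inf_stabilizer M24 _ (n := 276) (S := {s : Finset GolayPt | s.card = 2})
    (Finset.card_pair hne) (fun g _ y hy => by simpa using hy) (fun y hy => ?_) ?_ Golay24.card_M24 (by norm_num)
  · obtain ⟨a, b, hab, rfl⟩ := Finset.card_eq_two.1 hy
    obtain ⟨σ, hσ, h⟩ := Golay24.exists_map_le_five (n := 2) (by norm_num)
      ⟨![ptA, ptB], List.nodup_ofFn.1 (by simp [hne])⟩ ⟨![a, b], List.nodup_ofFn.1 (by simp [hab])⟩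
    refine ⟨σ, hσ, ?_⟩
    rw [Finset.smul_finset_def]
    simp only [Finset.image_insert, Finset.image_singleton, Equiv.Perm.smul_def]
    rw [show σ ptA = a from h 0, show σ ptB = b from h 1]
  · rw [show {s : Finset GolayPt | s.card = 2} = ↑((Finset.univ : Finset GolayPt).powersetCard 2) by
      ext s; simp, Set.ncard_coe_finset, Finset.card_powersetCard, Finset.card_univ]
    decide +kernel

theorem exists_split_octad : ∃ o ∈ octads, ptA ∈ o ∧ ptB ∉ o := by
  refine ⟨Golay24.setOf 5405696, ?_, ?_⟩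
  · rw [Golay24.mem_octads_iff, Golay24.maskOf_setOf (by norm_num), Golay24.weightList, List.mem_filter,
      Golay24.mem_codeList_iff_inCode (by norm_num)]
    decide +kernel
  · decide +kernel

theorem pairStab_spec : ∃ φ : pairStab →* setSystemAut (sysOf 22 std22), Function.Bijective φ ∧
    ∀ g i, P22 ((φ g).1 i) = g.1 (P22 i) := by
  obtain ⟨hP, hne, huniv, -⟩ := P22_spec
  have hout : ∀ i, P22 i ∉ ({ptA, ptB} : Finset GolayPt) := fun i hi => by
    have := huniv ▸ Finset.mem_image_of_mem P22 (Finset.mem_univ i)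
    exact (Finset.mem_sdiff.1 this).2 hi
  have hkeep : ∀ g ∈ pairStab, ∀ i, ∃ j, g (P22 i) = P22 j := by
    intro g hg i
    have : g (P22 i) ∈ (Finset.univ : Finset GolayPt) \ {ptA, ptB} := by
      rw [Finset.mem_sdiff]
      refine ⟨Finset.mem_univ _, fun h => hout i ?_⟩
      rw [← hg.2] at h
      obtain ⟨x, hx, e⟩ := Finset.mem_smul_finset.1 h
      rwa [← g.injective e]
    rw [huniv, Finset.mem_image] at this
    obtain ⟨j, -, hj⟩ := this
    exact ⟨j, hj.symm⟩
  have hK : ∀ g ∈ pairStab, g ∈ MulAction.stabilizer (Equiv.Perm GolayPt) (lifted P22 std22) := by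
    intro g hg
    rw [MulAction.mem_stabilizer_iff]
    refine Set.eq_of_subset_of_ncard_le ?_ (by rw [Set.ncard_smul_set]) (Set.toFinite _)
    rintro _ ⟨_, ⟨b, hb, rfl⟩, rfl⟩
    choose f hf using hkeep g hg
    let s := b.image f
    have hs : g • b.image P22 = s.image P22 := by
      rw [Finset.smul_finset_def, Finset.image_image, Finset.image_image]
      exact Finset.image_congr fun i _ => hf i
    have hsc : s.card = 6 := by
      rw [Finset.card_image_of_injective _ fun i j h => hP (g.injective (by rw [hf, hf, h])),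
        (isSteiner_sysOf steiner22_ok).1 b hb]
    obtain ⟨T, hT, hTc⟩ := Finset.exists_subset_card_eq (show 3 ≤ s.card by omega)
    obtain ⟨c, ⟨hc, hTc'⟩, -⟩ := (isSteiner_sysOf steiner22_ok).2 T hTc
    have ho : insert ptA (insert ptB (s.image P22)) ∈ octads := by
      have h := octad_of_block hb
      have hg' : g • octads = octads := by
        have := hg.1
        rw [Golay24.M24_eq_octadAut] at this
        exact this
      have hm := Set.smul_mem_smul_set (a := g) h
      rw [hg'] at hm
      have e : g • insert ptA (insert ptB (b.image P22)) = insert ptA (insert ptB (s.image P22)) := by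
        have h2 : g • ({ptA, ptB} : Finset GolayPt) = {ptA, ptB} := hg.2
        calc g • insert ptA (insert ptB (b.image P22)) = g • (({ptA, ptB} : Finset GolayPt) ∪ b.image P22) := by
              congr 1; ext x; simp [or_assoc]
          _ = ({ptA, ptB} : Finset GolayPt) ∪ s.image P22 := by rw [Finset.smul_finset_union, h2, hs]
          _ = _ := by ext x; simp [or_assoc]
      rwa [← e]
    have hsame : insert ptA (insert ptB (s.image P22)) = insert ptA (insert ptB (c.image P22)) := by
      refine eq_of_subset Golay24.isSteiner_octads (s := insert ptA (insert ptB (T.image P22))) ?_ ho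
        (octad_of_block hc) (by gcongr) (by gcongr)
      rw [Finset.card_insert_of_notMem, Finset.card_insert_of_notMem, Finset.card_image_of_injective _ hP, hTc]
      · intro h; obtain ⟨i, -, e⟩ := Finset.mem_image.1 h; exact hout i (by simp [e])
      · intro h
        rw [Finset.mem_insert, Finset.mem_image] at h
        rcases h with h | ⟨i, -, e⟩
        · exact hne h
        · exact hout i (by simp [e])
    refine ⟨c, hc, ?_⟩
    dsimp only
    rw [hs]
    ext x
    have hx := Finset.ext_iff.1 hsame x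
    simp only [Finset.mem_insert] at hx
    by_cases hxp : x ∈ ({ptA, ptB} : Finset GolayPt)
    · constructor <;> intro h <;> obtain ⟨i, -, e⟩ := Finset.mem_image.1 h <;> exact absurd (e ▸ hxp) (hout i)
    · simp only [Finset.mem_insert, Finset.mem_singleton] at hxp
      rw [not_or] at hxp
      simpa [hxp.1, hxp.2] using hx.symm
  obtain ⟨φ, hφ⟩ := restrict_spec hP hkeep hK
  have hinj : Function.Injective φ := (injective_iff_map_eq_one φ).2 fun g hg => by
    have hfix : ∀ i, g.1 (P22 i) = P22 i := fun i => by rw [← hφ, hg]; rfl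
    refine Subtype.ext ?_
    by_contra hne1
    let T : Finset GolayPt := (Finset.univ.filter fun i : Fin 22 => i.val < 7).image P22
    obtain ⟨hA', hB'⟩ := pairStab_cases g.2
    have hswap : g.1 ptA = ptB := by
      rcases Finset.mem_insert.1 hA' with h | h
      · exfalso
        refine hne1 (Equiv.ext fun x => ?_)
        by_cases hx : x ∈ ({ptA, ptB} : Finset GolayPt)
        · rcases Finset.mem_insert.1 hx with rfl | hx
          · exact h
          · rw [Finset.mem_singleton] at hx
            subst hx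
            rcases Finset.mem_insert.1 hB' with h' | h'
            · exact absurd (g.1.injective (h'.trans h.symm)) hne.symm
            · exact Finset.mem_singleton.1 h'
        · have := huniv ▸ Finset.mem_sdiff.2 ⟨Finset.mem_univ x, hx⟩
          obtain ⟨i, -, rfl⟩ := Finset.mem_image.1 this
          exact hfix i
      · exact Finset.mem_singleton.1 h
    obtain ⟨o, ho, hAo, hBo⟩ := exists_split_octad
    have hgo : g.1 • o ∈ octads := by
      have := g.2.1
      rw [Golay24.M24_eq_octadAut] at this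
      have h2 := Set.smul_mem_smul_set (a := g.1) ho
      rwa [show g.1 • octads = octads from this] at h2
    have hko : ∀ x ∈ o, x ≠ ptA → x ≠ ptB → g.1 x = x := fun x _ h1 h2 => by
      have := huniv ▸ Finset.mem_sdiff.2 ⟨Finset.mem_univ x, by simp [h1, h2]⟩
      obtain ⟨i, -, rfl⟩ := Finset.mem_image.1 this
      exact hfix i
    have h5 : 5 ≤ ((o \ {ptA, ptB}) ∩ o).card := by
      have h1 := Golay24.isSteiner_octads.1 o ho
      have h2 : (o \ {ptA, ptB}).card + (o ∩ {ptA, ptB}).card = o.card := Finset.card_sdiff_add_card_inter _ _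
      have h3 : (o ∩ {ptA, ptB}).card ≤ 2 := (Finset.card_le_card Finset.inter_subset_right).trans Finset.card_le_two
      rw [Finset.inter_eq_left.2 Finset.sdiff_subset]
      omega
    have hsub : o \ {ptA, ptB} ⊆ g.1 • o := fun x hx => by
      simp only [Finset.mem_sdiff, Finset.mem_insert, Finset.mem_singleton, not_or] at hx
      rw [← hko x hx.1 hx.2.1 hx.2.2]
      exact Finset.smul_mem_smul_finset hx.1
    have heq : g.1 • o = o := eq_of_subset Golay24.isSteiner_octads
      (s := o \ {ptA, ptB}) (by rw [Finset.inter_eq_left.2 Finset.sdiff_subset] at h5; exact h5) hgo ho hsub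
      Finset.sdiff_subset
    refine hBo ?_
    rw [← heq, ← hswap]
    exact Finset.smul_mem_smul_finset hAo
  exact ⟨φ, ⟨hinj, ((Nat.bijective_iff_injective_and_card φ).2 ⟨hinj, le_antisymm (Nat.card_le_card_of_injective φ hinj)
    (card_aut22_le.trans card_pairStab.ge)⟩).2⟩, hφ⟩

end Cfsg.Agent.Steiner.Search22
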