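import Mathlib.Algebra.BigOperators.Ring.Finset
import Mathlib.Data.Fintype.EquivFin
import Mathlib.Data.List.Sublists
import Mathlib.Data.Nat.Bitwise
import Mathlib.Data.Finset.Powerset
import Mathlib.Tactic

/-!
The biplane on eleven points has one labelling up to symmetry.
-/

set_option autoImplicit false

namespace Cfsg.Agent.Steiner

open Finset

/-- The six-element complements of the blocks of the standard biplane. -/
def stdSix : List ℕ := [2016, 380, 1210, 918, 1614, 729, 1589, 1421, 1363, 811, 231]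

/-- The ten edges on five points. -/
def edgeList : List (Fin 5 × Fin 5) :=
  [(0,1),(0,2),(0,3),(0,4),(1,2),(1,3),(1,4),(2,3),(2,4),(3,4)]

/-- The end points of an edge. -/
def edge (k : Fin 10) : Fin 5 × Fin 5 := edgeList.getD k.val (0, 0)

/-- Edge sets of valency two. -/
def pentList : List ℕ :=
  (List.range 1024).filter fun m => decide (∀ v : Fin 5,
    (Finset.univ.filter fun k : Fin 10 => m.testBit k.val ∧ ((edge k).1 = v ∨ (edge k).2 = v)).card = 2)

/-- The two ways of choosing six pentagons. -/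
def pentSol : Fin 2 → Fin 6 → ℕ
  | 0 => ![220, 358, 425, 570, 707, 789]
  | 1 => ![234, 316, 453, 598, 665, 803]

/-- Relabelling of the five points carrying each way to the first. -/
def relabel : Fin 2 → Fin 5 → Fin 5
  | 0 => ![0, 1, 2, 3, 4]
  | 1 => ![1, 0, 2, 3, 4]

/-- Its effect on edges. -/
def relEdge : Fin 2 → Fin 10 → Fin 10
  | 0 => ![0, 1, 2, 3, 4, 5, 6, 7, 8, 9]
  | 1 => ![0, 4, 5, 6, 1, 2, 3, 7, 8, 9]

/-- Number of common edges. -/
def commonEdges (a b : ℕ) : ℕ :=
  (Finset.univ.filter fun k : Fin 10 => a.testBit k.val ∧ b.testBit k.val).card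

theorem pent_eq : pentList = [220, 234, 316, 358, 425, 453, 570, 598, 665, 707, 789, 803] := by
  decide +kernel

theorem sixes : ∀ S ∈ pentList.sublistsLen 6, S.Pairwise (fun a b => commonEdges a b = 2) →
    ∃ w : Fin 2, ∀ j, pentSol w j ∈ S := by
  rw [pent_eq]
  decide +kernel

theorem relabel_spec : ∀ w, Function.Injective (relabel w) ∧ Function.Injective (relEdge w) ∧
    (∀ k, ({(edge (relEdge w k)).1, (edge (relEdge w k)).2} : Finset (Fin 5)) =
      {relabel w (edge k).1, relabel w (edge k).2}) ∧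
    ∀ j k, (pentSol w j).testBit (relEdge w k : Fin 10).val = (pentSol 0 j).testBit k.val := by
  decide +kernel

theorem std_spec :
    (∀ j : Fin 11, (stdSix.getD 0 0).testBit j.val = decide (5 ≤ j.val)) ∧
    (∀ k : Fin 10, ∀ a : Fin 5, (stdSix.getD (k.val + 1) 0).testBit a.val =
      decide (a ∉ ({(edge k).1, (edge k).2} : Finset (Fin 5)))) ∧
    ∀ k : Fin 10, ∀ j : Fin 6, (stdSix.getD (k.val + 1) 0).testBit (5 + j.val) =
      !(pentSol 0 j).testBit k.val := by
  decide +kernel

theorem edge_spec : ∀ k, (edge k).1 ≠ (edge k).2 ∧ ∀ l, ({(edge k).1, (edge k).2} : Finset (Fin 5)) =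
    {(edge l).1, (edge l).2} → k = l := by
  decide +kernel

theorem pentSol_inj : ∀ w, Function.Injective (pentSol w) := by decide +kernel

theorem sum_card_sq {ι P : Type*} [Fintype P] [DecidableEq P] (s : Finset ι) (A : ι → Finset P) :
    ∑ q : P, ((s.filter fun i => q ∈ A i).card) ^ 2 = ∑ i ∈ s, ∑ j ∈ s, (A i ∩ A j).card := by
  simp only [pow_two, Finset.card_filter, Finset.sum_mul_sum]
  rw [Finset.sum_comm]
  refine Finset.sum_congr rfl fun i _ => ?_
  rw [Finset.sum_comm]
  refine Finset.sum_congr rfl fun j _ => ?_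
  rw [← Finset.filter_mem_eq_inter (s := A i) (t := A j), Finset.card_filter, ← Finset.sum_filter_add_sum_filter_not Finset.univ (fun q => q ∈ A i),
    Finset.sum_eq_zero (s := Finset.univ.filter fun q => ¬ q ∈ A i) fun q hq => by
      rw [if_neg (Finset.mem_filter.1 hq).2, zero_mul], add_zero, Finset.filter_univ_mem]
  exact Finset.sum_congr rfl fun q hq => by rw [if_pos hq, one_mul]

theorem sum_card_one {ι P : Type*} [Fintype P] [DecidableEq P] (s : Finset ι) (A : ι → Finset P) :
    ∑ q : P, (s.filter fun i => q ∈ A i).card = ∑ i ∈ s, (A i).card := by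
  simp only [Finset.card_filter]
  rw [Finset.sum_comm]
  refine Finset.sum_congr rfl fun i _ => ?_
  rw [← Finset.card_filter, Finset.filter_univ_mem]

theorem rep_count {A : Fin 11 → Finset (Fin 11)} (h5 : ∀ i, (A i).card = 5)
    (h2 : ∀ i j, i ≠ j → (A i ∩ A j).card = 2) (p : Fin 11) :
    (univ.filter fun i => p ∈ A i).card = 5 := by
  have e1 := sum_card_one univ A
  have e2 := sum_card_sq univ A
  have hinner : ∀ i, ∑ j, (A i ∩ A j).card = 25 := fun i => by
    rw [← Finset.add_sum_erase _ _ (Finset.mem_univ i), Finset.inter_self, h5,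
      Finset.sum_congr rfl fun j hj => h2 i j (Finset.ne_of_mem_erase hj).symm]
    simp
  simp only [hinner, h5, Finset.sum_const, Finset.card_univ, Fintype.card_fin, smul_eq_mul] at e1 e2
  have hz : ∑ q : Fin 11, (((univ.filter fun i => q ∈ A i).card : ℤ) - 5) ^ 2 = 0 := by
    simp only [sub_sq, Finset.sum_add_distrib, Finset.sum_sub_distrib, ← Finset.mul_sum, ← Finset.sum_mul]
    have e1' := congrArg (Nat.cast : ℕ → ℤ) e1
    have e2' := congrArg (Nat.cast : ℕ → ℤ) e2
    push_cast at e1' e2'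
    rw [e1', e2']
    simp
  have := (Finset.sum_eq_zero_iff_of_nonneg fun q _ => sq_nonneg _).1 hz p (Finset.mem_univ p)
  have := sq_eq_zero_iff.1 this
  omega

theorem pair_count {A : Fin 11 → Finset (Fin 11)} (h5 : ∀ i, (A i).card = 5)
    (h2 : ∀ i j, i ≠ j → (A i ∩ A j).card = 2) {p q : Fin 11} (hpq : p ≠ q) :
    (univ.filter fun i => p ∈ A i ∧ q ∈ A i).card = 2 := by
  set s := univ.filter fun i => p ∈ A i with hs
  have hsc : s.card = 5 := rep_count h5 h2 p
  have e1 := sum_card_one s A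
  have e2 := sum_card_sq s A
  have hinner : ∀ i ∈ s, ∑ j ∈ s, (A i ∩ A j).card = 13 := fun i hi => by
    rw [← Finset.add_sum_erase _ _ hi, Finset.inter_self, h5,
      Finset.sum_congr rfl fun j hj => h2 i j (Finset.ne_of_mem_erase hj).symm, Finset.sum_const,
      Finset.card_erase_of_mem hi, hsc]
    rfl
  rw [Finset.sum_congr rfl hinner] at e2
  simp only [h5, Finset.sum_const, hsc, smul_eq_mul] at e1 e2
  have hp : (s.filter fun i => p ∈ A i) = s := Finset.filter_eq_self.2 fun i hi => (Finset.mem_filter.1 hi).2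
  rw [← Finset.add_sum_erase _ _ (Finset.mem_univ p), hp, hsc] at e1 e2
  have hz : ∑ r ∈ univ.erase p, (((s.filter fun i => r ∈ A i).card : ℤ) - 2) ^ 2 = 0 := by
    simp only [sub_sq, Finset.sum_add_distrib, Finset.sum_sub_distrib, ← Finset.mul_sum, ← Finset.sum_mul]
    have e1' := congrArg (Nat.cast : ℕ → ℤ) e1
    have e2' := congrArg (Nat.cast : ℕ → ℤ) e2
    push_cast at e1' e2'
    have hc : ((univ : Finset (Fin 11)).erase p).card = 10 := by simp
    rw [Finset.sum_const, hc, nsmul_eq_mul]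
    push_cast
    linarith
  have := (Finset.sum_eq_zero_iff_of_nonneg fun r _ => sq_nonneg _).1 hz q
    (Finset.mem_erase.2 ⟨hpq.symm, Finset.mem_univ q⟩)
  have := sq_eq_zero_iff.1 this
  rw [hs, Finset.filter_filter] at this
  omega

/-- Every biplane on eleven points is a relabelling of the standard one. -/
theorem biplane_normal (A : Fin 11 → Finset (Fin 11)) (h5 : ∀ i, (A i).card = 5)
    (h2 : ∀ i j, i ≠ j → (A i ∩ A j).card = 2) :
    ∃ σ τ : Equiv.Perm (Fin 11), ∀ i j, (stdSix.getD i.val 0).testBit j.val = true ↔ τ j ∉ A (σ i) := by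
  classical
  obtain ⟨f⟩ : Nonempty (Fin 5 ≃ A 0) := ⟨(Finset.equivFinOfCardEq (h5 0)).symm⟩
  let g : Fin 5 → Fin 11 := fun a => f a
  have hg : Function.Injective g := Subtype.val_injective.comp f.injective
  have hgm : ∀ a, g a ∈ A 0 := fun a => (f a).2
  have hblk : ∀ k, ∃ i, i ≠ 0 ∧ g (edge k).1 ∈ A i ∧ g (edge k).2 ∈ A i := by
    intro k
    have h := pair_count h5 h2 (hg.ne (edge_spec k).1)
    obtain ⟨i, hi, hi0⟩ := Finset.exists_mem_ne (by omega : 1 < (univ.filter fun i =>
      g (edge k).1 ∈ A i ∧ g (edge k).2 ∈ A i).card) 0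
    exact ⟨i, hi0, (Finset.mem_filter.1 hi).2⟩
  choose blk hb0 hb1 hb2 using hblk
  have hA0 : ∀ k a, g a ∈ A (blk k) ↔ a ∈ ({(edge k).1, (edge k).2} : Finset (Fin 5)) := by
    intro k a
    have hsub : ({(edge k).1, (edge k).2} : Finset (Fin 5)).image g ⊆ A 0 ∩ A (blk k) := by
      intro z hz
      obtain ⟨b, hb, rfl⟩ := Finset.mem_image.1 hz
      rcases Finset.mem_insert.1 hb with rfl | hb
      · exact Finset.mem_inter.2 ⟨hgm _, hb1 k⟩
      · rw [Finset.mem_singleton.1 hb]; exact Finset.mem_inter.2 ⟨hgm _, hb2 k⟩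
    have heq := Finset.eq_of_subset_of_card_le hsub (by
      rw [h2 0 (blk k) (hb0 k).symm, Finset.card_image_of_injective _ hg, Finset.card_pair (edge_spec k).1])
    rw [← hg.mem_finset_image (s := {(edge k).1, (edge k).2}), heq, Finset.mem_inter]
    exact ⟨fun h => ⟨hgm a, h⟩, fun h => h.2⟩
  have hbinj : Function.Injective blk := by
    intro k l h
    refine (edge_spec k).2 l (Finset.ext fun a => ?_)
    rw [← hA0, ← hA0, h]
  -- every nonzero block is one of these
  have hcov : ∀ i, i ≠ 0 → ∃ k, blk k = i := by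
    intro i hi
    have : (univ : Finset (Fin 10)).image blk = univ.erase 0 := Finset.eq_of_subset_of_card_le
      (fun z hz => by obtain ⟨k, -, rfl⟩ := Finset.mem_image.1 hz; simp [hb0 k])
      (by rw [Finset.card_image_of_injective _ hbinj]; simp)
    obtain ⟨k, -, hk⟩ := Finset.mem_image.1 (this.ge (Finset.mem_erase.2 ⟨hi, Finset.mem_univ i⟩))
    exact ⟨k, hk⟩
  have htrans : ∀ (P : Fin 11 → Prop) [DecidablePred P], ¬ P 0 →
      (univ.filter fun k => P (blk k)).card = (univ.filter P).card := by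
    intro P _ hP
    rw [← Finset.card_image_of_injective _ hbinj]
    congr 1
    ext i
    simp only [Finset.mem_image, Finset.mem_filter, Finset.mem_univ, true_and]
    refine ⟨fun ⟨k, hk, e⟩ => e ▸ hk, fun hi => ?_⟩
    obtain ⟨k, rfl⟩ := hcov i (fun e => hP (e ▸ hi))
    exact ⟨k, hi, rfl⟩
  -- pentagons of the outside points
  let E : Fin 11 → ℕ := fun p => Nat.ofBits fun k : Fin 10 => decide (p ∈ A (blk k))
  have hE : ∀ p (k : Fin 10), (E p).testBit k.val = decide (p ∈ A (blk k)) := fun p k =>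
    Nat.testBit_ofBits_lt _ _ k.isLt
  have hpent : ∀ p, p ∉ A 0 → E p ∈ pentList := by
    intro p hp
    rw [pentList, List.mem_filter, List.mem_range, decide_eq_true_eq]
    refine ⟨Nat.ofBits_lt_two_pow _, fun v => ?_⟩
    have h := pair_count h5 h2 (p := p) (q := g v) (fun e => hp (e ▸ hgm v))
    rw [← htrans (fun i => p ∈ A i ∧ g v ∈ A i) (fun hh => hp hh.1)] at h
    refine Eq.trans ?_ h
    congr 1
    refine Finset.filter_congr fun k _ => ?_
    rw [hE, decide_eq_true_eq, hA0, Finset.mem_insert, Finset.mem_singleton]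
    exact and_congr_right fun _ => or_congr eq_comm eq_comm
  have hcommon : ∀ p q, p ∉ A 0 → q ∉ A 0 → p ≠ q → commonEdges (E p) (E q) = 2 := by
    intro p q hp _ hpq
    have h := pair_count h5 h2 hpq
    rw [← htrans (fun i => p ∈ A i ∧ q ∈ A i) (fun hh => hp hh.1)] at h
    refine Eq.trans ?_ h
    rw [commonEdges]
    congr 1
    exact Finset.filter_congr fun k _ => by rw [hE, hE, decide_eq_true_eq, decide_eq_true_eq]
  have hEinj : ∀ p q, p ∉ A 0 → q ∉ A 0 → E p = E q → p = q := by
    intro p q hp hq he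
    by_contra hne
    have h1 := hcommon p q hp hq hne
    have h5p := rep_count h5 h2 p
    rw [← htrans (fun i => p ∈ A i) hp] at h5p
    rw [← he, commonEdges] at h1
    simp only [and_self, hE, decide_eq_true_eq] at h1
    omega
  let S := pentList.filter fun m => decide (∃ p, p ∉ A 0 ∧ E p = m)
  have hnd : pentList.Nodup := by rw [pent_eq]; decide
  have hS : ∀ m, m ∈ S ↔ ∃ p, p ∉ A 0 ∧ E p = m := by
    intro m
    rw [List.mem_filter, decide_eq_true_eq]
    exact ⟨And.right, fun ⟨p, hp, e⟩ => ⟨e ▸ hpent p hp, p, hp, e⟩⟩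
  have hlen : S.length = 6 := by
    rw [← List.toFinset_card_of_nodup (hnd.filter _)]
    rw [show S.toFinset = ((A 0)ᶜ).image E from Finset.ext fun m => by simp [hS],
      Finset.card_image_of_injOn (fun p hp q hq => hEinj p q (Finset.mem_compl.1 hp) (Finset.mem_compl.1 hq)),
      Finset.card_compl, h5]
    rfl
  obtain ⟨w, hw⟩ := sixes S (List.mem_sublistsLen.2 ⟨List.filter_sublist, hlen⟩)
    ((hnd.filter _).imp_of_mem fun {a b} ha hb hne => by
      obtain ⟨p, hp, rfl⟩ := (hS a).1 ha
      obtain ⟨q, hq, rfl⟩ := (hS b).1 hb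
      exact hcommon p q hp hq fun e => hne (by rw [e]))
  choose pp hpp hppE using fun j => (hS _).1 (hw j)
  obtain ⟨hri, hei, hedge, hbit⟩ := relabel_spec w
  let σ₀ : Fin 11 → Fin 11 := Fin.cons 0 fun k => blk (relEdge w k)
  let τ₀ : Fin 11 → Fin 11 := Fin.append (fun a : Fin 5 => g (relabel w a)) (fun j : Fin 6 => pp j)
  have hσ : Function.Injective σ₀ := Fin.cons_injective_iff.2
    ⟨fun ⟨k, hk⟩ => hb0 _ hk, hbinj.comp hei⟩
  have hppinj : Function.Injective pp := fun a b h => pentSol_inj w (by rw [← hppE a, ← hppE b, h])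
  have hτ : Function.Injective τ₀ := by
    rw [Fin.append_injective_iff]
    exact ⟨hg.comp hri, hppinj, fun a j e => hpp j (e ▸ hgm _)⟩
  refine ⟨Equiv.ofBijective σ₀ hσ.bijective_of_finite, Equiv.ofBijective τ₀ hτ.bijective_of_finite,
    fun i j => ?_⟩
  show _ ↔ τ₀ j ∉ A (σ₀ i)
  obtain ⟨s0, s1, s2⟩ := std_spec
  refine Fin.cases ?_ (fun k => ?_) i <;> refine Fin.addCases (m := 5) (n := 6) (fun a => ?_) (fun b => ?_) j
  · simp only [σ₀, τ₀, Fin.cons_zero, Fin.append_left, hgm, not_true_eq_false, iff_false]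
    rw [Fin.val_zero, s0]; simp [Nat.not_le.2 a.isLt]
  · simp only [σ₀, τ₀, Fin.cons_zero, Fin.append_right, hpp, not_false_eq_true, iff_true]
    rw [Fin.val_zero, s0]; simp
  · simp only [σ₀, τ₀, Fin.cons_succ, Fin.append_left, hA0]
    rw [Fin.val_succ, Fin.val_castAdd, s1, decide_eq_true_eq, hedge]
    simp [hri.eq_iff]
  · simp only [σ₀, τ₀, Fin.cons_succ, Fin.append_right]
    rw [Fin.val_succ, Fin.val_natAdd, s2, ← hbit, ← hppE, hE]
    simp

end Cfsg.Agent.Steiner
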