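import Cfsg.Agent.Lib.Steiner.Small
import Cfsg.Agent.Lib.Golay.Sharp
import Cfsg.Agent.Lib.Golay.Gens

/-!
The automorphism groups of the standard S(5, 6, 12) and S(4, 5, 11).
-/

set_option autoImplicit false

namespace Cfsg.Agent.Steiner.Search

open Cfsg
open scoped Pointwise

variable {v : ℕ}

/-- The blocks whose last point is `i` go to listed masks. -/
def stepOk (v : ℕ) (std : List ℕ) (i p : ℕ) : Bool :=
  std.all fun c => !(decide (c < 2 ^ (i + 1)) && c.testBit i) || std.contains (imgMask v p c)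

/-- No non-trivial map of the listed masks fixes the points below the start. -/
def rigid (v : ℕ) (std : List ℕ) : ℕ → ℕ → ℕ → Bool
  | 0, _, _ => false
  | n + 1, i, p =>
    if i = v then (List.range v).all fun j => look p j == j
    else (List.range v).all fun x => ((List.range i).any fun j => look p j == x) ||
      !stepOk v std i (p + Nat.shiftLeft x (5 * i)) || rigid v std n (i + 1) (p + Nat.shiftLeft x (5 * i))

theorem look_eq (p i : ℕ) : look p i = p / 2 ^ (5 * i) % 32 := by
  show Nat.shiftRight p (5 * i) &&& 31 = _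
  rw [show Nat.shiftRight p (5 * i) = p >>> (5 * i) from rfl, Nat.shiftRight_eq_div_pow,
    show (31 : ℕ) = 2 ^ 5 - 1 from rfl, Nat.and_two_pow_sub_one_eq_mod]

theorem look_add {p x i j : ℕ} (hp : p < 2 ^ (5 * i)) (hx : x < 32) (hj : j ≤ i) :
    look (p + Nat.shiftLeft x (5 * i)) j = if j = i then x else look p j := by
  rw [show Nat.shiftLeft x (5 * i) = x <<< (5 * i) from rfl, Nat.shiftLeft_eq, look_eq, look_eq]
  have hpos : 0 < 2 ^ (5 * i) := Nat.two_pow_pos _
  split
  next h => subst h; rw [Nat.add_mul_div_right _ _ hpos, Nat.div_eq_of_lt hp, zero_add, Nat.mod_eq_of_lt hx]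
  next h =>
    obtain ⟨d, rfl⟩ := Nat.exists_eq_add_of_lt (lt_of_le_of_ne hj h)
    rw [show 5 * (j + d + 1) = 5 * j + (5 * d + 5) by ring, pow_add, pow_add _ (5 * d) 5,
      show p + x * (2 ^ (5 * j) * (2 ^ (5 * d) * 2 ^ 5)) = p + (x * 2 ^ (5 * d) * 32) * 2 ^ (5 * j) by ring,
      Nat.add_mul_div_right _ _ (Nat.two_pow_pos _), Nat.add_mul_mod_self_right]

theorem rigid_spec {std : List ℕ} (hv : v ≤ 32) (σ : Equiv.Perm (Fin v))
    (hσ : ∀ b : Finset (Fin v), msk b ∈ std → msk (b.image σ) ∈ std) (hlt : ∀ c ∈ std, c < 2 ^ v) :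
    ∀ n i p, rigid v std n i p = true → i ≤ v → p < 2 ^ (5 * i) →
      (∀ j : Fin v, j.val < i → look p j.val = (σ j).val) → σ = 1
  | 0, _, _, h, _, _, _ => by simp [rigid] at h
  | n + 1, i, p, h, hiv, hp, hag => by
    by_cases hi : i = v
    · subst hi
      simp only [rigid, if_true, List.all_eq_true, List.mem_range, beq_iff_eq] at h
      exact Equiv.ext fun j => Fin.ext ((hag j j.isLt).symm.trans (h j.val j.isLt))
    · simp only [rigid, if_neg hi, List.all_eq_true, List.mem_range, Bool.or_eq_true, List.any_eq_true,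
        beq_iff_eq, Bool.not_eq_true'] at h
      have hiv' : i < v := lt_of_le_of_ne hiv hi
      have hx : (σ ⟨i, hiv'⟩).val < 32 := lt_of_lt_of_le (Fin.isLt _) hv
      have hag' : ∀ j : Fin v, j.val < i + 1 →
          look (p + Nat.shiftLeft (σ ⟨i, hiv'⟩).val (5 * i)) j.val = (σ j).val := by
        intro j hj
        rw [look_add hp hx (Nat.lt_succ_iff.1 hj)]
        split
        next e => exact congrArg (fun q => (σ q).val) (Fin.ext e.symm : (⟨i, hiv'⟩ : Fin v) = j)
        next e => exact hag j (lt_of_le_of_ne (Nat.lt_succ_iff.1 hj) e)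
      rcases h _ (σ ⟨i, hiv'⟩).isLt with (⟨j, hj, he⟩ | hstep) | hrec
      · exfalso
        have hjv : j < v := hj.trans hiv'
        rw [hag ⟨j, hjv⟩ hj] at he
        have := congrArg Fin.val (σ.injective (Fin.ext he))
        simp only at this
        omega
      · exfalso
        simp only [stepOk, List.all_eq_false, Bool.or_eq_true, Bool.not_eq_true', Bool.and_eq_false_iff,
          decide_eq_false_iff_not, not_or, Bool.not_eq_false, not_lt, not_le] at hstep
        obtain ⟨c, hc, ⟨hclt, hbit⟩, hno⟩ := hstep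
        have e : c = msk (Finset.univ.filter fun q : Fin v => c.testBit q.val) :=
          msk_ext (hlt c hc) fun q => by simp
        have hsub : ∀ q : Fin v, c.testBit q.val = true → q.val < i + 1 := fun q hq => by
          by_contra hge
          rw [Nat.testBit_lt_two_pow (hclt.trans_le (Nat.pow_le_pow_right (by norm_num) (by omega)))] at hq
          simp at hq
        refine hno ?_
        rw [List.contains_iff_mem]
        convert hσ _ (e ▸ hc) using 1
        refine Nat.eq_of_testBit_eq fun m => Bool.eq_iff_iff.2 ?_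
        rw [testBit_imgMask]
        constructor
        · rintro ⟨q, hq, hcq, rfl⟩
          rw [hag' ⟨q, hq⟩ (hsub ⟨q, hq⟩ hcq), testBit_msk, decide_eq_true_eq]
          exact Finset.mem_image_of_mem σ (by simpa using hcq)
        · intro hm
          by_cases hmv : m < v
          · rw [testBit_msk _ ⟨m, hmv⟩, decide_eq_true_eq, Finset.mem_image] at hm
            obtain ⟨q, hq, hqm⟩ := hm
            simp only [Finset.mem_filter, Finset.mem_univ, true_and] at hq
            exact ⟨q.val, q.isLt, hq, by rw [hag' q (hsub q hq), hqm]⟩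
          · rw [msk, Nat.testBit_ofBits_ge _ _ (by omega)] at hm
            simp at hm
      · refine rigid_spec hv σ hσ hlt n (i + 1) _ hrec hiv' ?_ hag'
        rw [show Nat.shiftLeft (σ ⟨i, hiv'⟩).val (5 * i) = (σ ⟨i, hiv'⟩).val <<< (5 * i) from rfl,
          Nat.shiftLeft_eq, show 5 * (i + 1) = 5 * i + 5 by ring, pow_add]
        nlinarith [Nat.two_pow_pos (5 * i)]

theorem rigid12 : rigid 12 std12 20 5 4294688 = true := by decide +kernel
theorem rigid11 : rigid 11 std11 20 4 100384 = true := by decide +kernel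

theorem mem_setSystemAut_iff {α : Type*} [DecidableEq α] (σ : Equiv.Perm α) (B : Set (Finset α)) :
    σ ∈ setSystemAut B ↔ (fun b => b.image σ) '' B = B := by
  rw [MulAction.mem_stabilizer_iff, ← Set.image_smul]
  simp only [Finset.smul_finset_def, Equiv.Perm.smul_def]

/-- The image of a system of small masks inside the 24 points. -/
def lifted (P : Fin v → GolayPt) (std : List ℕ) : Set (Finset GolayPt) :=
  (fun b => b.image P) '' sysOf v std

theorem restrict_spec {K : Subgroup (Equiv.Perm GolayPt)} {P : Fin v → GolayPt} (hP : Function.Injective P)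
    (hkeep : ∀ g ∈ K, ∀ i, ∃ j, g (P i) = P j) {std : List ℕ}
    (hK : ∀ g ∈ K, g ∈ MulAction.stabilizer (Equiv.Perm GolayPt) (lifted P std)) :
    ∃ φ : K →* setSystemAut (sysOf v std), ∀ g i, P ((φ g).1 i) = g.1 (P i) := by
  choose f hf using fun g : K => hkeep g.1 g.2
  have hinj : ∀ g, Function.Injective (f g) := fun g i j h =>
    hP (g.1.injective (by rw [hf, hf, h]))
  let F : K → Equiv.Perm (Fin v) := fun g => Equiv.ofBijective (f g) (Finite.injective_iff_bijective.1 (hinj g))
  have hF : ∀ g i, P (F g i) = g.1 (P i) := fun g i => (hf g i).symm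
  have hmem : ∀ g, F g ∈ setSystemAut (sysOf v std) := fun g => by
    rw [mem_setSystemAut_iff]
    have h : g.1 • lifted P std = lifted P std := hK g.1 g.2
    rw [lifted, ← Set.image_smul, Set.image_image] at h
    refine Set.image_injective.2 (Finset.image_injective hP) ?_
    rw [Set.image_image]
    refine Eq.trans (Set.image_congr fun b _ => ?_) h
    rw [Finset.smul_finset_def, Finset.image_image, Finset.image_image]
    exact Finset.image_congr fun i _ => hF g i
  refine ⟨{ toFun := fun g => ⟨F g, hmem g⟩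
            map_one' := Subtype.ext (Equiv.ext fun i => hP (hF 1 i))
            map_mul' := fun g h => Subtype.ext (Equiv.ext fun i => hP ?_) }, hF⟩
  show P (F (g * h) i) = P (F g (F h i))
  rw [hF, hF, hF]
  rfl

/-- The restriction is onto, the action is transitive and free. -/
theorem aut_spec {K : Subgroup (Equiv.Perm GolayPt)} {P : Fin v → GolayPt} (hP : Function.Injective P)
    (hkeep : ∀ g ∈ K, ∀ i, ∃ j, g (P i) = P j) {std : List ℕ}
    (hK : ∀ g ∈ K, g ∈ MulAction.stabilizer (Equiv.Perm GolayPt) (lifted P std))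
    (hfaith : ∀ g ∈ K, (∀ i, g (P i) = P i) → g = 1) {n : ℕ} (hn : n ≤ v)
    (htrans : ∀ x y : Fin n ↪ Fin v, ∃ g ∈ K, ∀ i, g (P (x i)) = P (y i))
    (hrig : ∀ σ ∈ setSystemAut (sysOf v std), (∀ j : Fin v, j.val < n → σ j = j) → σ = 1) :
    Nonempty (setSystemAut (sysOf v std) ≃* K) ∧
      MulAction.IsMultiplyPretransitive (setSystemAut (sysOf v std)) (Fin v) n ∧
      ∀ x : Fin n ↪ Fin v, MulAction.stabilizer (setSystemAut (sysOf v std)) x = ⊥ := by
  obtain ⟨φ, hφ⟩ := restrict_spec hP hkeep hK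
  have htr : ∀ x y : Fin n ↪ Fin v, ∃ g : K, ∀ i, (φ g).1 (x i) = y i := fun x y => by
    obtain ⟨g, hg, h⟩ := htrans x y
    exact ⟨⟨g, hg⟩, fun i => hP (by rw [hφ]; exact h i)⟩
  have hfree : ∀ (x : Fin n ↪ Fin v) (σ : setSystemAut (sysOf v std)), (∀ i, σ.1 (x i) = x i) → σ = 1 := by
    intro x σ hσ
    obtain ⟨g, hg⟩ := htr (Fin.castLEEmb hn) x
    have h1 : ((φ g)⁻¹ * σ * φ g).1 = 1 := hrig _ ((φ g)⁻¹ * σ * φ g).2 fun j hj => by
      show (φ g).1.symm (σ.1 ((φ g).1 j)) = j
      have h2 : (φ g).1 j = x ⟨j.val, hj⟩ := hg ⟨j.val, hj⟩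
      rw [Equiv.symm_apply_eq, h2, hσ]
    have h2 : (φ g)⁻¹ * σ * φ g = 1 := Subtype.ext h1
    calc σ = φ g * ((φ g)⁻¹ * σ * φ g) * (φ g)⁻¹ := by group
      _ = 1 := by rw [h2]; group
  have hinj : Function.Injective φ := (injective_iff_map_eq_one φ).2 fun g hg => by
    refine Subtype.ext (hfaith g.1 g.2 fun i => ?_)
    rw [← hφ, hg]
    rfl
  have hsurj : Function.Surjective φ := fun σ => by
    obtain ⟨g, hg⟩ := htr (Fin.castLEEmb hn) ((Fin.castLEEmb hn).trans σ.1.toEmbedding)
    refine ⟨g, ?_⟩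
    have := hfree (Fin.castLEEmb hn) ((φ g)⁻¹ * σ) fun i => by
      show (φ g).1.symm (σ.1 _) = _
      rw [Equiv.symm_apply_eq]
      exact (hg i).symm
    exact inv_mul_eq_one.1 this
  refine ⟨⟨(MulEquiv.ofBijective φ ⟨hinj, hsurj⟩).symm⟩, ?_, fun x => ?_⟩
  · rw [MulAction.isMultiplyPretransitive_iff]
    intro x y
    obtain ⟨g, hg⟩ := htr x y
    exact ⟨φ g, Function.Embedding.ext hg⟩
  · rw [eq_bot_iff]
    intro σ hσ
    exact hfree x σ fun i => congrArg (fun f : Fin n ↪ Fin v => f i) hσ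

/-- Positions of the twelve points of the square dodecad. -/
def pos12 : Fin 12 → Fin 24 := ![0, 1, 2, 3, 4, 6, 8, 9, 12, 13, 16, 18]
/-- The twelve points. -/
def P12 (i : Fin 12) : GolayPt := Golay24.pt (pos12 i)
/-- The eleven points other than zero. -/
def P11 (i : Fin 11) : GolayPt := P12 i.succ

/-- The mask among the 24 positions. -/
def liftMask (pos : Fin v → Fin 24) (c : ℕ) : ℕ :=
  Nat.ofBits fun j : Fin 24 => (List.finRange v).any fun i => c.testBit i.val && (pos i == j)

theorem setOf_liftMask (pos : Fin v → Fin 24) (b : Finset (Fin v)) :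
    Golay24.setOf (liftMask pos (msk b)) = b.image fun i => Golay24.pt (pos i) := by
  ext x
  simp only [Golay24.mem_setOf, liftMask, Nat.testBit_ofBits_lt _ _ (Golay24.idx x).isLt, Fin.eta,
    List.any_eq_true, List.mem_finRange, true_and, Bool.and_eq_true, testBit_msk, decide_eq_true_eq,
    beq_iff_eq, Finset.mem_image]
  exact exists_congr fun i => and_congr_right fun _ =>
    ⟨fun h => by rw [h, Golay24.pt_idx], fun h => by rw [← h, Golay24.idx_pt]⟩

/-- Generators carry lifted blocks to lifted blocks. -/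
noncomputable def gensOk (pos : Fin v → Fin 24) (std gens : List ℕ) : Bool :=
  let L := std.map (liftMask pos)
  gens.all fun g => std.all fun c => L.contains (Golay24.img g (liftMask pos c))

theorem le_stab_of_gensOk {c : Golay24.GenCert} (hc : c.ok = true) {pos : Fin v → Fin 24} {std : List ℕ}
    (hlt : ∀ m ∈ std, m < 2 ^ v) (h : gensOk pos std c.gens = true) :
    c.grp ≤ MulAction.stabilizer (Equiv.Perm GolayPt) (lifted (fun i => Golay24.pt (pos i)) std) := by
  rw [Golay24.GenCert.grp, Subgroup.closure_le]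
  rintro _ ⟨g, hg, rfl⟩
  rw [SetLike.mem_coe, MulAction.mem_stabilizer_iff]
  simp only [gensOk, List.all_eq_true, List.contains_iff_mem, List.mem_map] at h
  refine Set.eq_of_subset_of_ncard_le ?_ (by rw [Set.ncard_smul_set]) (Set.toFinite _)
  rintro _ ⟨_, ⟨b, hb, rfl⟩, rfl⟩
  obtain ⟨m, hm, e⟩ := h g hg (msk b) hb
  refine ⟨Finset.univ.filter fun i : Fin v => m.testBit i.val, ?_, ?_⟩
  · show msk _ ∈ std
    rwa [← msk_ext (hlt m hm) fun i => by simp]
  · dsimp only
    rw [← setOf_liftMask, ← setOf_liftMask, Golay24.smul_setOf (Golay24.GenCert.gen_valid hc hg),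
      ← e, ← msk_ext (hlt m hm) fun i => by simp]

theorem gens12 : gensOk pos12 std12 Golay24.m12Cert.gens = true := by decide +kernel
theorem gens11 : gensOk (fun i : Fin 11 => pos12 i.succ) std11 Golay24.m11Cert.gens = true := by decide +kernel
theorem pos12_spec : Function.Injective pos12 ∧
    Golay24.setOf Golay24.sqDod = Finset.univ.image P12 ∧
    Golay24.setOf 340830 = Finset.univ.image P11 ∧ P12 0 = some 0 := by decide +kernel
theorem std_lt : (∀ m ∈ std12, m < 2 ^ 12) ∧ ∀ m ∈ std11, m < 2 ^ 11 := by decide +kernel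

theorem aut12 : Nonempty (setSystemAut (sysOf 12 std12) ≃* Spor.M12) ∧
    MulAction.IsMultiplyPretransitive (setSystemAut (sysOf 12 std12)) (Fin 12) 5 ∧
    ∀ x : Fin 5 ↪ Fin 12, MulAction.stabilizer (setSystemAut (sysOf 12 std12)) x = ⊥ := by
  obtain ⟨hinj, hD, -, -⟩ := pos12_spec
  have hP : Function.Injective P12 := Golay24.ptEquiv.symm.injective.comp hinj
  have hmem : ∀ i, P12 i ∈ Golay24.setOf Golay24.sqDod := fun i => hD ▸ Finset.mem_image_of_mem _ (Finset.mem_univ i)
  refine aut_spec hP (fun g hg i => ?_) (fun g hg => ?_) (fun g hg h => ?_) (by norm_num) (fun x y => ?_)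
    (fun σ hσ h => ?_)
  · have := Golay24.m12_keeps g hg _ (hmem i)
    rw [hD, Finset.mem_image] at this
    obtain ⟨j, -, hj⟩ := this
    exact ⟨j, hj.symm⟩
  · have hok := Golay24.m12Cert_ok
    simp only [Bool.and_eq_true, beq_iff_eq] at hok
    exact le_stab_of_gensOk hok.1.1.1.1 std_lt.1 gens12 (Golay24.m12_grp.symm ▸ hg)
  · obtain ⟨u, -, huniq⟩ := Golay24.M12_sharp (x := (Fin.castLEEmb (by norm_num : 5 ≤ 12)).trans ⟨P12, hP⟩)
      (y := (Fin.castLEEmb (by norm_num : 5 ≤ 12)).trans ⟨P12, hP⟩) (fun i => hmem _) (fun i => hmem _)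
    exact congrArg Subtype.val ((huniq ⟨g, hg⟩ fun i => h _).trans (huniq 1 fun i => rfl).symm)
  · obtain ⟨g, hg, -⟩ := Golay24.M12_sharp (x := x.trans ⟨P12, hP⟩) (y := y.trans ⟨P12, hP⟩)
      (fun i => hmem _) (fun i => hmem _)
    exact ⟨g.1, g.2, hg⟩
  · refine rigid_spec (by norm_num) σ (fun b hb => ?_) std_lt.1 20 5 4294688 rigid12 (by norm_num)
      (by norm_num) (fun j hj => ?_)
    · exact ((mem_setSystemAut_iff _ _).1 hσ).subset ⟨b, hb, rfl⟩
    · rw [h j hj]; revert j hj; decide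

theorem aut11 : Nonempty (setSystemAut (sysOf 11 std11) ≃* Spor.M11) ∧
    MulAction.IsMultiplyPretransitive (setSystemAut (sysOf 11 std11)) (Fin 11) 4 ∧
    ∀ x : Fin 4 ↪ Fin 11, MulAction.stabilizer (setSystemAut (sysOf 11 std11)) x = ⊥ := by
  obtain ⟨hinj, hD, hD1, h0⟩ := pos12_spec
  have hP12 : Function.Injective P12 := Golay24.ptEquiv.symm.injective.comp hinj
  have hP : Function.Injective P11 := hP12.comp (Fin.succ_injective _)
  have hmem : ∀ i, P12 i ∈ Golay24.setOf Golay24.sqDod := fun i => hD ▸ Finset.mem_image_of_mem _ (Finset.mem_univ i)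
  refine aut_spec hP (fun g hg i => ?_) (fun g hg => ?_) (fun g hg h => ?_) (by norm_num) (fun x y => ?_)
    (fun σ hσ h => ?_)
  · have := Golay24.m11_keeps g hg (P11 i) (hD1 ▸ Finset.mem_image_of_mem _ (Finset.mem_univ i))
    rw [hD1, Finset.mem_image] at this
    obtain ⟨j, -, hj⟩ := this
    exact ⟨j, hj.symm⟩
  · have hok := Golay24.m11Cert_ok
    simp only [Bool.and_eq_true, beq_iff_eq] at hok
    exact le_stab_of_gensOk hok.1.1.1.1 std_lt.2 gens11 (Golay24.m11_grp.symm ▸ hg)
  · have hall : ∀ i : Fin 12, g (P12 i) = P12 i := Fin.cases (h0.symm ▸ hg.2) h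
    obtain ⟨u, -, huniq⟩ := Golay24.M12_sharp (x := (Fin.castLEEmb (by norm_num : 5 ≤ 12)).trans ⟨P12, hP12⟩)
      (y := (Fin.castLEEmb (by norm_num : 5 ≤ 12)).trans ⟨P12, hP12⟩) (fun i => hmem _) (fun i => hmem _)
    exact congrArg Subtype.val ((huniq ⟨g, hg.1⟩ fun i => hall _).trans (huniq 1 fun i => rfl).symm)
  · let up : (Fin 4 ↪ Fin 11) → (Fin 5 ↪ GolayPt) := fun z =>
      (⟨Fin.cons 0 (fun i => (z i).succ), Fin.cons_injective_iff.2
        ⟨fun ⟨i, hi⟩ => Fin.succ_ne_zero _ hi, (Fin.succ_injective _).comp z.injective⟩⟩ : Fin 5 ↪ Fin 12).trans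
        ⟨P12, hP12⟩
    obtain ⟨g, hg, -⟩ := Golay24.M12_sharp (x := up x) (y := up y) (fun i => hmem _) (fun i => hmem _)
    have hg0 : g.1 (P12 0) = P12 0 := hg 0
    rw [h0] at hg0
    exact ⟨g.1, ⟨g.2, hg0⟩, fun i => hg i.succ⟩
  · refine rigid_spec (by norm_num) σ (fun b hb => ?_) std_lt.2 20 4 100384 rigid11 (by norm_num)
      (by norm_num) (fun j hj => ?_)
    · exact ((mem_setSystemAut_iff _ _).1 hσ).subset ⟨b, hb, rfl⟩
    · rw [h j hj]; revert j hj; decide

end Cfsg.Agent.Steiner.Search
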