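import Cfsg.Agent.Lib.Steiner.Search22
import Cfsg.Agent.Lib.Steiner.SmallAut

/-!
At most 887040 automorphisms of the standard S(3, 6, 22).
-/

set_option autoImplicit false

namespace Cfsg.Agent.Steiner.Search22

open Cfsg Search

variable {v : ℕ}

/-- The partly assigned blocks through a point still fit into blocks. -/
def fitOk (v : ℕ) (std : List ℕ) (q am p : ℕ) : Bool :=
  std.all fun c => !(c.testBit q) ||
    (let d := Nat.land c am
     Nat.blt (Golay24.pop24 d) 4 || (let m := imgMask v p d; std.any fun e => Nat.land m e == m))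

/-- No non-trivial map completes a partial map, the points taken in a given order. -/
def rigidIn (v : ℕ) (std : List ℕ) : List ℕ → ℕ → ℕ → Bool
  | [], am, p => (List.range v).all fun j => am.testBit j && look p j == j
  | q :: rest, am, p =>
    decide (q < v) && !am.testBit q && (look p q == 0) &&
      (List.range v).all fun x => ((List.range v).any fun j => am.testBit j && look p j == x) ||
        !fitOk v std q (Nat.lor am (Nat.shiftLeft 1 q)) (p + Nat.shiftLeft x (5 * q)) ||
        rigidIn v std rest (Nat.lor am (Nat.shiftLeft 1 q)) (p + Nat.shiftLeft x (5 * q))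

theorem look_set {p x q : ℕ} (h0 : look p q = 0) (hx : x < 32) (j : ℕ) :
    look (p + Nat.shiftLeft x (5 * q)) j = if j = q then x else look p j := by
  rw [show Nat.shiftLeft x (5 * q) = x <<< (5 * q) from rfl, Nat.shiftLeft_eq]
  rw [look_eq] at h0
  rw [look_eq, look_eq]
  have hp := Nat.div_add_mod p (2 ^ (5 * q))
  have hlo : p % 2 ^ (5 * q) < 2 ^ (5 * q) := Nat.mod_lt _ (Nat.two_pow_pos _)
  have hhi := Nat.div_add_mod (p / 2 ^ (5 * q)) 32
  rw [h0, add_zero] at hhi
  generalize hH : p / 2 ^ (5 * q) / 32 = H at hhi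
  generalize p % 2 ^ (5 * q) = L at hp hlo
  rw [← hhi] at hp
  subst hp
  clear hhi hH h0
  rcases lt_trichotomy j q with hjq | rfl | hjq
  · obtain ⟨d, rfl⟩ := Nat.exists_eq_add_of_lt hjq
    rw [if_neg (by omega), show 5 * (j + d + 1) = 5 * j + (5 * d + 5) by ring, pow_add, pow_add _ (5 * d) 5,
      show 2 ^ (5 * j) * (2 ^ (5 * d) * 2 ^ 5) * (32 * H) + L + x * (2 ^ (5 * j) * (2 ^ (5 * d) * 2 ^ 5)) =
        L + (2 ^ (5 * d) * (32 * H + x)) * 32 * 2 ^ (5 * j) by ring,
      show 2 ^ (5 * j) * (2 ^ (5 * d) * 2 ^ 5) * (32 * H) + L = L + (2 ^ (5 * d) * (32 * H)) * 32 * 2 ^ (5 * j) by ring,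
      Nat.add_mul_div_right _ _ (Nat.two_pow_pos _), Nat.add_mul_div_right _ _ (Nat.two_pow_pos _),
      Nat.add_mul_mod_self_right, Nat.add_mul_mod_self_right]
  · rw [if_pos rfl, show 2 ^ (5 * j) * (32 * H) + L + x * 2 ^ (5 * j) = L + (x + H * 32) * 2 ^ (5 * j) by ring,
      Nat.add_mul_div_right _ _ (Nat.two_pow_pos _), Nat.div_eq_of_lt hlo, zero_add,
      Nat.add_mul_mod_self_right, Nat.mod_eq_of_lt hx]
  · obtain ⟨d, rfl⟩ := Nat.exists_eq_add_of_lt hjq
    have key : ∀ y, (L + y * 2 ^ (5 * q)) / 2 ^ (5 * (q + d + 1)) = y / 32 / 2 ^ (5 * d) := by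
      intro y
      rw [show 5 * (q + d + 1) = 5 * q + (5 + 5 * d) by ring, pow_add, pow_add _ 5, ← Nat.div_div_eq_div_mul,
        Nat.add_mul_div_right _ _ (Nat.two_pow_pos _), Nat.div_eq_of_lt hlo, zero_add, ← Nat.div_div_eq_div_mul]
      norm_num
    rw [if_neg (by omega),
      show 2 ^ (5 * q) * (32 * H) + L + x * 2 ^ (5 * q) = L + (x + H * 32) * 2 ^ (5 * q) by ring,
      show 2 ^ (5 * q) * (32 * H) + L = L + (0 + H * 32) * 2 ^ (5 * q) by ring, key, key,
      Nat.add_mul_div_right _ _ (by norm_num), Nat.add_mul_div_right _ _ (by norm_num), Nat.div_eq_of_lt hx,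
      Nat.zero_div]

theorem rigidIn_spec {std : List ℕ} (hv : v ≤ 24) (hlt : ∀ c ∈ std, c < 2 ^ v) (σ : Equiv.Perm (Fin v))
    (hσ : ∀ b : Finset (Fin v), msk b ∈ std → msk (b.image σ) ∈ std) :
    ∀ l am p, rigidIn v std l am p = true →
      (∀ j : Fin v, am.testBit j.val = true → look p j.val = (σ j).val) → σ = 1
  | [], am, p, h, hag => by
    simp only [rigidIn, List.all_eq_true, List.mem_range, Bool.and_eq_true, beq_iff_eq] at h
    exact Equiv.ext fun j => Fin.ext ((hag j (h j.val j.isLt).1).symm.trans (h j.val j.isLt).2)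
  | q :: rest, am, p, h, hag => by
    simp only [rigidIn, List.all_eq_true, List.mem_range, Bool.and_eq_true, Bool.or_eq_true, List.any_eq_true,
      beq_iff_eq, Bool.not_eq_true', decide_eq_true_eq] at h
    obtain ⟨⟨⟨hq, hamq⟩, h0⟩, hall⟩ := h
    let x := (σ ⟨q, hq⟩).val
    have hx : x < 32 := by have := (σ ⟨q, hq⟩).isLt; omega
    have hbit : ∀ j : ℕ, (Nat.lor am (Nat.shiftLeft 1 q)).testBit j = (am.testBit j || decide (q = j)) := fun j => by
      show (am ||| 1 <<< q).testBit j = _
      rw [Nat.testBit_or, Nat.one_shiftLeft, Nat.testBit_two_pow]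
    have hag' : ∀ j : Fin v, (Nat.lor am (Nat.shiftLeft 1 q)).testBit j.val = true →
        look (p + Nat.shiftLeft x (5 * q)) j.val = (σ j).val := by
      intro j hj
      rw [look_set h0 hx]
      split
      next e => exact congrArg (fun r => (σ r).val) (Fin.ext e.symm : (⟨q, hq⟩ : Fin v) = j)
      next e =>
        refine hag j ?_
        rw [hbit, Bool.or_eq_true] at hj
        exact hj.resolve_right (by simpa [eq_comm] using e)
    rcases hall x (σ ⟨q, hq⟩).isLt with (⟨j, hj, hamj, he⟩ | hfit) | hrec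
    · exfalso
      rw [hag ⟨j, hj⟩ hamj] at he
      have e' := congrArg Fin.val (σ.injective (Fin.ext he))
      simp only at e'
      rw [e', hamq] at hamj
      exact Bool.false_ne_true hamj
    · exfalso
      rw [← Bool.not_eq_true] at hfit
      apply hfit
      simp only [fitOk, List.all_eq_true, Bool.or_eq_true, Bool.not_eq_true', List.any_eq_true, beq_iff_eq]
      intro c hc
      by_cases hcb : c.testBit q = true
      swap
      · exact Or.inl (by simpa using hcb)
      refine Or.inr (Or.inr ?_)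
      have e : c = msk (Finset.univ.filter fun r : Fin v => c.testBit r.val) :=
        msk_ext (hlt c hc) fun r => by simp
      refine ⟨_, hσ _ (e ▸ hc), ?_⟩
      refine Nat.eq_of_testBit_eq fun m => ?_
      show Nat.testBit (_ &&& _) m = _
      rw [Nat.testBit_and, Bool.and_eq_left_iff_imp]
      intro hm
      rw [testBit_imgMask] at hm
      obtain ⟨r, hr, hrd, rfl⟩ := hm
      rw [show Nat.land c (Nat.lor am (Nat.shiftLeft 1 q)) = c &&& Nat.lor am (Nat.shiftLeft 1 q) from rfl,
        Nat.testBit_and, Bool.and_eq_true] at hrd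
      rw [hag' ⟨r, hr⟩ hrd.2, testBit_msk, decide_eq_true_eq]
      exact Finset.mem_image_of_mem σ (by simpa using hrd.1)
    · exact rigidIn_spec hv hlt σ hσ rest _ _ hrec hag'

theorem rigid22 : rigidIn 22 std22
    [5, 7, 15, 17, 18, 6, 8, 9, 12, 10, 19, 11, 14, 20, 21] 73759 19343292729179983247935520 = true := by decide +kernel

end Cfsg.Agent.Steiner.Search22
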