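import Cfsg.Prelude.Def_Sporadic_a
import Mathlib.Data.Finset.Powerset
import Mathlib.Data.Nat.Choose.Sum
import Mathlib.Algebra.BigOperators.Ring.Finset
import Mathlib.Tactic

/-!
Counting in Steiner systems.
-/

set_option autoImplicit false

namespace Cfsg.Agent.Steiner

open Cfsg Finset

set_option linter.unusedSectionVars false

variable {α : Type*} [Fintype α] [DecidableEq α] {t k : ℕ} {B : Set (Finset α)}

open Classical in
/-- The blocks as a finite set. -/
noncomputable def blocks (B : Set (Finset α)) : Finset (Finset α) := Finset.univ.filter (· ∈ B)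

@[simp] theorem mem_blocks {b : Finset α} : b ∈ blocks B ↔ b ∈ B := by simp [blocks]

theorem coe_blocks : (↑(blocks B) : Set (Finset α)) = B := by ext; simp

theorem ncard_eq_card : B.ncard = (blocks B).card := by rw [← Set.ncard_coe_finset, coe_blocks]

theorem ncard_filter_eq (p : Finset α → Prop) [DecidablePred p] :
    {c : Finset α | c ∈ B ∧ p c}.ncard = ((blocks B).filter p).card := by
  rw [← Set.ncard_coe_finset]; congr 1; ext; simp

theorem card_between {s b : Finset α} (hs : s ⊆ b) {m : ℕ} (hm : s.card ≤ m) :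
    (b.powerset.filter fun T => T.card = m ∧ s ⊆ T).card = (b.card - s.card).choose (m - s.card) := by
  rw [← Finset.card_sdiff_of_subset hs, ← Finset.card_powersetCard]
  refine Finset.card_bij' (fun T _ => T \ s) (fun W _ => W ∪ s) ?_ ?_ ?_ ?_
  · intro T hT
    simp only [mem_filter, mem_powerset] at hT
    simp only [mem_powersetCard]
    exact ⟨sdiff_subset_sdiff hT.1 le_rfl, by rw [card_sdiff_of_subset hT.2.2, hT.2.1]⟩
  · intro W hW
    simp only [mem_powersetCard] at hW
    simp only [mem_filter, mem_powerset]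
    have hd : Disjoint W s := (Finset.sdiff_disjoint.mono_left hW.1)
    exact ⟨union_subset (hW.1.trans sdiff_subset) hs, by rw [card_union_of_disjoint hd, hW.2]; omega,
      subset_union_right⟩
  · intro T hT
    simp only [mem_filter, mem_powerset] at hT
    exact Finset.sdiff_union_of_subset hT.2.2
  · intro W hW
    simp only [mem_powersetCard] at hW
    exact Finset.union_sdiff_cancel_right (Finset.sdiff_disjoint.mono_left hW.1)

theorem eq_of_subset (hB : IsSteinerSystem t k B) {s b c : Finset α} (hs : t ≤ s.card) (hb : b ∈ B)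
    (hc : c ∈ B) (hsb : s ⊆ b) (hsc : s ⊆ c) : b = c := by
  obtain ⟨T, hT, hTc⟩ := Finset.exists_subset_card_eq hs
  exact (hB.2 T hTc).unique ⟨hb, hT.trans hsb⟩ ⟨hc, hT.trans hsc⟩

/-- Double counting of the sets of size `t` over a smaller set. -/
theorem count_through (hB : IsSteinerSystem t k B) {s : Finset α} (hs : s.card ≤ t) :
    ((blocks B).filter fun b => s ⊆ b).card * (k - s.card).choose (t - s.card) =
      (Fintype.card α - s.card).choose (t - s.card) := by
  classical
  rw [← Finset.card_univ, ← card_between (Finset.subset_univ s) hs]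
  rw [show ((Finset.univ : Finset α).powerset.filter fun T => T.card = t ∧ s ⊆ T) =
      ((blocks B).filter fun b => s ⊆ b).biUnion fun b => b.powerset.filter fun T => T.card = t ∧ s ⊆ T from ?_]
  · rw [Finset.card_biUnion, Finset.sum_const_nat]
    · intro b hb
      simp only [mem_filter, mem_blocks] at hb
      rw [card_between hb.2 hs, hB.1 b hb.1]
    · intro b hb c hc hne
      simp only [Finset.mem_coe, mem_filter, mem_blocks] at hb hc
      rw [Function.onFun, Finset.disjoint_left]
      intro T hT hT'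
      simp only [mem_filter, mem_powerset] at hT hT'
      exact hne (eq_of_subset hB hT.2.1.ge hb.1 hc.1 hT.1 hT'.1)
  · ext T
    simp only [mem_filter, mem_powerset, mem_biUnion, mem_blocks]
    constructor
    · rintro ⟨-, hT, hsT⟩
      obtain ⟨b, ⟨hb, hTb⟩, -⟩ := hB.2 T hT
      exact ⟨b, ⟨hb, hsT.trans hTb⟩, hTb, hT, hsT⟩
    · rintro ⟨b, -, -, hT, hsT⟩
      exact ⟨Finset.subset_univ _, hT, hsT⟩

/-- The number of blocks through a small set, given as a number. -/
theorem card_through (hB : IsSteinerSystem t k B) {v : ℕ} (hv : Fintype.card α = v) {s : Finset α} (m l : ℕ)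
    (hm : s.card = m) (hmt : m ≤ t) (hpos : 0 < (k - m).choose (t - m))
    (hl : l * (k - m).choose (t - m) = (v - m).choose (t - m)) :
    ((blocks B).filter fun b => s ⊆ b).card = l := by
  have h := count_through hB (s := s) (by omega)
  rw [hm, hv, ← hl] at h
  exact Nat.eq_of_mul_eq_mul_right hpos h

/-- Blocks other than a given one meeting it exactly in a given set. -/
noncomputable def meet (B : Set (Finset α)) (b s : Finset α) : ℕ :=
  ((blocks B).filter fun c => c ≠ b ∧ b ∩ c = s).card

theorem meet_large (hB : IsSteinerSystem t k B) {b s : Finset α} (hb : b ∈ B) (hs : t ≤ s.card) :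
    meet B b s = 0 := by
  classical
  rw [meet, Finset.card_eq_zero, Finset.filter_eq_empty_iff]
  rintro c hc ⟨hne, rfl⟩
  exact hne (eq_of_subset hB hs (mem_blocks.1 hc) hb Finset.inter_subset_right Finset.inter_subset_left)

theorem meet_sum (hB : IsSteinerSystem t k B) {b s : Finset α} (hb : b ∈ B) (hs : s ⊆ b) :
    (∑ w ∈ (b \ s).powerset, meet B b (s ∪ w)) + 1 = ((blocks B).filter fun c => s ⊆ c).card := by
  classical
  have hmem : b ∈ (blocks B).filter fun c => s ⊆ c := by simp [hb, hs]
  rw [← Finset.card_erase_add_one hmem]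
  congr 1
  rw [Finset.card_eq_sum_card_fiberwise (f := fun c => (b ∩ c) \ s) (t := (b \ s).powerset)
    (fun c _ => Finset.mem_powerset.2 (sdiff_subset_sdiff Finset.inter_subset_left le_rfl))]
  refine Finset.sum_congr rfl fun w hw => ?_
  rw [meet]
  congr 1
  ext c
  simp only [mem_filter, mem_erase, mem_blocks]
  have hd : Disjoint w s := Finset.sdiff_disjoint.mono_left (Finset.mem_powerset.1 hw)
  constructor
  · rintro ⟨hc, hne, he⟩
    refine ⟨⟨hne, hc, ?_⟩, ?_⟩
    · exact (Finset.subset_union_left.trans he.ge).trans Finset.inter_subset_right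
    · rw [he, Finset.union_sdiff_left, Finset.sdiff_eq_self_of_disjoint hd]
  · rintro ⟨⟨hne, hc, hsc⟩, he⟩
    refine ⟨hc, hne, ?_⟩
    rw [← he, Finset.union_sdiff_of_subset (Finset.subset_inter hs hsc)]

/-- The intersection numbers of a block, from their recurrence. -/
theorem meet_eq (hB : IsSteinerSystem t k B) {v : ℕ} (hv : Fintype.card α = v) (g : ℕ → ℕ)
    (hbig : ∀ i ∈ Finset.range (k + 1), t ≤ i → g i = 0)
    (hrec : ∀ i ∈ Finset.range t, 0 < (k - i).choose (t - i) ∧
      ((∑ m ∈ Finset.range (k - i + 1), (k - i).choose m * g (i + m)) + 1) * (k - i).choose (t - i) =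
        (v - i).choose (t - i))
    {b : Finset α} (hb : b ∈ B) : ∀ s, s ⊆ b → meet B b s = g s.card := by
  classical
  intro s
  induction hn : k - s.card using Nat.strong_induction_on generalizing s with
  | _ n ih =>
    intro hs
    have hsk : s.card ≤ k := hB.1 b hb ▸ Finset.card_le_card hs
    by_cases hst : t ≤ s.card
    · rw [meet_large hB hb hst, hbig _ (Finset.mem_range.2 (by omega)) hst]
    obtain ⟨hpos, hrec⟩ := hrec s.card (Finset.mem_range.2 (by omega))
    have h := count_through hB (s := s) (by omega)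
    rw [hv, ← hrec, ← meet_sum hB hb hs] at h
    have h1 := Nat.eq_of_mul_eq_mul_right hpos h
    have hbs : (b \ s).card = k - s.card := by rw [Finset.card_sdiff_of_subset hs, hB.1 b hb]
    have h2 : (∑ w ∈ (b \ s).powerset, g (s.card + w.card)) =
        ∑ m ∈ Finset.range (k - s.card + 1), (k - s.card).choose m * g (s.card + m) := by
      rw [Finset.sum_powerset_apply_card fun m => g (s.card + m), hbs]
      simp
    rw [← h2] at h1
    have he : (∅ : Finset α) ∈ (b \ s).powerset := Finset.empty_mem_powerset _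
    have h3 : ∑ w ∈ (b \ s).powerset.erase ∅, meet B b (s ∪ w) =
        ∑ w ∈ (b \ s).powerset.erase ∅, g (s.card + w.card) := by
      refine Finset.sum_congr rfl fun w hw => ?_
      obtain ⟨hne, hw⟩ := Finset.mem_erase.1 hw
      have hw' := Finset.mem_powerset.1 hw
      have hd : Disjoint s w := (Finset.sdiff_disjoint.mono_left hw').symm
      have hc := Finset.card_union_of_disjoint hd
      have hwpos := Finset.card_pos.2 (Finset.nonempty_iff_ne_empty.2 hne)
      have hwle := Finset.card_le_card hw'
      rw [ih (k - (s ∪ w).card) (by omega) (s ∪ w) rfl (Finset.union_subset hs (hw'.trans Finset.sdiff_subset)), hc]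
    rw [← Finset.add_sum_erase _ _ he, ← Finset.add_sum_erase _ (fun w => g (s.card + w.card)) he, h3,
      Finset.union_empty, Finset.card_empty] at h1
    simp only [Nat.add_zero] at h1
    omega

theorem meet_pos {b c : Finset α} (hc : c ∈ B) (hne : b ≠ c) : 0 < meet B b (b ∩ c) :=
  Finset.card_pos.2 ⟨c, by simp [hc, hne.symm]⟩

/-- Intersection numbers of S(5, 8, 24). -/
def g24 : ℕ → ℕ | 0 => 30 | 2 => 16 | 4 => 4 | _ => 0
/-- Intersection numbers of S(4, 7, 23). -/
def g23 : ℕ → ℕ | 1 => 16 | 3 => 4 | _ => 0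
/-- Intersection numbers of S(3, 6, 22). -/
def g22 : ℕ → ℕ | 0 => 16 | 2 => 4 | _ => 0
/-- Intersection numbers of S(5, 6, 12). -/
def g12 : ℕ → ℕ | 0 => 1 | 2 => 3 | 3 => 2 | 4 => 3 | _ => 0

theorem meet24 (hB : IsSteinerSystem 5 8 B) (hα : Fintype.card α = 24) {b : Finset α} (hb : b ∈ B) :
    ∀ s, s ⊆ b → meet B b s = g24 s.card := meet_eq hB hα g24 (by decide) (by decide +kernel) hb

theorem meet23 (hB : IsSteinerSystem 4 7 B) (hα : Fintype.card α = 23) {b : Finset α} (hb : b ∈ B) :
    ∀ s, s ⊆ b → meet B b s = g23 s.card := meet_eq hB hα g23 (by decide) (by decide +kernel) hb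

theorem meet22 (hB : IsSteinerSystem 3 6 B) (hα : Fintype.card α = 22) {b : Finset α} (hb : b ∈ B) :
    ∀ s, s ⊆ b → meet B b s = g22 s.card := meet_eq hB hα g22 (by decide) (by decide +kernel) hb

theorem meet12 (hB : IsSteinerSystem 5 6 B) (hα : Fintype.card α = 12) {b : Finset α} (hb : b ∈ B) :
    ∀ s, s ⊆ b → meet B b s = g12 s.card := meet_eq hB hα g12 (by decide) (by decide +kernel) hb

theorem inter24 (hB : IsSteinerSystem 5 8 B) (hα : Fintype.card α = 24) {b c : Finset α} (hb : b ∈ B)
    (hc : c ∈ B) (hne : b ≠ c) : (b ∩ c).card = 0 ∨ (b ∩ c).card = 2 ∨ (b ∩ c).card = 4 := by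
  have h := meet_pos hc hne
  rw [meet24 hB hα hb _ Finset.inter_subset_left] at h
  generalize (b ∩ c).card = m at h ⊢
  match m, h with
  | 0, _ => omega
  | 1, h => exact absurd h (by decide)
  | 2, _ => omega
  | 3, h => exact absurd h (by decide)
  | 4, _ => omega
  | n + 5, h => exact absurd h (by simp [g24])

theorem inter22 (hB : IsSteinerSystem 3 6 B) (hα : Fintype.card α = 22) {b c : Finset α} (hb : b ∈ B)
    (hc : c ∈ B) (hne : b ≠ c) : (b ∩ c).card = 0 ∨ (b ∩ c).card = 2 := by
  have h := meet_pos hc hne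
  rw [meet22 hB hα hb _ Finset.inter_subset_left] at h
  generalize (b ∩ c).card = m at h ⊢
  match m, h with
  | 0, _ => omega
  | 1, h => exact absurd h (by decide)
  | 2, _ => omega
  | n + 3, h => exact absurd h (by simp [g22])

theorem even_inter24 (hB : IsSteinerSystem 5 8 B) (hα : Fintype.card α = 24) {b c : Finset α} (hb : b ∈ B)
    (hc : c ∈ B) : Even (b ∩ c).card := by
  by_cases h : b = c
  · subst h; rw [Finset.inter_self, hB.1 b hb]; exact ⟨4, rfl⟩
  · rcases inter24 hB hα hb hc h with e | e | e <;> rw [e] <;> decide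

/-- No four-set meets every block evenly. -/
theorem exists_odd_inter (hB : IsSteinerSystem 5 8 B) (hα : Fintype.card α = 24) (Q : Finset α)
    (hQ : Q.card = 4) : ∃ b ∈ B, ¬ Even (b ∩ Q).card := by
  classical
  by_contra hc
  push Not at hc
  obtain ⟨q, hq⟩ : Q.Nonempty := Finset.card_pos.1 (by omega)
  obtain ⟨r, hr⟩ : Qᶜ.Nonempty := Finset.card_pos.1 (by rw [Finset.card_compl]; omega)
  rw [Finset.mem_compl] at hr
  have hQr : (insert r Q).card = 5 := by rw [Finset.card_insert_of_notMem hr, hQ]
  obtain ⟨e, ⟨he, hQe⟩, huniq⟩ := hB.2 _ hQr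
  have hall : ∀ s, s ∉ Q → s ≠ r → s ∈ e := by
    intro s hs hsr
    have h5 : (insert s (insert r (Q.erase q))).card = 5 := by
      rw [Finset.card_insert_of_notMem (by simp [hsr, hs]), Finset.card_insert_of_notMem (by simp [hr]),
        Finset.card_erase_of_mem hq, hQ]
    obtain ⟨f, ⟨hf, hfs⟩, -⟩ := hB.2 _ h5
    have hsub : Q.erase q ⊆ f ∩ Q := fun z hz => Finset.mem_inter.2
      ⟨hfs (Finset.mem_insert_of_mem (Finset.mem_insert_of_mem hz)), Finset.mem_of_mem_erase hz⟩
    have h3 := Finset.card_le_card hsub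
    rw [Finset.card_erase_of_mem hq, hQ] at h3
    have h4 := Finset.card_le_card (Finset.inter_subset_right : f ∩ Q ⊆ Q)
    obtain ⟨j, hj⟩ := hc f hf
    have hQf : Q ⊆ f := by
      have := Finset.eq_of_subset_of_card_le (Finset.inter_subset_right : f ∩ Q ⊆ Q) (by omega)
      exact this.ge.trans Finset.inter_subset_left
    have : f = e := huniq f ⟨hf, Finset.insert_subset (hfs (by simp)) hQf⟩
    rw [← this]
    exact hfs (Finset.mem_insert_self _ _)
  have hbig : (insert r Q)ᶜ ⊆ e := fun s hs => by
    simp only [Finset.mem_compl, Finset.mem_insert, not_or] at hs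
    exact hall s hs.2 hs.1
  have := Finset.card_le_card hbig
  rw [Finset.card_compl, hQr, hα, hB.1 e he] at this
  omega

theorem card_symmDiff' (b c : Finset α) : (symmDiff b c).card + 2 * (b ∩ c).card = b.card + c.card := by
  rw [symmDiff_def, Finset.sup_eq_union, Finset.card_union_of_disjoint disjoint_sdiff_sdiff]
  have a1 := Finset.card_sdiff_add_card_inter b c
  have a2 := Finset.card_sdiff_add_card_inter c b
  rw [Finset.inter_comm c b] at a2
  omega

theorem even_inter_symmDiff {b x y : Finset α} (hx : Even (b ∩ x).card) (hy : Even (b ∩ y).card) :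
    Even (b ∩ symmDiff x y).card := by
  have e : b ∩ symmDiff x y = symmDiff (b ∩ x) (b ∩ y) := by
    ext; simp only [Finset.mem_inter, Finset.mem_symmDiff]; tauto
  rw [e]
  have := card_symmDiff' (b ∩ x) (b ∩ y)
  rw [Nat.even_iff] at *
  omega

/-- An eight-set meeting every block evenly is a block. -/
theorem mem_of_even (hB : IsSteinerSystem 5 8 B) (hα : Fintype.card α = 24) {D : Finset α}
    (hD : D.card = 8) (hev : ∀ b ∈ B, Even (b ∩ D).card) : D ∈ B := by
  classical
  obtain ⟨S, hS, hS5⟩ := Finset.exists_subset_card_eq (show 5 ≤ D.card by omega)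
  obtain ⟨e, ⟨he, hSe⟩, -⟩ := hB.2 S hS5
  have h5 := Finset.card_le_card (Finset.subset_inter hSe hS)
  have h8 := Finset.card_le_card (Finset.inter_subset_right : e ∩ D ⊆ D)
  obtain ⟨j, hj⟩ := hev e he
  have hcases : (e ∩ D).card = 6 ∨ (e ∩ D).card = 8 := by omega
  rcases hcases with h | h
  · exfalso
    obtain ⟨b, hb, hodd⟩ := exists_odd_inter hB hα (symmDiff e D) (by
      have := card_symmDiff' e D; rw [hB.1 e he] at this; omega)
    exact hodd (even_inter_symmDiff (even_inter24 hB hα hb he) (hev b hb))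
  · have h1 := Finset.eq_of_subset_of_card_le (Finset.inter_subset_right : e ∩ D ⊆ D) (by omega)
    have h2 := Finset.eq_of_subset_of_card_le (Finset.inter_subset_left : e ∩ D ⊆ e) (by rw [hB.1 e he]; omega)
    rwa [← h1, h2]

/-- Pairs counted through two blocks of S(3, 6, 22). -/
theorem pair_sum22 (hB : IsSteinerSystem 3 6 B) (hα : Fintype.card α = 22) (b c : Finset α) :
    ∑ x ∈ blocks B, (x ∩ b).card * (x ∩ c).card = 16 * (b ∩ c).card + 5 * (b.card * c.card) := by
  classical
  have key : ∀ x : Finset α, (x ∩ b).card * (x ∩ c).card =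
      ∑ p ∈ b, ∑ q ∈ c, if ({p, q} : Finset α) ⊆ x then 1 else 0 := by
    intro x
    rw [Finset.inter_comm x b, Finset.inter_comm x c, ← Finset.filter_mem_eq_inter,
      ← Finset.filter_mem_eq_inter, Finset.card_filter, Finset.card_filter, Finset.sum_mul_sum]
    refine Finset.sum_congr rfl fun p _ => Finset.sum_congr rfl fun q _ => ?_
    by_cases h1 : p ∈ x <;> by_cases h2 : q ∈ x <;> simp [h1, h2, Finset.insert_subset_iff]
  rw [Finset.sum_congr rfl fun x _ => key x, Finset.sum_comm]
  have hlam : ∀ p q : α, ((blocks B).filter fun x => ({p, q} : Finset α) ⊆ x).card =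
      5 + if p = q then 16 else 0 := by
    intro p q
    by_cases h : p = q
    · subst h
      rw [card_through hB hα 1 21 (by simp) (by norm_num) (by decide) (by decide +kernel)]
      simp
    · rw [card_through hB hα 2 5 (Finset.card_pair h) (by norm_num) (by decide) (by decide +kernel), if_neg h]
  rw [Finset.sum_congr rfl fun p _ => Finset.sum_comm]
  simp only [← Finset.card_filter, hlam, Finset.sum_add_distrib, Finset.sum_const, smul_eq_mul,
    Finset.sum_ite_eq]
  rw [← Finset.sum_filter, Finset.filter_mem_eq_inter, Finset.sum_const, smul_eq_mul]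
  ring

end Cfsg.Agent.Steiner
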