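import Cfsg.Prelude.Def_Sporadic_a
import Mathlib.GroupTheory.GroupAction.MultipleTransitivity
import Mathlib.Algebra.Group.Pointwise.Finset.Basic

/-!
Moving set systems along a bijection of their points.
-/

set_option autoImplicit false

namespace Cfsg.Agent.Steiner

open Cfsg
open scoped Pointwise

variable {α β : Type*} [DecidableEq α] [DecidableEq β]

theorem conj_mem_aut (e : α ≃ β) {B : Set (Finset α)} {B' : Set (Finset β)}
    (h : (fun b => b.image e) '' B = B') (σ : Equiv.Perm α) :
    e.permCongr σ ∈ setSystemAut B' ↔ σ ∈ setSystemAut B := by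
  rw [MulAction.mem_stabilizer_iff, MulAction.mem_stabilizer_iff, ← h]
  have himg : ∀ b : Finset α, e.permCongr σ • b.image e = (σ • b).image e := fun b => by
    rw [Finset.smul_finset_def, Finset.smul_finset_def, Finset.image_image, Finset.image_image]
    refine Finset.image_congr fun a _ => ?_
    simp [Equiv.permCongr_apply]
  have e1 : e.permCongr σ • ((fun b : Finset α => b.image e) '' B) = (fun b => b.image e) '' (σ • B) := by
    rw [← Set.image_smul, ← Set.image_smul, Set.image_image, Set.image_image]
    exact Set.image_congr fun b _ => himg b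
  rw [e1]
  exact (Set.image_injective.2 (Finset.image_injective e.injective)).eq_iff

/-- The automorphism groups of two systems matched by a bijection. -/
def autCongr (e : α ≃ β) {B : Set (Finset α)} {B' : Set (Finset β)}
    (h : (fun b => b.image e) '' B = B') : setSystemAut B ≃* setSystemAut B' where
  toFun σ := ⟨e.permCongr σ.1, (conj_mem_aut e h σ.1).2 σ.2⟩
  invFun τ := ⟨e.symm.permCongr τ.1, (conj_mem_aut e h _).1 (by
    rw [show e.permCongr (e.symm.permCongr τ.1) = τ.1 from Equiv.ext fun x => by simp [Equiv.permCongr_apply]]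
    exact τ.2)⟩
  left_inv σ := Subtype.ext (Equiv.ext fun x => by simp [Equiv.permCongr_apply])
  right_inv τ := Subtype.ext (Equiv.ext fun x => by simp [Equiv.permCongr_apply])
  map_mul' σ τ := Subtype.ext (Equiv.ext fun x => by simp [Equiv.permCongr_apply])

theorem autCongr_apply (e : α ≃ β) {B : Set (Finset α)} {B' : Set (Finset β)}
    (h : (fun b => b.image e) '' B = B') (σ : setSystemAut B) (x : α) :
    ((autCongr e h σ : setSystemAut B') : Equiv.Perm β) (e x) = e ((σ : Equiv.Perm α) x) := by
  simp [autCongr, Equiv.permCongr_apply]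

theorem pretransitive_congr (e : α ≃ β) {B : Set (Finset α)} {B' : Set (Finset β)}
    (h : (fun b => b.image e) '' B = B') {n : ℕ}
    (hT : MulAction.IsMultiplyPretransitive (setSystemAut B') β n) :
    MulAction.IsMultiplyPretransitive (setSystemAut B) α n := by
  rw [MulAction.isMultiplyPretransitive_iff] at hT ⊢
  intro x y
  obtain ⟨τ, hτ⟩ := hT (x := x.trans e.toEmbedding) (y := y.trans e.toEmbedding)
  refine ⟨(autCongr e h).symm τ, Function.Embedding.ext fun i => e.injective ?_⟩
  have h1 := autCongr_apply e h ((autCongr e h).symm τ) (x i)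
  rw [MulEquiv.apply_symm_apply] at h1
  have h2 := congrArg (fun f : Fin n ↪ β => f i) hτ
  exact h1.symm.trans h2

theorem iso_trans {γ : Type*} [DecidableEq γ] {B : Set (Finset α)} {B' : Set (Finset β)} {C : Set (Finset γ)}
    {e : α ≃ γ} {f : β ≃ γ} (h : (fun b => b.image e) '' B = C) (h' : (fun b => b.image f) '' B' = C) :
    SetSystemIso B B' := by
  refine ⟨e.trans f.symm, ?_⟩
  rw [← h'] at h
  have := congrArg (Set.image fun c : Finset γ => c.image f.symm) h
  rw [Set.image_image, Set.image_image] at this
  simp only [Finset.image_image, Equiv.symm_comp_self, Finset.image_id, Set.image_id'] at this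
  exact this

end Cfsg.Agent.Steiner
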