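import Cfsg.Agent.Lib.Steiner.Unique24
import Cfsg.Agent.Lib.Steiner.Transport
import Cfsg.Agent.Lib.Golay.Conj
import Cfsg.Agent.Lib.Golay.Mathieu
import Cfsg.Agent.Lib.Golay.Gens
import Mathlib.Data.Finset.Option
import Mathlib.Logic.Equiv.Option

/-!
An S(4, 7, 23) extends to an S(5, 8, 24) by one new point.
-/

set_option autoImplicit false

namespace Cfsg.Agent.Steiner

open Cfsg Finset
open scoped Pointwise

variable {α β : Type*} [DecidableEq α] [DecidableEq β]

/-- The blocks with the new point added, and the sums of two blocks meeting in three points. -/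
def extend23 (B : Set (Finset α)) : Set (Finset (Option α)) :=
  {x | ∃ b ∈ B, x = insertNone b} ∪
    {x | ∃ b ∈ B, ∃ c ∈ B, (b ∩ c).card = 3 ∧ x = (symmDiff b c).map Function.Embedding.some}

theorem insertNone_image (e : α ≃ β) (b : Finset α) :
    (insertNone b).image (Equiv.optionCongr e) = insertNone (b.image e) := by
  ext (_ | y)
  · simp
  · simp only [Finset.mem_image, some_mem_insertNone]
    constructor
    · rintro ⟨(_ | a), ha, h⟩
      · simp at h
      · exact ⟨a, some_mem_insertNone.1 ha, by simpa using h⟩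
    · rintro ⟨a, ha, rfl⟩
      exact ⟨some a, some_mem_insertNone.2 ha, by simp⟩

theorem map_some_image (e : α ≃ β) (s : Finset α) :
    (s.map Function.Embedding.some).image (Equiv.optionCongr e) =
      (s.image e).map Function.Embedding.some := by
  rw [Finset.map_eq_image, Finset.map_eq_image, Finset.image_image, Finset.image_image]
  exact Finset.image_congr fun a _ => by simp

theorem symmDiff_image (e : α ≃ β) (b c : Finset α) :
    (symmDiff b c).image e = symmDiff (b.image e) (c.image e) :=
  Finset.image_symmDiff _ _ e.injective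

theorem extend23_image (e : α ≃ β) {B : Set (Finset α)} {B' : Set (Finset β)}
    (h : (fun b => b.image e) '' B = B') :
    (fun x : Finset (Option α) => x.image (Equiv.optionCongr e)) '' extend23 B = extend23 B' := by
  subst h
  ext y
  constructor
  · rintro ⟨x, (⟨b, hb, rfl⟩ | ⟨b, hb, c, hc, h3, rfl⟩), rfl⟩
    · exact Or.inl ⟨_, ⟨b, hb, rfl⟩, insertNone_image e b⟩
    · refine Or.inr ⟨_, ⟨b, hb, rfl⟩, _, ⟨c, hc, rfl⟩, ?_, ?_⟩
      · rw [← Finset.image_inter _ _ e.injective, Finset.card_image_of_injective _ e.injective, h3]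
      · show (Finset.map _ (symmDiff b c)).image _ = _
        rw [map_some_image, symmDiff_image]
  · rintro (⟨_, ⟨b, hb, rfl⟩, rfl⟩ | ⟨_, ⟨b, hb, rfl⟩, _, ⟨c, hc, rfl⟩, h3, rfl⟩)
    · exact ⟨_, Or.inl ⟨b, hb, rfl⟩, insertNone_image e b⟩
    · refine ⟨_, Or.inr ⟨b, hb, c, hc, ?_, rfl⟩, ?_⟩
      · rwa [← Finset.image_inter _ _ e.injective, Finset.card_image_of_injective _ e.injective] at h3
      · show (Finset.map _ (symmDiff b c)).image _ = _
        rw [map_some_image, symmDiff_image]

theorem mem_of_insertNone_mem {B : Set (Finset α)} {b : Finset α} (h : insertNone b ∈ extend23 B) :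
    b ∈ B := by
  rcases h with ⟨c, hc, e⟩ | ⟨c, hc, d, hd, -, e⟩
  · rwa [insertNone.injective e]
  · have hn : (none : Option α) ∈ insertNone b := none_mem_insertNone
    rw [e] at hn
    simp at hn

theorem image_of_extend23 {B : Set (Finset α)} {B' : Set (Finset β)} (g : Option α ≃ Option β)
    (hg : g none = none) (h : (fun x : Finset (Option α) => x.image g) '' extend23 B = extend23 B') :
    (fun b => b.image (Equiv.removeNone g)) '' B = B' := by
  have hopt : Equiv.optionCongr (Equiv.removeNone g) = g := by
    refine Equiv.ext fun x => ?_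
    rcases x with _ | a
    · simp [hg]
    · rw [Equiv.optionCongr_apply, Option.map_some, Equiv.removeNone_some]
      rcases hga : g (some a) with _ | y
      · exact absurd (g.injective (hga.trans hg.symm)) (by simp)
      · exact ⟨y, rfl⟩
  ext c
  constructor
  · rintro ⟨b, hb, rfl⟩
    refine mem_of_insertNone_mem ?_
    rw [← insertNone_image, hopt, ← h]
    exact ⟨_, Or.inl ⟨b, hb, rfl⟩, rfl⟩
  · intro hc
    refine ⟨c.image (Equiv.removeNone g).symm, ?_, by
      simp only [Finset.image_image, Equiv.self_comp_symm, Finset.image_id]⟩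
    apply mem_of_insertNone_mem
    have hc' : insertNone c ∈ extend23 B' := Or.inl ⟨c, hc, rfl⟩
    rw [← h] at hc'
    obtain ⟨x, hx, hxc⟩ := hc'
    suffices x = insertNone (c.image (Equiv.removeNone g).symm) by rwa [← this]
    apply Finset.image_injective g.injective
    refine hxc.trans ?_
    show _ = (insertNone (c.image (Equiv.removeNone g).symm)).image g
    have h2 := insertNone_image (Equiv.removeNone g) (c.image (Equiv.removeNone g).symm)
    rw [hopt] at h2
    rw [h2, Finset.image_image, Equiv.self_comp_symm, Finset.image_id]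

variable [Fintype α] {B : Set (Finset α)} (hB : IsSteinerSystem 4 7 B) (hα : Fintype.card α = 23)
include hB hα

theorem inter23 {b c : Finset α} (hb : b ∈ B) (hc : c ∈ B) (hne : b ≠ c) :
    (b ∩ c).card = 1 ∨ (b ∩ c).card = 3 := by
  have h := meet_pos hc hne
  rw [meet23 hB hα hb _ Finset.inter_subset_left] at h
  generalize (b ∩ c).card = m at h ⊢
  match m, h with
  | 0, h => exact absurd h (by decide)
  | 1, _ => omega
  | 2, h => exact absurd h (by decide)
  | 3, _ => omega
  | n + 4, h => exact absurd h (by simp [g23])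

omit hB hα in
theorem insertNone_inter (b c : Finset α) : insertNone b ∩ insertNone c = insertNone (b ∩ c) := by
  ext (_ | a) <;> simp

theorem even_inter_ins {b c : Finset α} (hb : b ∈ B) (hc : c ∈ B) :
    Even (insertNone b ∩ insertNone c).card := by
  rw [insertNone_inter, card_insertNone, Nat.even_iff]
  by_cases e : b = c
  · rw [e, Finset.inter_self, hB.1 c hc]
  · rcases inter23 hB hα hb hc e with h | h <;> rw [h]

theorem gen23_even {b : Finset α} {S : Finset (Option α)} (hb : b ∈ B)
    (hS : Gen (insertNone '' B) S) : Even (insertNone b ∩ S).card := by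
  induction hS with
  | zero => simp
  | add hc _ ih =>
    obtain ⟨c, hc, rfl⟩ := hc
    exact even_inter_symmDiff (even_inter_ins hB hα hb hc) ih

theorem gen23_four {S : Finset (Option α)} (hS : Gen (insertNone '' B) S) : 4 ∣ S.card := by
  induction hS with
  | zero => simp
  | @add x S hx hS ih =>
    obtain ⟨b, hb, rfl⟩ := hx
    have h := card_symmDiff' (insertNone b) S
    obtain ⟨r, hr⟩ := gen23_even hB hα hb hS
    rw [card_insertNone, hB.1 b hb] at h
    omega

omit hα in
theorem exists_through_not {T : Finset α} {a : α} (ha : a ∈ T) (l l' : ℕ)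
    (hl : ((blocks B).filter fun b => T.erase a ⊆ b).card = l)
    (hl' : ((blocks B).filter fun b => T ⊆ b).card = l') (hlt : l' < l) :
    ∃ b ∈ B, b ∩ T = T.erase a := by
  have _ := hB
  obtain ⟨b, hb, hb'⟩ := Finset.exists_mem_notMem_of_card_lt_card (hl' ▸ hl ▸ hlt :
    ((blocks B).filter fun b => T ⊆ b).card < ((blocks B).filter fun b => T.erase a ⊆ b).card)
  simp only [Finset.mem_filter, mem_blocks] at hb hb'
  refine ⟨b, hb.1, Finset.Subset.antisymm ?_ (Finset.subset_inter hb.2 (Finset.erase_subset _ _))⟩
  intro x hx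
  rw [Finset.mem_inter] at hx
  refine Finset.mem_erase.2 ⟨fun e => hb' ⟨hb.1, fun y hy => ?_⟩, hx.2⟩
  by_cases hy' : y = a
  · subst hy'; exact e ▸ hx.1
  · exact hb.2 (Finset.mem_erase.2 ⟨hy', hy⟩)

theorem gen23_ne_four {S : Finset (Option α)} (hS : Gen (insertNone '' B) S) : S.card ≠ 4 := by
  intro h4
  set T : Finset α := eraseNone S with hT
  have key : ∀ b, insertNone b ∩ S = if none ∈ S then insertNone (b ∩ T)
      else (b ∩ T).map Function.Embedding.some := by
    intro b
    split <;> next h => ext (_ | a) <;> simp [h, hT]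
  by_cases hn : none ∈ S
  · have hT3 : T.card = 3 := by
      have : insertNone T = S := by ext (_ | a) <;> simp [hn, hT]
      have := congrArg Finset.card this
      rw [card_insertNone] at this
      omega
    obtain ⟨a, ha⟩ := Finset.card_pos.1 (show 0 < T.card by omega)
    obtain ⟨b, hb, hbT⟩ := exists_through_not hB ha 21 5
      (card_through hB hα 2 21 (by rw [Finset.card_erase_of_mem ha, hT3]) (by omega) (by decide) (by decide))
      (card_through hB hα 3 5 hT3 (by omega) (by decide) (by decide)) (by omega)
    have he := gen23_even hB hα hb hS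
    rw [key, if_pos hn, card_insertNone, hbT, Finset.card_erase_of_mem ha, hT3] at he
    revert he; decide
  · have hT4 : T.card = 4 := by
      have : T.map Function.Embedding.some = S := by ext (_ | a) <;> simp [hn, hT]
      rw [← h4, ← this, Finset.card_map]
    obtain ⟨a, ha⟩ := Finset.card_pos.1 (show 0 < T.card by omega)
    obtain ⟨b, hb, hbT⟩ := exists_through_not hB ha 5 1
      (card_through hB hα 3 5 (by rw [Finset.card_erase_of_mem ha, hT4]) (by omega) (by decide) (by decide))
      (card_through hB hα 4 1 hT4 (by omega) (by decide) (by decide)) (by omega)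
    have he := gen23_even hB hα hb hS
    rw [key, if_neg hn, Finset.card_map, hbT, Finset.card_erase_of_mem ha, hT4] at he
    revert he; decide

theorem extend23_gen {x : Finset (Option α)} (hx : x ∈ extend23 B) :
    Gen (insertNone '' B) x ∧ x.card = 8 := by
  rcases hx with ⟨b, hb, rfl⟩ | ⟨b, hb, c, hc, h3, rfl⟩
  · exact ⟨Gen.block ⟨b, hb, rfl⟩, by rw [card_insertNone, hB.1 b hb]⟩
  · constructor
    · have e : (symmDiff b c).map Function.Embedding.some = symmDiff (insertNone b) (insertNone c) := by
        ext (_ | a) <;> simp [Finset.mem_symmDiff]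
      rw [e]
      exact (Gen.block (Set.mem_image_of_mem _ hb)).sum (Gen.block (Set.mem_image_of_mem _ hc))
    · rw [Finset.card_map]
      have := card_symmDiff' b c
      rw [hB.1 b hb, hB.1 c hc, h3] at this
      omega

theorem card_blocks23 : (blocks B).card = 253 := by
  have := card_through hB hα (s := (∅ : Finset α)) 0 253 rfl (by omega) (by decide) (by decide)
  rwa [Finset.filter_true_of_mem fun b _ => Finset.empty_subset b] at this

theorem card_three_meet {b : Finset α} (hb : b ∈ B) :
    ((blocks B).filter fun c => (b ∩ c).card = 3).card = 140 := by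
  rw [Finset.card_eq_sum_card_fiberwise (f := fun c => b ∩ c) (t := b.powersetCard 3)
    (fun c hc => Finset.mem_powersetCard.2 ⟨Finset.inter_subset_left, (Finset.mem_filter.1 hc).2⟩)]
  have : ∀ s ∈ b.powersetCard 3,
      (((blocks B).filter fun c => (b ∩ c).card = 3).filter fun c => b ∩ c = s).card = 4 := by
    intro s hs
    rw [Finset.mem_powersetCard] at hs
    have h := meet23 hB hα hb s hs.1
    rw [hs.2] at h
    rw [show (4 : ℕ) = g23 3 from rfl, ← h, meet, Finset.filter_filter]
    congr 1
    refine Finset.filter_congr fun c _ => ⟨fun ⟨h1, h2⟩ => ⟨fun e => ?_, h2⟩, fun ⟨_, h2⟩ => ⟨h2 ▸ hs.2, h2⟩⟩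
    rw [e, Finset.inter_self, hB.1 b hb] at h1
    omega
  rw [Finset.sum_congr rfl this, Finset.sum_const, Finset.card_powersetCard, hB.1 b hb]
  decide

theorem isSteiner_extend23 : IsSteinerSystem 5 8 (extend23 B) := by
  classical
  have hinter : ∀ x ∈ extend23 B, ∀ y ∈ extend23 B, 5 ≤ (x ∩ y).card → x = y := by
    intro x hx y hy h5
    obtain ⟨gx, cx⟩ := extend23_gen hB hα hx
    obtain ⟨gy, cy⟩ := extend23_gen hB hα hy
    have h := card_symmDiff' x y
    have a := gen23_four hB hα (gx.sum gy)
    have c := gen23_ne_four hB hα (gx.sum gy)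
    exact symmDiff_eq_bot.1 (Finset.card_eq_zero.1 (by omega))
  refine ⟨fun x hx => (extend23_gen hB hα hx).2, fun S hS => ?_⟩
  let D : Finset (Finset α) :=
    ((blocks B ×ˢ blocks B).filter fun p => (p.1 ∩ p.2).card = 3).image fun p => symmDiff p.1 p.2
  have hD : 506 ≤ D.card := by
    have hP : ((blocks B ×ˢ blocks B).filter fun p => (p.1 ∩ p.2).card = 3).card = 253 * 140 := by
      rw [Finset.card_filter, Finset.sum_product, Finset.sum_congr rfl fun b hb => ?_, Finset.sum_const,
        card_blocks23 hB hα, smul_eq_mul]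
      rw [← Finset.card_filter]
      exact card_three_meet hB hα (mem_blocks.1 hb)
    have hle := Finset.card_le_mul_card_image
      ((blocks B ×ˢ blocks B).filter fun p => (p.1 ∩ p.2).card = 3) (f := fun p => symmDiff p.1 p.2) 70 ?_
    · rw [hP] at hle
      change 253 * 140 ≤ 70 * D.card at hle
      omega
    intro U hU
    obtain ⟨⟨b, c⟩, hbc, rfl⟩ := Finset.mem_image.1 hU
    simp only [Finset.mem_filter, Finset.mem_product, mem_blocks] at hbc
    refine (Finset.card_le_card_of_injOn (fun p => p.1 \ p.2) (t := (symmDiff b c).powersetCard 4) ?_ ?_).trans ?_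
    · intro p hp
      replace hp := Finset.mem_coe.1 hp
      simp only [Finset.mem_filter, Finset.mem_product, mem_blocks] at hp
      refine Finset.mem_powersetCard.2 ⟨hp.2 ▸ (le_sup_left : p.1 \ p.2 ≤ symmDiff p.1 p.2), ?_⟩
      have := Finset.card_sdiff_add_card_inter p.1 p.2
      rw [hB.1 _ hp.1.1.1, hp.1.2] at this
      show (p.1 \ p.2).card = 4
      omega
    · intro p hp q hq h
      simp only [Finset.mem_coe, Finset.mem_filter, Finset.mem_product, mem_blocks] at hp hq
      have h4 : 4 ≤ (p.1 \ p.2).card := by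
        have := Finset.card_sdiff_add_card_inter p.1 p.2
        rw [hB.1 _ hp.1.1.1, hp.1.2] at this
        omega
      have h1 : p.1 = q.1 := eq_of_subset hB h4 hp.1.1.1 hq.1.1.1 Finset.sdiff_subset
        (show p.1 \ p.2 ⊆ q.1 from (show p.1 \ p.2 = q.1 \ q.2 from h) ▸ Finset.sdiff_subset)
      refine Prod.ext h1 ?_
      have h2 := hp.2.trans hq.2.symm
      rw [h1] at h2
      exact symmDiff_right_inj.1 h2
    · rw [Finset.card_powersetCard]
      have : (symmDiff b c).card = 8 := by
        have := card_symmDiff' b c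
        rw [hB.1 b hbc.1.1, hB.1 c hbc.1.2, hbc.2] at this
        omega
      rw [this]; decide
  let O : Finset (Finset (Option α)) :=
    (blocks B).image insertNone ∪ D.image fun U => U.map Function.Embedding.some
  have hO : ∀ x ∈ O, x ∈ extend23 B := by
    intro x hx
    simp only [O, D, Finset.mem_union, Finset.mem_image, Finset.mem_filter, Finset.mem_product, mem_blocks] at hx
    rcases hx with ⟨b, hb, rfl⟩ | ⟨U, ⟨⟨b, c⟩, ⟨⟨hb, hc⟩, h3⟩, rfl⟩, rfl⟩
    · exact Or.inl ⟨b, hb, rfl⟩
    · exact Or.inr ⟨b, hb, c, hc, h3, rfl⟩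
  have hOc : 759 ≤ O.card := by
    rw [Finset.card_union_of_disjoint, Finset.card_image_of_injective _ insertNone.injective,
      card_blocks23 hB hα, Finset.card_image_of_injective _ (Finset.map_injective _)]
    · omega
    · rw [Finset.disjoint_left]
      intro x hx hx'
      obtain ⟨b, -, rfl⟩ := Finset.mem_image.1 hx
      obtain ⟨U, -, e⟩ := Finset.mem_image.1 hx'
      have hn : (none : Option α) ∈ insertNone b := none_mem_insertNone
      rw [← e] at hn
      simp at hn
  have hall : O.biUnion (fun x => x.powersetCard 5) = (univ : Finset (Option α)).powersetCard 5 := by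
    refine Finset.eq_of_subset_of_card_le (fun s hs => ?_) ?_
    · obtain ⟨x, -, hs⟩ := Finset.mem_biUnion.1 hs
      exact Finset.mem_powersetCard.2 ⟨Finset.subset_univ _, (Finset.mem_powersetCard.1 hs).2⟩
    · rw [Finset.card_powersetCard, Finset.card_univ, Fintype.card_option, hα, Finset.card_biUnion,
        Finset.sum_congr rfl fun x hx => show (x.powersetCard 5).card = 56 by
          rw [Finset.card_powersetCard, (extend23_gen hB hα (hO x hx)).2]; decide,
        Finset.sum_const, smul_eq_mul]
      · have : Nat.choose (23 + 1) 5 = 42504 := by decide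
        omega
      · intro x hx y hy hne
        rw [Function.onFun, Finset.disjoint_left]
        intro s hs hs'
        rw [Finset.mem_powersetCard] at hs hs'
        exact hne (hinter x (hO x hx) y (hO y hy) (hs.2 ▸ Finset.card_le_card (Finset.subset_inter hs.1 hs'.1)))
  have hSm : S ∈ O.biUnion fun x => x.powersetCard 5 :=
    hall ▸ Finset.mem_powersetCard.2 ⟨Finset.subset_univ _, hS⟩
  obtain ⟨x, hx, hxS⟩ := Finset.mem_biUnion.1 hSm
  rw [Finset.mem_powersetCard] at hxS
  exact ⟨x, ⟨hO x hx, hxS.1⟩, fun y hy => hinter y hy.1 x (hO x hx)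
    (hS ▸ Finset.card_le_card (Finset.subset_inter hy.2 hxS.1))⟩

/-- An S(4, 7, 23) is the octads through the extra point. -/
theorem exists_extend23_iso : ∃ e : Option α ≃ GolayPt, e none = none ∧
    (fun x : Finset (Option α) => x.image e) '' extend23 B = octads := by
  obtain ⟨e, he⟩ := exists_octad_iso (isSteiner_extend23 hB hα) (by simp [hα])
  obtain ⟨σ, hσ, h⟩ := Golay24.exists_map_le_five (n := 1) (by norm_num)
    ⟨fun _ => e none, fun a b _ => Subsingleton.elim a b⟩
    ⟨fun _ => (none : GolayPt), fun a b _ => Subsingleton.elim a b⟩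
  refine ⟨e.trans σ, h 0, ?_⟩
  rw [Golay24.M24_eq_octadAut] at hσ
  have hs : σ • octads = octads := hσ
  rw [← he, ← Set.image_smul, Set.image_image] at hs
  rw [← he]
  refine Eq.trans (Set.image_congr fun x _ => ?_) hs
  rw [Finset.smul_finset_def, Finset.image_image]
  rfl

end Cfsg.Agent.Steiner
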