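import Cfsg.Agent.Lib.Steiner.Counting

/-!
Disjointness counts in S(3, 6, 22).
-/

set_option autoImplicit false

namespace Cfsg.Agent.Steiner

open Cfsg Finset

variable {α : Type*} [Fintype α] [DecidableEq α] {B : Set (Finset α)}

theorem disj_count22 (hB : IsSteinerSystem 3 6 B) (hα : Fintype.card α = 22) {b : Finset α} (hb : b ∈ B) :
    ((blocks B).filter fun x => Disjoint b x).card = 16 := by
  classical
  rw [← show meet B b ∅ = 16 from meet22 hB hα hb ∅ (Finset.empty_subset _), meet]
  congr 1
  ext x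
  simp only [mem_filter, mem_blocks, Finset.disjoint_iff_inter_eq_empty]
  refine and_congr_right fun _ => ⟨fun h => ⟨?_, h⟩, fun h => h.2⟩
  rintro rfl
  rw [Finset.inter_self] at h
  have := hB.1 x hb
  simp [h] at this

theorem card_blocks22 (hB : IsSteinerSystem 3 6 B) (hα : Fintype.card α = 22) : (blocks B).card = 77 := by
  rw [← card_through hB hα (s := (∅ : Finset α)) 0 77 rfl (by norm_num) (by decide) (by decide +kernel)]
  simp

theorem common_disj22 (hB : IsSteinerSystem 3 6 B) (hα : Fintype.card α = 22) {b c : Finset α} (hb : b ∈ B)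
    (hc : c ∈ B) (hne : b ≠ c) :
    ((blocks B).filter fun x => Disjoint b x ∧ Disjoint c x).card = if Disjoint b c then 0 else 4 := by
  classical
  set R := ((blocks B).erase b).erase c with hR
  have hcm : c ∈ (blocks B).erase b := Finset.mem_erase.2 ⟨hne.symm, mem_blocks.2 hc⟩
  have hbm : b ∈ blocks B := mem_blocks.2 hb
  have hRc : R.card = 75 := by
    rw [hR, Finset.card_erase_of_mem hcm, Finset.card_erase_of_mem hbm, card_blocks22 hB hα]
  have hsum := pair_sum22 hB hα b c
  rw [← Finset.add_sum_erase _ _ hbm, ← Finset.add_sum_erase _ _ hcm, ← hR, hB.1 b hb, hB.1 c hc,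
    Finset.inter_self, Finset.inter_self, hB.1 b hb, hB.1 c hc, Finset.inter_comm c b] at hsum
  have hinter : ∀ x ∈ R, ∀ y ∈ B, y = b ∨ y = c → (x ∩ y).card = 0 ∨ (x ∩ y).card = 2 := by
    intro x hx y hy hyy
    simp only [hR, mem_erase, mem_blocks] at hx
    exact inter22 hB hα hx.2.2 hy (by rintro rfl; rcases hyy with rfl | rfl; exacts [hx.2.1 rfl, hx.1 rfl])
  have hprod : ∑ x ∈ R, (x ∩ b).card * (x ∩ c).card =
      4 * (R.filter fun x => ¬ Disjoint b x ∧ ¬ Disjoint c x).card := by
    rw [Finset.card_filter, Finset.mul_sum]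
    refine Finset.sum_congr rfl fun x hx => ?_
    have e1 : Disjoint b x ↔ (x ∩ b).card = 0 := by
      rw [Finset.card_eq_zero, ← Finset.disjoint_iff_inter_eq_empty]; exact disjoint_comm
    have e2 : Disjoint c x ↔ (x ∩ c).card = 0 := by
      rw [Finset.card_eq_zero, ← Finset.disjoint_iff_inter_eq_empty]; exact disjoint_comm
    rcases hinter x hx b hb (Or.inl rfl) with h1 | h1 <;> rcases hinter x hx c hc (Or.inr rfl) with h2 | h2 <;>
      simp [e1, e2, h1, h2]
  have hdb : ¬ Disjoint b b := fun h => by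
    have := hB.1 b hb; simp [disjoint_self.1 h] at this
  have hdc : ¬ Disjoint c c := fun h => by
    have := hB.1 c hc; simp [disjoint_self.1 h] at this
  have hfull : ((blocks B).filter fun x => Disjoint b x ∧ Disjoint c x) = R.filter fun x => Disjoint b x ∧ Disjoint c x := by
    ext x
    simp only [hR, mem_filter, mem_erase]
    refine ⟨fun h => ⟨⟨?_, ?_, h.1⟩, h.2⟩, fun h => ⟨h.1.2.2, h.2⟩⟩
    · rintro rfl; exact hdc h.2.2
    · rintro rfl; exact hdb h.2.1
  have hone : ∀ y z : Finset α, y ∈ B → z ∈ B → (y = b ∧ z = c ∨ y = c ∧ z = b) →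
      (R.filter fun x => Disjoint y x).card + (if Disjoint b c then 1 else 0) = 16 := by
    intro y z hy hz hyz
    rw [← disj_count22 hB hα hy]
    have hdy : ¬ Disjoint y y := by rcases hyz with ⟨rfl, -⟩ | ⟨rfl, -⟩; exacts [hdb, hdc]
    have hyz' : Disjoint y z ↔ Disjoint b c := by
      rcases hyz with ⟨rfl, rfl⟩ | ⟨rfl, rfl⟩
      exacts [Iff.rfl, disjoint_comm]
    have hset : (R.filter fun x => Disjoint y x) = ((blocks B).filter fun x => Disjoint y x).erase z := by
      ext x
      simp only [hR, mem_filter, mem_erase]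
      constructor
      · rintro ⟨⟨h1, h2, h3⟩, h4⟩
        refine ⟨?_, h3, h4⟩
        rcases hyz with ⟨-, rfl⟩ | ⟨-, rfl⟩
        exacts [h1, h2]
      · rintro ⟨h1, h3, h4⟩
        have : x ≠ y := fun e => hdy (e ▸ h4)
        rcases hyz with ⟨rfl, rfl⟩ | ⟨rfl, rfl⟩
        exacts [⟨⟨h1, this, h3⟩, h4⟩, ⟨⟨this, h1, h3⟩, h4⟩]
    rw [hset]
    by_cases h : Disjoint b c
    · rw [if_pos h, Finset.card_erase_add_one (by simp [hz, hyz'.2 h])]
    · rw [if_neg h, Nat.add_zero, Finset.erase_eq_of_notMem (by simp [hyz', h])]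
  have e1 := hone b c hb hc (Or.inl ⟨rfl, rfl⟩)
  have e2 := hone c b hc hb (Or.inr ⟨rfl, rfl⟩)
  have hie : (R.filter fun x => Disjoint b x ∧ Disjoint c x).card + R.card =
      (R.filter fun x => Disjoint b x).card + (R.filter fun x => Disjoint c x).card +
        (R.filter fun x => ¬ Disjoint b x ∧ ¬ Disjoint c x).card := by
    have h1 := Finset.card_union_add_card_inter (R.filter fun x => Disjoint b x) (R.filter fun x => Disjoint c x)
    rw [← Finset.filter_or, ← Finset.filter_and] at h1
    have h2 := Finset.card_filter_add_card_filter_not (s := R) (fun x => Disjoint b x ∨ Disjoint c x)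
    rw [show (R.filter fun x => ¬ (Disjoint b x ∨ Disjoint c x)) = R.filter fun x => ¬ Disjoint b x ∧ ¬ Disjoint c x from
      Finset.filter_congr fun x _ => not_or] at h2
    omega
  rw [hfull]
  by_cases h : Disjoint b c
  · rw [if_pos h] at e1 e2 ⊢
    rw [Finset.disjoint_iff_inter_eq_empty.1 h, Finset.card_empty, hprod] at hsum
    omega
  · rw [if_neg h] at e1 e2 ⊢
    rcases inter22 hB hα hb hc hne with h0 | h0
    · exact absurd (Finset.disjoint_iff_inter_eq_empty.2 (Finset.card_eq_zero.1 h0)) h
    · rw [h0, hprod] at hsum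
      omega

theorem point_disj22 (hB : IsSteinerSystem 3 6 B) (hα : Fintype.card α = 22) {b : Finset α} (hb : b ∈ B)
    (p : α) : ((blocks B).filter fun x => p ∈ x ∧ Disjoint b x).card = if p ∈ b then 0 else 6 := by
  classical
  by_cases hp : p ∈ b
  · rw [if_pos hp, Finset.card_eq_zero, Finset.filter_eq_empty_iff]
    exact fun x _ h => Finset.disjoint_left.1 h.2 hp h.1
  rw [if_neg hp]
  have h21 : ((blocks B).filter fun x => p ∈ x).card = 21 := by
    rw [← card_through hB hα (s := {p}) 1 21 rfl (by norm_num) (by decide) (by decide +kernel)]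
    simp
  have hsum := pair_sum22 hB hα {p} b
  rw [Finset.singleton_inter_of_notMem hp, Finset.card_empty, Finset.card_singleton, hB.1 b hb] at hsum
  have hterm : ∑ x ∈ blocks B, (x ∩ {p}).card * (x ∩ b).card =
      2 * ((blocks B).filter fun x => p ∈ x ∧ ¬ Disjoint b x).card := by
    rw [Finset.card_filter, Finset.mul_sum]
    refine Finset.sum_congr rfl fun x hx => ?_
    by_cases hpx : p ∈ x
    · have e1 : Disjoint b x ↔ (x ∩ b).card = 0 := by
        rw [Finset.card_eq_zero, ← Finset.disjoint_iff_inter_eq_empty]; exact disjoint_comm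
      rw [Finset.inter_singleton_of_mem hpx]
      rcases inter22 hB hα (mem_blocks.1 hx) hb (fun e => hp (e ▸ hpx)) with h | h <;> simp [e1, h, hpx]
    · simp [Finset.inter_singleton_of_notMem hpx, hpx]
  have hsplit := Finset.card_filter_add_card_filter_not (s := (blocks B).filter fun x => p ∈ x) (fun x => Disjoint b x)
  rw [Finset.filter_filter, Finset.filter_filter, h21] at hsplit
  omega

theorem common_points22 (hB : IsSteinerSystem 3 6 B) (hα : Fintype.card α = 22) {p q : α} (hne : p ≠ q) :
    ((blocks B).filter fun x => p ∈ x ∧ q ∈ x).card = 5 := by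
  rw [← card_through hB hα (s := {p, q}) 2 5 (Finset.card_pair hne) (by norm_num) (by decide) (by decide +kernel)]
  congr 1
  ext x; simp [Finset.insert_subset_iff]

theorem point_blocks22 (hB : IsSteinerSystem 3 6 B) (hα : Fintype.card α = 22) (p : α) :
    ((blocks B).filter fun x => p ∈ x).card = 21 := by
  rw [← card_through hB hα (s := {p}) 1 21 rfl (by norm_num) (by decide) (by decide +kernel)]
  simp

end Cfsg.Agent.Steiner
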