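import Cfsg.Agent.Lib.Steiner.HSGraphCheck
import Cfsg.Agent.Lib.Steiner.Graphs
import Cfsg.Agent.Lib.Steiner.Aut22
import Cfsg.Agent.Lib.LeechCount.HSGroup

/-!
The point-block graph of an S(3, 6, 22) is the graph of the Higman-Sims configuration: its automorphism
group has order 88704000 and contains the simple group of the configuration.
-/

set_option autoImplicit false
set_option linter.style.haveILetI false

namespace Cfsg.Agent.Steiner.HSGraph

open Cfsg Search Search22 MulAction

section Relabel

variable {α β : Type*} [DecidableEq β] {B : Set (Finset α)} {B' : Set (Finset β)}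

/-- The bijection of blocks of a relabelling. -/
noncomputable def blkEquiv (e : α ≃ β) (h : (fun b => b.image e) '' B = B') : B ≃ B' :=
  Equiv.ofBijective (fun b => ⟨b.1.image e, h ▸ ⟨b.1, b.2, rfl⟩⟩)
    ⟨fun a b hab => Subtype.ext (Finset.image_injective e.injective (congrArg Subtype.val hab)), fun c => by
      have hc : c.1 ∈ (fun b => b.image e) '' B := by rw [h]; exact c.2
      obtain ⟨b, hb, he⟩ := hc
      exact ⟨⟨b, hb⟩, Subtype.ext he⟩⟩

@[simp] theorem blkEquiv_val (e : α ≃ β) (h : (fun b => b.image e) '' B = B') (b : B) :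
    (blkEquiv e h b).1 = b.1.image e := rfl

/-- The relabelling of vertices. -/
noncomputable def vEquiv (e : α ≃ β) (h : (fun b => b.image e) '' B = B') :
    Option (α ⊕ B) ≃ Option (β ⊕ B') :=
  Equiv.optionCongr (e.sumCongr (blkEquiv e h))

theorem rel_vEquiv (e : α ≃ β) (h : (fun b => b.image e) '' B = B') (x y : Option (α ⊕ B)) :
    pointBlockRel B' (vEquiv e h x) (vEquiv e h y) ↔ pointBlockRel B x y := by
  rcases x with _ | (a | b) <;> rcases y with _ | (a' | c) <;>
    simp [vEquiv, pointBlockRel, Finset.disjoint_image e.injective]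

/-- An isomorphism of systems gives an isomorphism of graphs. -/
noncomputable def pbgIso (e : α ≃ β) (h : (fun b => b.image e) '' B = B') :
    pointBlockGraph B ≃g pointBlockGraph B' where
  toEquiv := vEquiv e h
  map_rel_iff' {x y} := by
    simp only [pointBlockGraph, SimpleGraph.fromRel_adj, rel_vEquiv, ne_eq, (vEquiv e h).injective.eq_iff]

end Relabel

/-- The automorphism groups of isomorphic graphs. -/
def autCongr {V W : Type*} {G : SimpleGraph V} {H : SimpleGraph W} (φ : G ≃g H) : (G ≃g G) ≃* (H ≃g H) where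
  toFun f := (φ.symm.trans f).trans φ
  invFun f := (φ.trans f).trans φ.symm
  left_inv f := RelIso.ext fun x => by simp
  right_inv f := RelIso.ext fun x => by simp
  map_mul' f g := RelIso.ext fun x => by simp [RelIso.coe_mul]

/-- The standard blocks. -/
abbrev stdB : Set (Finset (Fin 22)) := sysOf 22 std22

/-- The vertices of the standard graph. -/
abbrev Vtx : Type := Option (Fin 22 ⊕ stdB)

theorem std22_len : std22.length = 77 ∧ std22.Nodup := by decide +kernel

/-- The index of a block. -/
def bIdx (b : stdB) : ℕ := std22.idxOf (msk b.1)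

theorem bIdx_lt (b : stdB) : bIdx b < 77 := std22_len.1 ▸ List.idxOf_lt_length_iff.2 b.2

theorem bIdx_get (b : stdB) : std22.getD (bIdx b) 0 = msk b.1 := by
  have h : std22.idxOf (msk b.1) < std22.length := List.idxOf_lt_length_iff.2 b.2
  show std22.getD (std22.idxOf (msk b.1)) 0 = _
  rw [List.getD_eq_getElem _ _ h]
  exact List.getElem_idxOf h

theorem bIdx_inj : Function.Injective bIdx := fun a b h => by
  have := congrArg (fun i => std22.getD i 0) h
  simp only [bIdx_get] at this
  exact Subtype.ext (msk_injective this)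

/-- The code of a vertex. -/
def code : Vtx → List ℤ
  | none => hsRoot
  | some (Sum.inl i) => hsPts.getD i []
  | some (Sum.inr b) => hsBlks.getD (bIdx b) []

/-- The position of a vertex in the table. -/
def pos : Vtx → ℕ
  | none => 0
  | some (Sum.inl i) => i + 1
  | some (Sum.inr b) => bIdx b + 23

theorem code_eq (x : Vtx) : pos x < hsAll.length ∧ code x = hsAll.getD (pos x) [] := by
  have hl : hsPts.length = 22 ∧ hsBlks.length = 77 := by decide +kernel
  rcases x with _ | (i | b)
  · exact ⟨by simp [pos, hsAll], rfl⟩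
  · have := i.isLt
    refine ⟨by simp [pos, hsAll, hl.1, hl.2]; omega, ?_⟩
    show hsPts.getD i [] = (hsRoot :: (hsPts ++ hsBlks)).getD (i + 1) []
    rw [List.getD_cons_succ, List.getD_append _ _ _ _ (by omega)]
  · have := bIdx_lt b
    refine ⟨by simp [pos, hsAll, hl.1, hl.2]; omega, ?_⟩
    show hsBlks.getD (bIdx b) [] = (hsRoot :: (hsPts ++ hsBlks)).getD (bIdx b + 22 + 1) []
    rw [List.getD_cons_succ, List.getD_append_right _ _ _ _ (by omega), hl.1, Nat.add_sub_cancel]

theorem pos_inj : Function.Injective pos := fun x y h => by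
  rcases x with _ | (i | b) <;> rcases y with _ | (j | c) <;> simp only [pos] at h
  · rfl
  · omega
  · omega
  · omega
  · have : i = j := Fin.ext (by omega)
    rw [this]
  · have := i.isLt; omega
  · omega
  · have := j.isLt; omega
  · have : b = c := bIdx_inj (by omega)
    rw [this]

theorem code_facts (x : Vtx) : (code x).length = 24 ∧ LeechCount.vecOf (code x) ∈ leechLattice ∧
    LeechCount.dotL (code x) (code x) = 32 ∧ LeechCount.dotL LeechCount.uList (code x) = 24 ∧
    LeechCount.dotL LeechCount.dList (code x) = 0 := by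
  have h := tableOk_true
  simp only [tableOk, Bool.and_eq_true, List.all_eq_true, decide_eq_true_eq, Bool.or_eq_true] at h
  obtain ⟨hp, he⟩ := code_eq x
  rw [he, List.getD_eq_getElem _ _ hp]
  obtain ⟨⟨⟨⟨hl, hm⟩, hn⟩, hu⟩, hd⟩ := h.1.1.1.1.1.1.2 _ (List.getElem_mem hp)
  exact ⟨hl, hm.elim LeechCount.mem_of_latOk LeechCount.mem_of_latOk, hn, hu, hd⟩

theorem code_inj : Function.Injective code := fun x y h => by
  have h' := tableOk_true
  simp only [tableOk, Bool.and_eq_true, List.all_eq_true, decide_eq_true_eq] at h'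
  obtain ⟨hx, ex⟩ := code_eq x
  obtain ⟨hy, ey⟩ := code_eq y
  refine pos_inj ((List.Nodup.getElem_inj_iff h'.1.1.1.1.1.2 (hi := hx) (hj := hy)).1 ?_)
  simp only [ex, ey, List.getD_eq_getElem _ _ hx, List.getD_eq_getElem _ _ hy] at h
  exact h

/-- Adjacency is inner product eight. -/
theorem adj_iff_dot (x y : Vtx) :
    (pointBlockGraph stdB).Adj x y ↔ LeechCount.dotL (code x) (code y) = 8 := by
  have h := tableOk_true
  simp only [tableOk, Bool.and_eq_true, List.all_eq_true, decide_eq_true_eq, beq_iff_eq, List.mem_range,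
    Bool.or_eq_true] at h
  obtain ⟨⟨⟨⟨⟨⟨⟨⟨hp, hb⟩, -⟩, -⟩, hrp⟩, hrb⟩, hpp⟩, hpb⟩, hbb⟩ := h
  have memP : ∀ i : Fin 22, hsPts.getD i [] ∈ hsPts := fun i => by
    rw [List.getD_eq_getElem _ _ (by omega)]; exact List.getElem_mem _
  have memB : ∀ b : stdB, hsBlks.getD (bIdx b) [] ∈ hsBlks := fun b => by
    rw [List.getD_eq_getElem _ _ (by have := bIdx_lt b; omega)]; exact List.getElem_mem _
  have sym : ∀ a b : Vtx, LeechCount.dotL (code a) (code b) = LeechCount.dotL (code b) (code a) := fun a b => by
    rw [← LeechCount.dot_vecOf (code_facts a).1 (code_facts b).1, ← LeechCount.dot_vecOf (code_facts b).1 (code_facts a).1,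
      Leech.dot_comm]
  rw [pointBlockGraph, SimpleGraph.fromRel_adj]
  rcases eq_or_ne x y with rfl | hne
  · simp [(code_facts x).2.2.1]
  rcases x with _ | (i | b) <;> rcases y with _ | (j | c)
  · exact absurd rfl hne
  · simp [-List.getD_eq_getElem?_getD, pointBlockRel, code, hrp _ (memP j)]
  · simp [-List.getD_eq_getElem?_getD, pointBlockRel, code, hrb _ (memB c)]
  · rw [sym]; simp [-List.getD_eq_getElem?_getD, pointBlockRel, code, hrp _ (memP i)]
  · have hij : (i : ℕ) ≠ (j : ℕ) := fun e => hne (by rw [Fin.ext e])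
    simp [-List.getD_eq_getElem?_getD, pointBlockRel, code, ((hpp i i.isLt j j.isLt).resolve_left hij)]
  · have h1 := (hpb i i.isLt _ (bIdx_lt c)).1
    rw [bIdx_get, testBit_msk, Bool.eq_iff_iff] at h1
    simp only [beq_iff_eq, decide_eq_true_eq] at h1
    simp [-List.getD_eq_getElem?_getD, pointBlockRel, code, h1]
  · rw [sym]; simp [-List.getD_eq_getElem?_getD, pointBlockRel, code, hrb _ (memB b)]
  · have h1 := (hpb j j.isLt _ (bIdx_lt b)).2
    rw [bIdx_get, testBit_msk, Bool.eq_iff_iff] at h1
    simp only [beq_iff_eq, decide_eq_true_eq] at h1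
    simp [-List.getD_eq_getElem?_getD, pointBlockRel, code, h1]
  · have hbc : bIdx b ≠ bIdx c := fun e => hne (by rw [bIdx_inj e])
    have h1 := (hbb _ (bIdx_lt b) _ (bIdx_lt c)).resolve_left hbc
    rw [bIdx_get, bIdx_get, Bool.eq_iff_iff] at h1
    simp only [beq_iff_eq] at h1
    have hd : Disjoint b.1 c.1 ↔ Nat.land (msk b.1) (msk c.1) = 0 := by
      rw [Finset.disjoint_left]
      constructor
      · intro h
        apply Nat.eq_of_testBit_eq
        intro k
        rw [show Nat.land (msk b.1) (msk c.1) = msk b.1 &&& msk c.1 from rfl, Nat.testBit_and, Nat.zero_testBit]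
        by_cases hk : k < 22
        · rw [testBit_msk b.1 ⟨k, hk⟩, testBit_msk c.1 ⟨k, hk⟩]
          by_cases hb' : (⟨k, hk⟩ : Fin 22) ∈ b.1
          · simp [h hb']
          · simp [hb']
        · have hlt : msk b.1 < 2 ^ k :=
            lt_of_lt_of_le (b := 2 ^ 22) (std22_facts.1 _ b.2) (Nat.pow_le_pow_right (by norm_num) (by omega))
          rw [Nat.testBit_lt_two_pow hlt]
          simp
      · intro h i hi hi'
        have := congrArg (fun m => m.testBit i.val) h
        simp [show Nat.land (msk b.1) (msk c.1) = msk b.1 &&& msk c.1 from rfl, testBit_msk, hi, hi'] at this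
    constructor
    · rintro ⟨-, h | h⟩
      · exact h1.2 (hd.1 h)
      · exact h1.2 (hd.1 (h : Disjoint c.1 b.1).symm)
    · exact fun h => ⟨hne, Or.inl (hd.2 (h1.1 h))⟩

noncomputable section

open LeechCount Leech

/-- The norm 48 vector of the configuration. -/
def u0 : ↥leechLattice := ⟨Spor.vecV, vecV_leech⟩
/-- The norm 32 vector of the configuration. -/
def X0 : ↥leechLattice := ⟨Spor.vecU', vecU'_facts.1⟩

theorem u0_spec : sqNorm (u0 : Vec) = 48 ∧ sqNorm (X0 : Vec) = 32 ∧ dotInt (X0 : Vec) u0 = -16 :=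
  ⟨vecV_norm, vecU'_facts.2.1, vecU'_facts.2.2⟩

/-- The configuration point of a vertex. -/
def toPt (x : Vtx) : HSPts u0 X0 :=
  ⟨⟨vecOf (code x), (code_facts x).2.1⟩, by
    obtain ⟨hl, hm, hn, hd, hd'⟩ := code_facts x
    refine mem_twoFS.2 ⟨⟨hm, ?_⟩, ?_, ?_⟩
    · rw [← dot_self, dot_vecOf hl hl, hn]
    · show dotInt Spor.vecV _ = 24
      rw [← uList_eq, dot_vecOf uList_length hl, hd]
    · show dotInt Spor.vecU' _ = 0
      rw [← dList_eq, dot_vecOf (by simp [dList]) hl]
      exact hd'⟩

theorem card_Vtx : Nat.card Vtx = 100 := by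
  have hB : Nat.card stdB = 77 := by
    rw [← card_blocks22 (isSteiner_sysOf steiner22_ok) (Fintype.card_fin 22), Nat.card_coe_set_eq,
      ← Set.ncard_coe_finset]
    congr 1
    ext b
    simp [mem_blocks]
  rw [Finite.card_option, Nat.card_sum, Nat.card_fin, hB]

theorem toPt_bij : Function.Bijective toPt := by
  have hn : Nat.card (HSPts u0 X0) = 100 := by
    obtain ⟨a, b, c⟩ := u0_spec
    rw [← hs_count u0.2 a X0.2 b c, ← Nat.card_eq_finsetCard]
    exact Nat.card_congr
      { toFun := fun z => ⟨(z.1 : Vec), z.2⟩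
        invFun := fun x => ⟨⟨x.1, (mem_twoFS.1 x.2).1.1⟩, x.2⟩
        left_inv := fun z => rfl
        right_inv := fun x => rfl }
  haveI : Finite (HSPts u0 X0) := Nat.finite_of_card_ne_zero (by rw [hn]; norm_num)
  refine (Nat.bijective_iff_injective_and_card toPt).2 ⟨fun x y h => code_inj ?_, by rw [hn, card_Vtx]⟩
  exact vecOf_inj (code_facts x).1 (code_facts y).1 (congrArg (fun z : HSPts u0 X0 => (z.1 : Vec)) h)

/-- The identification of vertices and configuration points. -/
def vtxEquiv : Vtx ≃ HSPts u0 X0 := Equiv.ofBijective toPt toPt_bij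

theorem adj_iff_pt (x y : Vtx) :
    (pointBlockGraph stdB).Adj x y ↔ dotInt ((vtxEquiv x).1 : Vec) (vtxEquiv y).1 = 8 := by
  rw [adj_iff_dot, ← dot_vecOf (code_facts x).1 (code_facts y).1]
  rfl

/-- The group of the configuration. -/
abbrev hsG : Subgroup ↥Co0 := stabilizer ↥Co0 u0 ⊓ stabilizer ↥Co0 X0

/-- The action of the configuration group on the graph. -/
def hsHom : ↥hsG →* (pointBlockGraph stdB ≃g pointBlockGraph stdB) where
  toFun g :=
    { toEquiv := vtxEquiv.trans ((MulAction.toPerm g).trans vtxEquiv.symm)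
      map_rel_iff' := fun {x y} => by
        simp only [adj_iff_pt, Equiv.trans_apply, MulAction.toPerm_apply, Equiv.apply_symm_apply, hs_smul_val,
          co0_smul_dot] }
  map_one' := RelIso.ext fun x => by
    show vtxEquiv.symm ((1 : ↥hsG) • vtxEquiv x) = x
    rw [one_smul, Equiv.symm_apply_apply]
  map_mul' g h := RelIso.ext fun x => by
    show vtxEquiv.symm ((g * h) • vtxEquiv x) = vtxEquiv.symm (g • vtxEquiv (vtxEquiv.symm (h • vtxEquiv x)))
    rw [mul_smul, Equiv.apply_symm_apply]

theorem hsHom_trans (x y : Vtx) : ∃ g : ↥hsG, hsHom g x = y := by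
  obtain ⟨a, b, c⟩ := u0_spec
  have fa := frame_of_point a b c (vtxEquiv x)
  have fb := frame_of_point a b c (vtxEquiv y)
  obtain ⟨g, g1, g2, g3⟩ := frame_triple (a := 1) (b := -5) (N := 48) fa.mX fa.nX fa.mz fa.nz fa.Xz fa.mu fa.nu
    (fa.Xu.trans (by norm_num)) (by rw [dot_comm, fa.uz]; norm_num) fb.mX fb.nX fb.mz fb.nz fb.Xz fb.mu fb.nu
    (fb.Xu.trans (by norm_num)) (by rw [dot_comm, fb.uz]; norm_num) (by decide) (by norm_num)
  refine ⟨⟨g, mem_stabilizer_iff.2 ((smul_eq_iff_ap g u0 u0).2 g3),
    mem_stabilizer_iff.2 ((smul_eq_iff_ap g X0 X0).2 g1)⟩, ?_⟩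
  show vtxEquiv.symm _ = y
  rw [Equiv.symm_apply_eq]
  exact Subtype.ext ((smul_eq_iff_ap g _ _).2 g2)

theorem isHS_range : IsHS hsHom.range := by
  obtain ⟨a, b, c⟩ := u0_spec
  obtain ⟨hsimp, hcard⟩ := isHS_stab a b c
  haveI := hsimp
  have hinj : Function.Injective hsHom := by
    rw [← MonoidHom.ker_eq_bot_iff]
    refine (hsimp.eq_bot_or_eq_top_of_normal _ inferInstance).resolve_right fun htop => ?_
    obtain ⟨g, hg⟩ := hsHom_trans none (some (Sum.inl 0))
    have : hsHom g = 1 := MonoidHom.mem_ker.1 (htop ▸ Subgroup.mem_top g)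
    rw [this] at hg
    exact Option.some_ne_none _ hg.symm
  refine ⟨?_, ?_⟩
  · exact (MonoidHom.ofInjective hinj).symm.isSimpleGroup
  · rw [← Nat.card_congr (MonoidHom.ofInjective hinj).toEquiv]; exact hcard

theorem card_setSystemAut_std : Nat.card (setSystemAut stdB) = 887040 := by
  obtain ⟨φ, hφ, -⟩ := pairStab_spec
  rw [← Nat.card_congr (MulEquiv.ofBijective φ hφ).toEquiv, card_pairStab]

theorem card_aut_std : Nat.card (pointBlockGraph stdB ≃g pointBlockGraph stdB) = 88704000 := by
  classical
  set A := (pointBlockGraph stdB ≃g pointBlockGraph stdB) with hA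
  haveI : Finite A := Finite.of_injective (fun f : A => (f : Vtx → Vtx)) DFunLike.coe_injective
  letI : MulAction A Vtx :=
    { smul := fun f x => f x
      one_smul := fun _ => rfl
      mul_smul := fun _ _ _ => rfl }
  have hsm : ∀ (f : A) (x : Vtx), f • x = f x := fun _ _ => rfl
  have hadj : ∀ i : Fin 22, (pointBlockGraph stdB).Adj none (some (Sum.inl i)) := fun i => by
    simp [pointBlockGraph, pointBlockRel]
  have hmem : ∀ (i : Fin 22) (b : stdB), (pointBlockGraph stdB).Adj (some (Sum.inl i)) (some (Sum.inr b)) ↔ i ∈ b.1 :=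
    fun i b => by simp [pointBlockGraph, pointBlockRel]
  have hstab : Nat.card (stabilizer A (none : Vtx)) = 887040 := by
    rw [← card_setSystemAut_std]
    refine (Nat.card_congr (Equiv.ofBijective (fun σ : setSystemAut stdB =>
      (⟨pbgIso σ.1 ((mem_setSystemAut_iff _ _).1 σ.2), mem_stabilizer_iff.2 rfl⟩ : stabilizer A (none : Vtx))) ⟨?_, ?_⟩)).symm
    · intro σ τ h
      refine Subtype.ext (Equiv.ext fun i => ?_)
      have := congrArg (fun f : stabilizer A (none : Vtx) => (f : A) (some (Sum.inl i))) h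
      change (some (Sum.inl (σ.1 i)) : Vtx) = some (Sum.inl (τ.1 i)) at this
      simpa using this
    · rintro ⟨f, hf⟩
      rw [mem_stabilizer_iff, hsm] at hf
      have hpt : ∀ i, ∃ j, f (some (Sum.inl i)) = some (Sum.inl j) := fun i => by
        have h := (f.map_adj_iff).2 (hadj i)
        rw [hf] at h
        revert h
        rcases f (some (Sum.inl i)) with _ | (j | b) <;> intro h
        · exact absurd h (SimpleGraph.irrefl _)
        · exact ⟨j, rfl⟩
        · simp [pointBlockGraph, pointBlockRel] at h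
      choose s hs using hpt
      have hsinj : Function.Injective s := fun i j h => by
        have : f (some (Sum.inl i)) = f (some (Sum.inl j)) := by rw [hs, hs, h]
        simpa using f.injective this
      let σ : Equiv.Perm (Fin 22) := Equiv.ofBijective s (Finite.injective_iff_bijective.1 hsinj)
      have hblk : ∀ b : stdB, ∃ c : stdB, f (some (Sum.inr b)) = some (Sum.inr c) ∧ c.1 = b.1.image σ := by
        intro b
        rcases hfb : f (some (Sum.inr b)) with _ | (j | c)
        · exact absurd (f.injective (hfb.trans hf.symm)) (by simp)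
        · exfalso
          obtain ⟨i, hi⟩ := (Finite.injective_iff_bijective.1 hsinj).2 j
          exact absurd (f.injective (hfb.trans (by rw [← hi, ← hs]))) (by simp)
        · refine ⟨c, rfl, ?_⟩
          ext j
          obtain ⟨i, rfl⟩ := σ.surjective j
          rw [σ.injective.mem_finset_image, ← hmem i b, ← hmem (σ i) c,
            ← f.map_adj_iff (v := some (Sum.inl i)), hs, hfb]
          rfl
      have hσ : σ ∈ setSystemAut stdB := by
        rw [mem_setSystemAut_iff]
        refine Set.eq_of_subset_of_ncard_le ?_ (le_of_eq (Set.ncard_image_of_injective _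
          (Finset.image_injective σ.injective)).symm) (Set.toFinite _)
        rintro _ ⟨b, hb, rfl⟩
        obtain ⟨c, -, hc⟩ := hblk ⟨b, hb⟩
        show b.image σ ∈ stdB
        rw [show b.image σ = c.1 from hc.symm]
        exact c.2
      refine ⟨⟨σ, hσ⟩, Subtype.ext (RelIso.ext fun x => ?_)⟩
      rcases x with _ | (i | b)
      · exact hf.symm
      · rw [hs]; rfl
      · obtain ⟨c, hc1, hc2⟩ := hblk b
        rw [hc1]
        show some (Sum.inr (blkEquiv σ _ b)) = some (Sum.inr c)
        rw [show blkEquiv σ _ b = c from Subtype.ext hc2.symm]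
  have horb : orbit A (none : Vtx) = Set.univ := Set.eq_univ_of_forall fun y => by
    obtain ⟨g, hg⟩ := hsHom_trans none y
    exact ⟨hsHom g, hg⟩
  have h := Subgroup.card_mul_index (stabilizer A (none : Vtx))
  rw [hstab, index_stabilizer, horb, Set.ncard_univ, card_Vtx] at h
  omega

end

variable {α : Type*} [Fintype α] {B : Set (Finset α)}

theorem exists_iso_std (hα : Fintype.card α = 22) (hB : IsSteinerSystem 3 6 B) :
    Nonempty (pointBlockGraph B ≃g pointBlockGraph stdB) := by
  classical
  obtain ⟨e, he⟩ := exists_std22_iso hB hα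
  exact ⟨pbgIso e he⟩

theorem card_aut (hα : Fintype.card α = 22) (hB : IsSteinerSystem 3 6 B) :
    Nat.card (pointBlockGraph B ≃g pointBlockGraph B) = 88704000 := by
  obtain ⟨φ⟩ := exists_iso_std hα hB
  rw [Nat.card_congr (autCongr φ).toEquiv, card_aut_std]

theorem exists_hs (hα : Fintype.card α = 22) (hB : IsSteinerSystem 3 6 B) :
    ∃ H : Subgroup (pointBlockGraph B ≃g pointBlockGraph B), IsHS H := by
  obtain ⟨φ⟩ := exists_iso_std hα hB
  obtain ⟨hs, hc⟩ := isHS_range
  let e := (autCongr φ).symm.subgroupMap hsHom.range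
  refine ⟨hsHom.range.map (autCongr φ).symm.toMonoidHom, ?_, ?_⟩
  · haveI := hs
    exact e.symm.isSimpleGroup
  · exact (Nat.card_congr e.toEquiv).symm.trans hc

end Cfsg.Agent.Steiner.HSGraph
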