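import Cfsg.Agent.Lib.Steiner.SRG100
import Cfsg.Agent.Lib.Golay.Mathieu

/-!
A rank three group on 100 points with point stabiliser of order 443520 and suborbits 1, 22, 77 is the
group of the Higman-Sims configuration.
-/

set_option autoImplicit false
set_option maxHeartbeats 800000
set_option linter.style.haveILetI false

namespace Cfsg.Agent.Steiner.HSRank3

open Cfsg MulAction

section Param

variable {V : Type*} [Fintype V] [DecidableEq V]

theorem trace_idem {M : Matrix V V ℚ} (h : M * M = M) : ∃ n : ℕ, M.trace = n := by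
  have hi : IsIdempotentElem (Matrix.toLin' M) := by
    show Matrix.toLin' M * Matrix.toLin' M = Matrix.toLin' M
    rw [Module.End.mul_eq_comp, ← Matrix.toLin'_mul, h]
  have := (LinearMap.IsIdempotentElem.isProj_range _ hi).trace
  exact ⟨_, (Matrix.trace_toLin'_eq M).symm.trans this⟩

/-- The all-ones matrix. -/
def ones (V : Type*) : Matrix V V ℚ := fun _ _ => 1

theorem ones_mul_ones : ones V * ones V = (Fintype.card V : ℚ) • ones V := by
  ext i j; simp [ones, Matrix.mul_apply]

variable {G : SimpleGraph V} [DecidableRel G.Adj]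

theorem adj_sq {l m : ℕ} (hG : G.IsSRGWith 100 22 l m) :
    G.adjMatrix ℚ * G.adjMatrix ℚ = ((22 : ℚ) - m) • 1 + ((l : ℚ) - m) • G.adjMatrix ℚ + (m : ℚ) • ones V := by
  have h := hG.matrix_eq (α := ℚ)
  rw [pow_two] at h
  rw [h]
  simp only [← Nat.cast_smul_eq_nsmul ℚ]
  ext i j
  by_cases hij : i = j
  · subst hij
    simp [ones, Matrix.one_apply, SimpleGraph.adjMatrix_apply]
  · by_cases ha : G.Adj i j <;> simp [ones, Matrix.one_apply, SimpleGraph.adjMatrix_apply, hij, ha]

theorem adj_ones {l m : ℕ} (hG : G.IsSRGWith 100 22 l m) :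
    G.adjMatrix ℚ * ones V = (22 : ℚ) • ones V ∧ ones V * G.adjMatrix ℚ = (22 : ℚ) • ones V := by
  constructor <;> ext i j
  · simp [ones, hG.regular i]
  · simp [ones, hG.regular j]

/-- The parameters of a strongly regular graph on 100 vertices with valency 22 and these two suborbit sizes. -/
theorem param {l m : ℕ} (hG : G.IsSRGWith 100 22 l m) (hl : l < 22) : l = 0 ∧ m = 6 := by
  have hp := SimpleGraph.IsSRGWith.param_eq G hG (by norm_num)
  have hm : (l = 0 ∧ m = 6) ∨ (l = 7 ∧ m = 4) ∨ (l = 14 ∧ m = 2) ∨ (l = 21 ∧ m = 0) := by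
    interval_cases l <;> omega
  set A := G.adjMatrix ℚ with hA
  have htA : A.trace = 0 := G.trace_adjMatrix ℚ
  have htJ : (ones V).trace = 100 := by simp [ones, Matrix.trace, hG.card]
  have ht1 : (1 : Matrix V V ℚ).trace = 100 := by simp [Matrix.trace_one, hG.card]
  have hJJ : ones V * ones V = (100 : ℚ) • ones V := by rw [ones_mul_ones, hG.card]; norm_num
  obtain ⟨hAJ, hJA⟩ := adj_ones hG
  have hsq := adj_sq hG
  rw [← hA] at hAJ hJA hsq
  rcases hm with h | ⟨rfl, rfl⟩ | ⟨rfl, rfl⟩ | ⟨rfl, rfl⟩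
  · exact h
  · exfalso
    obtain ⟨n, hn⟩ := trace_idem (M := (1 / 36 : ℚ) • ((4 : ℚ) • A + (12 : ℚ) • (1 : Matrix V V ℚ) - ones V)) (by
      simp only [smul_mul_assoc, mul_smul_comm, sub_mul, mul_sub, add_mul, mul_add, one_mul, mul_one, hsq, hAJ,
        hJA, hJJ, smul_sub, smul_add, smul_smul]
      module)
    simp only [Matrix.trace_smul, Matrix.trace_sub, Matrix.trace_add, htA, htJ, ht1, smul_eq_mul] at hn
    have : 36 * n = 1100 := by
      have : (36 * n : ℚ) = 1100 := by rw [← hn]; norm_num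
      exact_mod_cast this
    omega
  · exfalso
    have hX : (A - (6 : ℚ) • (1 : Matrix V V ℚ)) * (A - (6 : ℚ) • (1 : Matrix V V ℚ)) =
        (56 : ℚ) • (1 + Matrix.replicateCol Unit (fun _ : V => (1 / 28 : ℚ)) * Matrix.replicateRow Unit (fun _ : V => (1 : ℚ))) := by
      have e : Matrix.replicateCol Unit (fun _ : V => (1 / 28 : ℚ)) * Matrix.replicateRow Unit (fun _ : V => (1 : ℚ)) =
          (1 / 28 : ℚ) • ones V := by
        ext i j; simp [ones, Matrix.mul_apply]
      rw [e]
      simp only [sub_mul, mul_sub, smul_mul_assoc, mul_smul_comm, one_mul, mul_one, hsq, smul_sub, smul_add, smul_smul]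
      module
    have hd := congrArg Matrix.det hX
    have hdot : (1 : ℚ) + (fun _ : V => (1 : ℚ)) ⬝ᵥ (fun _ => (1 / 28 : ℚ)) = 128 / 28 := by
      simp [dotProduct, hG.card]; norm_num
    rw [Matrix.det_mul, Matrix.det_smul, Matrix.det_one_add_replicateCol_mul_replicateRow, hdot, hG.card] at hd
    have h56 : IsSquare (56 : ℚ) := by
      refine ⟨(A - (6 : ℚ) • (1 : Matrix V V ℚ)).det / (56 ^ 49 * 16), ?_⟩
      rw [div_mul_div_comm, hd]
      norm_num
    rw [show (56 : ℚ) = ((56 : ℕ) : ℚ) by norm_num, Rat.isSquare_natCast_iff] at h56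
    obtain ⟨r, hr⟩ := h56
    have : r ≤ 56 := by nlinarith
    interval_cases r <;> omega
  · exfalso
    obtain ⟨n, hn⟩ := trace_idem (M := (1 / 23 : ℚ) • (A + (1 : Matrix V V ℚ))) (by
      simp only [smul_mul_assoc, mul_smul_comm, add_mul, mul_add, one_mul, mul_one, hsq, smul_add, smul_smul]
      simp only [Nat.cast_zero, Nat.cast_ofNat]
      module)
    simp only [Matrix.trace_smul, Matrix.trace_add, htA, ht1, smul_eq_mul] at hn
    have : 23 * n = 100 := by
      have : (23 * n : ℚ) = 100 := by rw [← hn]; norm_num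
      exact_mod_cast this
    omega

end Param

open HSGraph in
theorem iso_of_rank3 {Ω : Type*} [Fintype Ω] [DecidableEq Ω] (hΩ : Fintype.card Ω = 100)
    (G : Subgroup (Equiv.Perm Ω)) [IsPretransitive G Ω] (a : Ω) (hcard : Nat.card (stabilizer G a) = 443520)
    (b c : Ω) (hb : (orbit (stabilizer G a) b).ncard = 22) (hc : (orbit (stabilizer G a) c).ncard = 77) :
    Spor.IsoHS G := by
  classical
  let R : Ω → Ω → Prop := fun x y => ∃ g : G, g • a = x ∧ g • b = y
  have hRg : ∀ (g : G) x y, R x y → R (g • x) (g • y) := by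
    rintro g x y ⟨h, rfl, rfl⟩; exact ⟨g * h, mul_smul _ _ _, mul_smul _ _ _⟩
  have hRg' : ∀ (g : G) x y, R (g • x) (g • y) ↔ R x y := fun g x y =>
    ⟨fun h => by simpa using hRg g⁻¹ _ _ h, hRg g x y⟩
  have hRa : ∀ y, R a y ↔ y ∈ orbit (stabilizer G a) b := by
    intro y
    constructor
    · rintro ⟨g, hg, rfl⟩; exact ⟨⟨g, hg⟩, rfl⟩
    · rintro ⟨g, rfl⟩; exact ⟨g.1, g.2, rfl⟩
  have hne : ∀ y, y ≠ a → (orbit (stabilizer G a) y).ncard ≠ 1 → a ∉ orbit (stabilizer G a) y := by
    rintro y hy - ⟨g, hg⟩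
    have h : g.1 • y = g.1 • a := hg.trans g.2.symm
    exact hy (smul_left_cancel _ h)
  have horba : orbit (stabilizer G a) a = {a} := by
    ext y
    refine ⟨?_, fun h => h ▸ mem_orbit_self _⟩
    rintro ⟨g, rfl⟩; exact g.2
  have hba : b ≠ a := fun h => by rw [h, horba, Set.ncard_singleton] at hb; omega
  have hca : c ≠ a := fun h => by rw [h, horba, Set.ncard_singleton] at hc; omega
  have hbc : orbit (stabilizer G a) b ≠ orbit (stabilizer G a) c := fun h => by rw [h] at hb; omega
  have hcov : ∀ y, y = a ∨ y ∈ orbit (stabilizer G a) b ∨ y ∈ orbit (stabilizer G a) c := by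
    have hd : Disjoint (orbit (stabilizer G a) b) (orbit (stabilizer G a) c) :=
      Set.disjoint_left.2 fun y h1 h2 => hbc ((orbit_eq_iff.2 h1).symm.trans (orbit_eq_iff.2 h2))
    have h1 : a ∉ orbit (stabilizer G a) b := hne b hba (by omega)
    have h2 : a ∉ orbit (stabilizer G a) c := hne c hca (by omega)
    have e : insert a (orbit (stabilizer G a) b ∪ orbit (stabilizer G a) c) = Set.univ := by
      refine Set.eq_of_subset_of_ncard_le (Set.subset_univ _) ?_
      rw [Set.ncard_univ, Nat.card_eq_fintype_card, hΩ, Set.ncard_insert_of_notMem (by simp [h1, h2]),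
        Set.ncard_union_eq hd, hb, hc]
    intro y
    have : y ∈ insert a (orbit (stabilizer G a) b ∪ orbit (stabilizer G a) c) := e ▸ Set.mem_univ y
    simpa using this
  have hout : ∀ x, (Finset.univ.filter fun y => R x y).card = 22 := by
    intro x
    obtain ⟨g, rfl⟩ := exists_smul_eq G a x
    rw [← hb, Set.ncard_eq_toFinset_card']
    symm
    refine Finset.card_bij (fun y _ => g • y) (fun y hy => ?_) (fun y _ z _ h => smul_left_cancel _ h) fun y hy => ?_
    · simpa [hRg', hRa] using hy
    · refine ⟨g⁻¹ • y, ?_, smul_inv_smul g y⟩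
      rw [Set.mem_toFinset, ← hRa]
      have := hRg g⁻¹ _ _ (Finset.mem_filter.1 hy).2
      rwa [inv_smul_smul] at this
  have hin : (Finset.univ.filter fun y => R y a).card = 22 := by
    have h1 : ∑ x, (Finset.univ.filter fun y => R x y).card = 2200 := by
      simp [hout, hΩ]
    have h2 : ∑ x, (Finset.univ.filter fun y => R x y).card = ∑ y, (Finset.univ.filter fun x => R x y).card := by
      simp only [Finset.card_filter]; exact Finset.sum_comm
    have h3 : ∀ y, (Finset.univ.filter fun x => R x y).card = (Finset.univ.filter fun x => R x a).card := by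
      intro y
      obtain ⟨g, rfl⟩ := exists_smul_eq G a y
      exact (Finset.card_bij (fun x _ => g • x) (fun x hx => by simpa [hRg'] using hx)
        (fun x _ z _ h => smul_left_cancel _ h)
        (fun x hx => ⟨g⁻¹ • x, Finset.mem_filter.2 ⟨Finset.mem_univ _, by
          have := hRg g⁻¹ _ _ (Finset.mem_filter.1 hx).2
          rwa [inv_smul_smul] at this⟩, smul_inv_smul g x⟩)).symm
    rw [h1, Finset.sum_congr rfl fun y _ => h3 y, Finset.sum_const, Finset.card_univ, hΩ, smul_eq_mul] at h2
    omega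
  have hirr : ∀ x, ¬ R x x := by
    rintro x ⟨g, h1, h2⟩
    exact hba (smul_left_cancel g (h2.trans h1.symm))
  have hsymA : ∀ d, R d a → R a d := by
    intro d hd
    rcases hcov d with rfl | h | h
    · exact hd
    · exact (hRa d).2 h
    · exfalso
      have hsub : (orbit (stabilizer G a) c).toFinset ⊆ Finset.univ.filter fun y => R y a := by
        intro y hy
        rw [Set.mem_toFinset, ← orbit_eq_iff.2 h] at hy
        obtain ⟨g, rfl⟩ := hy
        refine Finset.mem_filter.2 ⟨Finset.mem_univ _, ?_⟩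
        have := hRg g.1 d a hd
        rwa [show g.1 • a = a from g.2] at this
      have := Finset.card_le_card hsub
      rw [← Set.ncard_eq_toFinset_card', hc, hin] at this
      omega
  have hsym : ∀ x y, R x y → R y x := by
    intro x y h
    obtain ⟨g, rfl⟩ := exists_smul_eq G a y
    have h' : R (g⁻¹ • x) a := by simpa using hRg g⁻¹ _ _ h
    have := hRg g _ _ (hsymA _ h')
    simpa using this
  let Γ : SimpleGraph Ω := { Adj := R, symm := ⟨hsym⟩, loopless := ⟨hirr⟩ }
  have hcom : ∀ (g : G) u v, Fintype.card (Γ.commonNeighbors (g • u) (g • v)) = Fintype.card (Γ.commonNeighbors u v) := by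
    intro g u v
    refine (Fintype.card_congr ((MulAction.toPerm g).subtypeEquiv fun x => ?_)).symm
    show (R u x ∧ R v x) ↔ R (g • u) (g • x) ∧ R (g • v) (g • x)
    rw [hRg', hRg']
  have hsrg : Γ.IsSRGWith 100 22 (Fintype.card (Γ.commonNeighbors a b)) (Fintype.card (Γ.commonNeighbors a c)) := by
    refine ⟨hΩ, fun x => ?_, ?_, ?_⟩
    · rw [← hout x, ← Γ.card_neighborFinset_eq_degree]
      congr 1; ext y; simp [Γ]
    · rintro x y ⟨g, rfl, rfl⟩
      exact hcom g a b
    · intro x y hxy hn
      obtain ⟨g, rfl⟩ := exists_smul_eq G a x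
      obtain ⟨z, rfl⟩ : ∃ z, g • z = y := ⟨g⁻¹ • y, smul_inv_smul g y⟩
      rw [hcom]
      rcases hcov z with rfl | h | h
      · exact absurd rfl hxy
      · exact absurd (hRg g _ _ ((hRa z).2 h)) hn
      · obtain ⟨t, rfl⟩ := h
        calc Fintype.card (Γ.commonNeighbors a (t • c))
            = Fintype.card (Γ.commonNeighbors (t.1 • a) (t.1 • c)) :=
              Fintype.card_congr (Equiv.setCongr (by rw [show t.1 • a = a from t.2]; rfl))
          _ = _ := hcom t.1 a c
  have hab : Γ.Adj a b := (hRa b).2 (mem_orbit_self b)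
  have hl : Fintype.card (Γ.commonNeighbors a b) < 22 :=
    (SimpleGraph.Adj.card_commonNeighbors_lt_degree hab).trans_eq (hsrg.regular a)
  obtain ⟨hl0, hm6⟩ := param hsrg hl
  rw [hl0, hm6] at hsrg
  obtain ⟨ψ⟩ := SRG100.exists_iso_std hsrg
  -- the group as a group of automorphisms
  let toA : G →* (Γ ≃g Γ) :=
    { toFun := fun g => ⟨MulAction.toPerm g, fun {x y} => hRg' g x y⟩
      map_one' := RelIso.ext fun x => one_smul G x
      map_mul' := fun g h => RelIso.ext fun x => mul_smul g h x }
  let φ : G →* (pointBlockGraph stdB ≃g pointBlockGraph stdB) := (HSGraph.autCongr ψ).toMonoidHom.comp toA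
  have hφ : Function.Injective φ := (HSGraph.autCongr ψ).injective.comp fun g h e => Subtype.ext (Equiv.ext fun x =>
    congrArg (fun f : Γ ≃g Γ => f x) e)
  haveI : Finite (pointBlockGraph stdB ≃g pointBlockGraph stdB) :=
    Nat.finite_of_card_ne_zero (by rw [card_aut_std]; norm_num)
  have hG : Nat.card G = 44352000 := by
    have h := Subgroup.card_mul_index (stabilizer G a)
    rw [hcard, index_stabilizer, orbit_eq_univ, Set.ncard_univ, Nat.card_eq_fintype_card, hΩ] at h
    omega
  obtain ⟨hsimp, hHcard⟩ := isHS_range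
  set H := hsHom.range with hH
  have hcr : Nat.card φ.range = 44352000 := by
    rw [← hG]; exact (Nat.card_congr (MonoidHom.ofInjective hφ).toEquiv).symm
  have hidx : φ.range.index = 2 := by
    have h := Subgroup.card_mul_index φ.range
    rw [hcr, card_aut_std] at h
    omega
  haveI := Subgroup.normal_of_index_eq_two hidx
  haveI := hsimp
  have hle : H ≤ φ.range := by
    rcases (Subgroup.Normal.eq_bot_or_eq_top (H := φ.range.subgroupOf H) inferInstance) with h | h
    · exfalso
      have h1 : φ.range.relIndex H = Nat.card H := by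
        show (φ.range.subgroupOf H).index = _
        rw [h, Subgroup.index_bot]
      have h2 : φ.range.relIndex H ≤ φ.range.index := Nat.le_of_dvd (by rw [hidx]; norm_num)
        (Subgroup.relIndex_dvd_index_of_normal _ _)
      rw [h1, hidx, hHcard] at h2
      omega
    · exact Subgroup.subgroupOf_eq_top.1 h
  have heq : H = φ.range := SetLike.coe_injective (Set.eq_of_subset_of_ncard_le hle (by
    rw [← Nat.card_coe_set_eq, ← Nat.card_coe_set_eq]
    show Nat.card φ.range ≤ Nat.card H
    rw [hcr, hHcard]) (Set.toFinite _))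
  have hhs : Nat.card ↥hsG = 44352000 := by
    obtain ⟨p, q, r⟩ := u0_spec
    exact (LeechCount.isHS_stab p q r).2
  haveI : Finite ↥hsG := Nat.finite_of_card_ne_zero (by rw [hhs]; norm_num)
  have hbij : Function.Bijective hsHom.rangeRestrict :=
    (Nat.bijective_iff_surjective_and_card _).2 ⟨hsHom.rangeRestrict_surjective, by rw [hhs]; exact hHcard.symm⟩
  have hmap : (hsG.map (Subgroup.subtype Co0)) = Spor.HS := by
    ext f
    simp only [Spor.HS, Spor.Co3, Subgroup.mem_map, Subgroup.mem_inf, mem_stabilizer_iff, Subgroup.coe_subtype]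
    constructor
    · rintro ⟨g, ⟨h1, h2⟩, rfl⟩
      exact ⟨⟨g.2, h1⟩, h2⟩
    · rintro ⟨⟨h0, h1⟩, h2⟩
      exact ⟨⟨f, h0⟩, ⟨h1, h2⟩, rfl⟩
  exact ⟨(MonoidHom.ofInjective hφ).trans ((MulEquiv.subgroupCongr heq.symm).trans
    ((MulEquiv.ofBijective _ hbij).symm.trans ((hsG.equivMapOfInjective _ Subtype.val_injective).trans
      (MulEquiv.subgroupCongr hmap))))⟩

end Cfsg.Agent.Steiner.HSRank3
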