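import Cfsg.Prelude.Def_SporadicCombinatorics
import Mathlib.GroupTheory.SpecificGroups.Alternating
import Mathlib.LinearAlgebra.Finsupp.LinearCombination

/-!
The hexacode in coordinates.
-/

set_option autoImplicit false

namespace Cfsg.Agent.Hexacode

open Cfsg

/-- Sums of the field of order four written as 0, 1, 2, 3. -/
def qadd : Fin 4 → Fin 4 → Fin 4 := ![![0, 1, 2, 3], ![1, 0, 3, 2], ![2, 3, 0, 1], ![3, 2, 1, 0]]

/-- Products of the field of order four written as 0, 1, 2, 3. -/
def qmul : Fin 4 → Fin 4 → Fin 4 := ![![0, 0, 0, 0], ![0, 1, 2, 3], ![0, 2, 3, 1], ![0, 3, 1, 2]]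

/-- The three spanning words. -/
def rows : Fin 3 → Fin 6 → Fin 4 := ![![2, 3, 3, 2, 3, 2], ![3, 2, 2, 3, 3, 2], ![3, 2, 3, 2, 2, 3]]

/-- The word of three coefficients. -/
def word (a : Fin 4 × Fin 4 × Fin 4) (i : Fin 6) : Fin 4 :=
  qadd (qadd (qmul a.1 (rows 0 i)) (qmul a.2.1 (rows 1 i))) (qmul a.2.2 (rows 2 i))

variable {F : Type*} [Field F] {ω : F}

/-- The element of the field with a given label. -/
def val (ω : F) : Fin 4 → F := ![0, 1, ω, ω ^ 2]

theorem two_eq_zero [Fintype F] (hF : Fintype.card F = 4) : (2 : F) = 0 := by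
  have h := FiniteField.cast_card_eq_zero F
  rw [hF] at h
  have : (2 : F) * 2 = 0 := by norm_num; exact_mod_cast h
  exact mul_self_eq_zero.1 this

theorem val_mul (hω : ω ^ 2 + ω + 1 = 0) (a b : Fin 4) : val ω (qmul a b) = val ω a * val ω b := by
  have h3 : ω ^ 3 = 1 := by linear_combination (ω - 1) * hω
  fin_cases a <;> fin_cases b <;> simp [val, qmul] <;>
    first
      | ring1
      | exact h3.symm
      | linear_combination -h3
      | linear_combination -ω * h3
      | linear_combination -(1 : F) * h3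

theorem val_add (hω : ω ^ 2 + ω + 1 = 0) (h2 : (2 : F) = 0) (a b : Fin 4) :
    val ω (qadd a b) = val ω a + val ω b := by
  fin_cases a <;> fin_cases b <;> simp [val, qadd] <;>
    first
      | linear_combination hω - (1 + ω) * h2
      | linear_combination hω - (1 + ω ^ 2) * h2
      | linear_combination hω - (ω + ω ^ 2) * h2
      | linear_combination -h2
      | linear_combination -ω * h2
      | linear_combination -ω ^ 2 * h2

variable [Fintype F]

theorem val_bijective (hF : Fintype.card F = 4) (hω : ω ^ 2 + ω + 1 = 0) : Function.Bijective (val ω) := by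
  have h2 := two_eq_zero hF
  refine (Fintype.bijective_iff_injective_and_card _).2 ⟨fun a b h => ?_, by rw [hF, Fintype.card_fin]⟩
  have key : ∀ c : Fin 4, val ω c = 0 → c = 0 := by
    intro c hc
    have hw : ω ≠ 0 := fun e => by rw [e] at hω; norm_num at hω
    fin_cases c
    · rfl
    · exact absurd hc one_ne_zero
    · exact absurd hc hw
    · exact absurd hc (pow_ne_zero 2 hw)
  have h0 : val ω (qadd a b) = 0 := by
    rw [val_add hω h2, h]; linear_combination val ω b * h2
  exact (by decide : ∀ a b : Fin 4, qadd a b = 0 → a = b) a b (key _ h0)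

theorem val_word (hF : Fintype.card F = 4) (hω : ω ^ 2 + ω + 1 = 0) (a : Fin 4 × Fin 4 × Fin 4) :
    (fun i => val ω (word a i)) =
      val ω a.1 • (![ω, ω ^ 2, ω ^ 2, ω, ω ^ 2, ω] : Fin 6 → F) +
        val ω a.2.1 • (![ω ^ 2, ω, ω, ω ^ 2, ω ^ 2, ω] : Fin 6 → F) +
          val ω a.2.2 • (![ω ^ 2, ω, ω ^ 2, ω, ω, ω ^ 2] : Fin 6 → F) := by
  funext i
  simp only [word, val_add hω (two_eq_zero hF), val_mul hω, Pi.add_apply, Pi.smul_apply, smul_eq_mul]
  fin_cases i <;> rfl

theorem mem_iff (hF : Fintype.card F = 4) (hω : ω ^ 2 + ω + 1 = 0) {x : Fin 6 → F} :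
    x ∈ hexacode F ω ↔ ∃ a, x = fun i => val ω (word a i) := by
  rw [hexacode, Submodule.mem_span_triple]
  constructor
  · rintro ⟨p, q, r, rfl⟩
    obtain ⟨p', rfl⟩ := (val_bijective hF hω).2 p
    obtain ⟨q', rfl⟩ := (val_bijective hF hω).2 q
    obtain ⟨r', rfl⟩ := (val_bijective hF hω).2 r
    exact ⟨(p', q', r'), (val_word hF hω (p', q', r')).symm⟩
  · rintro ⟨a, rfl⟩
    exact ⟨_, _, _, (val_word hF hω a).symm⟩

theorem word_injective : ∀ a b, (∀ i, word a i = word b i) → a = b := by decide +kernel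

theorem count_eq (hF : Fintype.card F = 4) (hω : ω ^ 2 + ω + 1 = 0) [DecidableEq F] (n : ℕ) :
    {x : Fin 6 → F | x ∈ hexacode F ω ∧ (Finset.univ.filter fun i => x i ≠ 0).card = n}.ncard =
      (Finset.univ.filter fun a => (Finset.univ.filter fun i => word a i ≠ 0).card = n).card := by
  have hb := val_bijective hF hω
  have hsupp : ∀ a, (Finset.univ.filter fun i => val ω (word a i) ≠ 0) = Finset.univ.filter fun i => word a i ≠ 0 :=
    fun a => Finset.filter_congr fun i _ => not_congr ⟨fun h => hb.1 (h.trans (show (0 : F) = val ω 0 from rfl)),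
      fun h => by rw [h]; rfl⟩
  rw [← Set.ncard_coe_finset, ← Set.ncard_image_of_injective _
    (fun a b (h : (fun i => val ω (word a i)) = fun i => val ω (word b i)) =>
      word_injective a b fun i => hb.1 (congrFun h i))]
  congr 1
  ext x
  constructor
  · rintro ⟨hx, hc⟩
    obtain ⟨a, rfl⟩ := (mem_iff hF hω).1 hx
    exact ⟨a, by simpa [hsupp] using hc, rfl⟩
  · rintro ⟨a, ha, rfl⟩
    refine ⟨(mem_iff hF hω).2 ⟨a, rfl⟩, ?_⟩
    rw [hsupp]; simpa using ha

end Cfsg.Agent.Hexacode
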