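import Cfsg.Agent.Lib.Steiner.Plane21

/-!
Independent sets and hyperovals of the plane of order 4, and the symmetries of a hyperoval.
-/

set_option autoImplicit false

namespace Cfsg.Agent.Steiner.Plane21

open Cfsg Search
open scoped Pointwise

/-- At most two bits are set: clearing the lowest bit twice leaves nothing. -/
def twoBits (x : ℕ) : Bool :=
  (fun y => Nat.land y (Nat.sub y 1) == 0) (Nat.land x (Nat.sub x 1))

theorem twoBits_ok : (std21.all fun c => (List.range 6).all fun j =>
    (subs 21 j c).all fun x => twoBits x == Nat.ble (Golay24.pop24 x) 2) = true := by decide +kernel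

/-- No line meets the mask in more than two points. -/
def indep21 (m : ℕ) : Bool := std21.all fun c => twoBits (Nat.land c m)

theorem std21_msk {c : ℕ} (hc : c ∈ std21) :
    msk (Finset.univ.filter fun i : Fin 21 => c.testBit i.val) = c := by
  refine (msk_ext ?_ fun i => by simp).symm
  have h := steiner21_ok
  simp only [steinerOk, Bool.and_eq_true, List.all_eq_true, decide_eq_true_eq] at h
  exact (h.1 c hc).1

theorem indep21_iff (S : Finset (Fin 21)) :
    indep21 (msk S) = true ↔ ∀ l ∈ plane, (l ∩ S).card ≤ 2 := by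
  have key : ∀ l : Finset (Fin 21), l ∈ plane →
      (twoBits (Nat.land (msk l) (msk S)) = true ↔ (l ∩ S).card ≤ 2) := by
    intro l hl
    have h5 : l.card = 5 := (isSteiner_sysOf steiner21_ok).1 l hl
    have hle : (l ∩ S).card ≤ l.card := Finset.card_le_card Finset.inter_subset_left
    have h := twoBits_ok
    simp only [List.all_eq_true, List.mem_range, beq_iff_eq] at h
    have h' := h (msk l) hl (l ∩ S).card (by omega) (msk (l ∩ S))
      ((mem_subs_iff l _).2 ⟨_, Finset.inter_subset_left, rfl, rfl⟩)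
    rw [Search22.land_msk, h', Nat.ble_eq, Search22.pop_msk (by norm_num)]
  simp only [indep21, List.all_eq_true]
  constructor
  · exact fun h l hl => (key l hl).1 (h _ hl)
  · intro h c hc
    have hl : (Finset.univ.filter fun i : Fin 21 => c.testBit i.val) ∈ plane :=
      show msk _ ∈ std21 from (std21_msk hc).symm ▸ hc
    have := (key _ hl).2 (h _ hl)
    rwa [std21_msk hc] at this

theorem indep21_mono {S U : Finset (Fin 21)} (h : S ⊆ U) (hU : indep21 (msk U) = true) :
    indep21 (msk S) = true := by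
  rw [indep21_iff] at hU ⊢
  exact fun l hl => le_trans (Finset.card_le_card (Finset.inter_subset_inter_left h)) (hU l hl)

attribute [local irreducible] indep21 msk

/-- The independent extensions of a mask by `r` points of a list. -/
def grow : ℕ → List (Fin 21) → ℕ → List ℕ
  | 0, _, acc => [acc]
  | _ + 1, [], _ => []
  | r + 1, a :: l, acc =>
    let w := Nat.lor (Nat.shiftLeft 1 a.val) acc
    (if indep21 w then grow r l w else []) ++ grow (r + 1) l acc

theorem mem_grow_iff : ∀ (l : List (Fin 21)) (r : ℕ) (A : Finset (Fin 21)) (m : ℕ), l.Nodup →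
    indep21 (msk A) = true → (∀ a ∈ l, a ∉ A) →
    (m ∈ grow r l (msk A) ↔ ∃ S : Finset (Fin 21), S ⊆ l.toFinset ∧ S.card = r ∧
      indep21 (msk (A ∪ S)) = true ∧ msk (A ∪ S) = m)
  | l, 0, A, m, _, hA, _ => by
    simp only [grow, List.mem_singleton]
    constructor
    · rintro rfl
      exact ⟨∅, Finset.empty_subset _, rfl, by simpa using hA, by simp⟩
    · rintro ⟨S, -, hc, -, hm⟩
      rw [← hm, Finset.card_eq_zero.1 hc, Finset.union_empty]
  | [], r + 1, A, m, _, _, _ => by
    simp only [grow, List.not_mem_nil, List.toFinset_nil, Finset.subset_empty, false_iff]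
    rintro ⟨S, rfl, hc, -⟩
    simp at hc
  | a :: l, r + 1, A, m, hnd, hA, hdis => by
    rw [List.nodup_cons] at hnd
    have haA : a ∉ A := hdis a List.mem_cons_self
    have hskip := mem_grow_iff l (r + 1) A m hnd.2 hA fun b hb => hdis b (List.mem_cons_of_mem _ hb)
    simp only [grow, List.mem_append, lor_shift_insert, hskip, List.toFinset_cons]
    constructor
    · rintro (h | ⟨S, hS, hc, hi, hm⟩)
      · split_ifs at h with hins
        · obtain ⟨S, hS, hc, hi, hm⟩ := (mem_grow_iff l r (insert a A) m hnd.2 hins fun b hb => by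
            rw [Finset.mem_insert, not_or]
            exact ⟨fun e => hnd.1 (e ▸ hb), hdis b (List.mem_cons_of_mem _ hb)⟩).1 h
          have ha : a ∉ S := fun h => hnd.1 (List.mem_toFinset.1 (hS h))
          refine ⟨insert a S, Finset.insert_subset_insert _ hS,
            by rw [Finset.card_insert_of_notMem ha, hc], ?_, ?_⟩ <;>
          rwa [Finset.union_insert, ← Finset.insert_union]
        · simp at h
      · exact ⟨S, hS.trans (Finset.subset_insert _ _), hc, hi, hm⟩
    · rintro ⟨S, hS, hc, hi, hm⟩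
      by_cases ha : a ∈ S
      · left
        have hins : indep21 (msk (insert a A)) = true := indep21_mono
          (Finset.insert_subset (Finset.mem_union_right _ ha) Finset.subset_union_left) hi
        rw [if_pos hins]
        refine (mem_grow_iff l r (insert a A) m hnd.2 hins fun b hb => by
          rw [Finset.mem_insert, not_or]
          exact ⟨fun e => hnd.1 (e ▸ hb), hdis b (List.mem_cons_of_mem _ hb)⟩).2
          ⟨S.erase a, ?_, by rw [Finset.card_erase_of_mem ha, hc]; rfl, ?_, ?_⟩
        · exact fun x hx => (Finset.mem_insert.1 (hS (Finset.mem_of_mem_erase hx))).resolve_left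
            (Finset.ne_of_mem_erase hx)
        · rwa [Finset.insert_union, ← Finset.union_insert, Finset.insert_erase ha]
        · rwa [Finset.insert_union, ← Finset.union_insert, Finset.insert_erase ha]
      · exact Or.inr ⟨S, (Finset.subset_insert_iff_of_notMem ha).1 hS, hc, hi, hm⟩

theorem testBit_lor_shift (a : ℕ) (acc j : ℕ) :
    (Nat.lor (Nat.shiftLeft 1 a) acc).testBit j = (decide (a = j) || acc.testBit j) := by
  show (1 <<< a ||| acc).testBit j = _
  rw [Nat.testBit_or, Nat.one_shiftLeft, Nat.testBit_two_pow]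

theorem grow_testBit : ∀ (l : List (Fin 21)) (r acc m j : ℕ), m ∈ grow r l acc →
    (∀ a ∈ l, a.val ≠ j) → m.testBit j = acc.testBit j
  | l, 0, acc, m, j, h, _ => by simp only [grow, List.mem_singleton] at h; rw [h]
  | [], r + 1, acc, m, j, h, _ => by simp [grow] at h
  | a :: l, r + 1, acc, m, j, h, hj => by
    simp only [grow, List.mem_append] at h
    have hj' := fun b hb => hj b (List.mem_cons_of_mem _ hb)
    rcases h with h | h
    · split_ifs at h
      · rw [grow_testBit l r _ m j h hj', testBit_lor_shift]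
        simp [hj a List.mem_cons_self]
      · simp at h
    · exact grow_testBit l (r + 1) acc m j h hj'

theorem grow_nodup : ∀ (l : List (Fin 21)) (r acc : ℕ), l.Nodup → (∀ a ∈ l, acc.testBit a.val = false) →
    (grow r l acc).Nodup
  | l, 0, acc, _, _ => by simp [grow]
  | [], r + 1, acc, _, _ => by simp [grow]
  | a :: l, r + 1, acc, hnd, hacc => by
    rw [List.nodup_cons] at hnd
    have hne : ∀ b ∈ l, b.val ≠ a.val := fun b hb e => hnd.1 (Fin.ext e ▸ hb)
    have htl := fun b hb => hacc b (List.mem_cons_of_mem _ hb)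
    simp only [grow]
    rw [List.nodup_append]
    refine ⟨?_, grow_nodup l (r + 1) acc hnd.2 htl, fun x hx y hy e => ?_⟩
    · split_ifs
      · refine grow_nodup l r _ hnd.2 fun b hb => ?_
        rw [testBit_lor_shift, htl b hb]
        simp [(hne b hb).symm]
      · exact List.nodup_nil
    · subst e
      split_ifs at hx
      · have h1 := grow_testBit l r _ x a.val hx fun b hb => hne b hb
        have h2 := grow_testBit l (r + 1) acc x a.val hy fun b hb => hne b hb
        rw [testBit_lor_shift, h2, hacc a List.mem_cons_self] at h1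
        simp at h1
      · simp at hx

theorem mem_grow_std {r m : ℕ} :
    m ∈ grow r (List.finRange 21) 0 ↔
      ∃ S : Finset (Fin 21), S.card = r ∧ (∀ l ∈ plane, (l ∩ S).card ≤ 2) ∧ msk S = m := by
  conv_lhs => rw [← msk_empty (v := 21)]
  rw [mem_grow_iff _ _ _ _ (List.nodup_finRange 21) (by rw [msk_empty]; decide +kernel) (by simp)]
  simp [indep21_iff]

theorem ncard_indep (r : ℕ) :
    {S : Finset (Fin 21) | S.card = r ∧ ∀ l ∈ plane, (l ∩ S).card ≤ 2}.ncard =
      (grow r (List.finRange 21) 0).length := by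
  rw [← Set.ncard_image_of_injective _ (msk_injective (v := 21)),
    show msk '' {S : Finset (Fin 21) | S.card = r ∧ ∀ l ∈ plane, (l ∩ S).card ≤ 2} =
      ↑(grow r (List.finRange 21) 0).toFinset from ?_,
    Set.ncard_coe_finset, List.toFinset_card_of_nodup (grow_nodup _ _ _ (List.nodup_finRange 21) (by simp))]
  ext m
  simp only [Set.mem_image, Set.mem_ofPred_eq, List.coe_toFinset, mem_grow_std]
  exact ⟨fun ⟨S, h, e⟩ => ⟨S, h.1, h.2, e⟩, fun ⟨S, h, h', e⟩ => ⟨S, ⟨h, h'⟩, e⟩⟩

theorem grow_four : (grow 4 (List.finRange 21) 0).length = 2520 := by decide +kernel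

theorem grow_six : grow 6 (List.finRange 21) 0 = hyp21 := by decide +kernel

theorem four_in_one : (grow 4 (List.finRange 21) 0).all
    (fun s => (hyp21.filter fun h => Nat.land s h == s).length == 1) = true := by decide +kernel

theorem indep_counts :
    {S : Finset (Fin 21) | S.card = 4 ∧ ∀ l ∈ plane, (l ∩ S).card ≤ 2}.ncard = 2520 ∧
    {H : Finset (Fin 21) | H.card = 6 ∧ ∀ l ∈ plane, (l ∩ H).card ≤ 2}.ncard = 168 ∧
    ∀ S : Finset (Fin 21), (S.card = 4 ∧ ∀ l ∈ plane, (l ∩ S).card ≤ 2) →
      ∃! H : Finset (Fin 21), (H.card = 6 ∧ ∀ l ∈ plane, (l ∩ H).card ≤ 2) ∧ S ⊆ H := by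
  refine ⟨(ncard_indep 4).trans grow_four, ?_, ?_⟩
  · rw [ncard_indep 6, grow_six]; decide +kernel
  · rintro S ⟨hc, hS⟩
    have h := List.all_eq_true.1 four_in_one _ (mem_grow_std.2 ⟨S, hc, hS, rfl⟩)
    rw [beq_iff_eq, List.length_eq_one_iff] at h
    obtain ⟨u, hu⟩ := h
    have hm : u ∈ hyp21.filter fun h => Nat.land (msk S) h == msk S := hu ▸ List.mem_singleton_self u
    simp only [List.mem_filter, beq_iff_eq, ← grow_six, mem_grow_std] at hm
    obtain ⟨⟨H, hHc, hH, rfl⟩, hsub⟩ := hm
    refine ⟨H, ⟨⟨hHc, hH⟩, (land_eq_self_iff _ _).1 hsub⟩, ?_⟩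
    rintro H' ⟨⟨hH'c, hH'⟩, hsub'⟩
    have hm' : msk H' ∈ hyp21.filter fun h => Nat.land (msk S) h == msk S := by
      rw [List.mem_filter, beq_iff_eq, ← grow_six, mem_grow_std]
      exact ⟨⟨H', hH'c, hH', rfl⟩, (land_eq_self_iff _ _).2 hsub'⟩
    rw [hu, List.mem_singleton] at hm'
    exact msk_injective hm'

/-! ### Collineations -/

/-- A packed permutation of the 21 points mapping the lines into the lines. -/
def collOk (p : ℕ) : Bool :=
  ((List.range 21).all fun i => decide (look p i < 21)) &&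
    decide ((List.range 21).map (look p)).Nodup &&
    std21.all fun c => std21.contains (imgMask 21 p c)

theorem mem_aut_of_maps {β : Type*} [Fintype β] [DecidableEq β] {B : Set (Finset β)} {g : Equiv.Perm β}
    (h : ∀ b ∈ B, g • b ∈ B) : g ∈ setSystemAut B := by
  rw [MulAction.mem_stabilizer_iff]
  refine Set.eq_of_subset_of_ncard_le ?_ (le_of_eq ?_) (Set.toFinite _)
  · rintro _ ⟨b, hb, rfl⟩
    exact h b hb
  · rw [← Set.image_smul, Set.ncard_image_of_injective _ (MulAction.injective g)]

theorem exists_coll {p : ℕ} (h : collOk p = true) :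
    ∃ g ∈ setSystemAut plane, (∀ i : Fin 21, (g i).val = look p i.val) ∧
      ∀ S : Finset (Fin 21), msk (g • S) = imgMask 21 p (msk S) := by
  simp only [collOk, Bool.and_eq_true, List.all_eq_true, List.mem_range, decide_eq_true_eq,
    List.contains_iff_mem] at h
  obtain ⟨⟨hlt, hnd⟩, hlines⟩ := h
  let f : Fin 21 → Fin 21 := fun i => ⟨look p i.val, hlt i.val i.isLt⟩
  have hf : Function.Injective f := fun i j e => Fin.ext
    (List.inj_on_of_nodup_map hnd (List.mem_range.2 i.isLt) (List.mem_range.2 j.isLt) (congrArg Fin.val e))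
  let g := Equiv.ofBijective f (Finite.injective_iff_bijective.1 hf)
  have himg : ∀ S : Finset (Fin 21), msk (g • S) = imgMask 21 p (msk S) := fun S =>
    (imgMask_msk p f (fun _ => rfl) S).symm
  refine ⟨g, mem_aut_of_maps fun b hb => ?_, fun _ => rfl, himg⟩
  show msk (g • b) ∈ std21
  rw [himg]
  exact hlines _ hb

/-- The first hyperoval as a set of points. -/
def ovalSet : Finset (Fin 21) := Finset.univ.filter fun i : Fin 21 => oval21.testBit i.val

theorem msk_ovalSet : msk ovalSet = oval21 :=
  (msk_ext (by decide +kernel) fun i => by simp [ovalSet]).symm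

theorem moves_ok : (((hyp21.zip hypMove).all fun hp => collOk hp.2 && (imgMask 21 hp.2 oval21 == hp.1)) &&
    (hypMove.length == hyp21.length) && collOk ovalCycle && collOk ovalSwap) = true := by decide +kernel

theorem oval_transitive {H : Finset (Fin 21)} (hc : H.card = 6) (h : ∀ l ∈ plane, (l ∩ H).card ≤ 2) :
    ∃ g ∈ setSystemAut plane, g • ovalSet = H := by
  have hm : msk H ∈ hyp21 := by rw [← grow_six, mem_grow_std]; exact ⟨H, hc, h, rfl⟩
  have hok := moves_ok
  simp only [Bool.and_eq_true, List.all_eq_true, beq_iff_eq] at hok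
  obtain ⟨i, hi, he⟩ := List.mem_iff_getElem.1 hm
  have hi' : i < hypMove.length := by rw [hok.1.1.2]; exact hi
  obtain ⟨hp, he'⟩ := hok.1.1.1 (hyp21[i], hypMove[i])
    (List.mem_iff_getElem.2 ⟨i, by simp [List.length_zip]; omega, List.getElem_zip⟩)
  obtain ⟨g, hg, -, himg⟩ := exists_coll hp
  exact ⟨g, hg, msk_injective (by rw [himg, msk_ovalSet, he']; exact he)⟩

theorem secants : ∀ p ∈ List.range 21, oval21.testBit p = true ∨ ∃ l ∈ std21, ∃ l' ∈ std21,
    2 ≤ Golay24.pop24 (Nat.land l oval21) ∧ 2 ≤ Golay24.pop24 (Nat.land l' oval21) ∧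
      Nat.land l l' = Nat.shiftLeft 1 p := by decide +kernel

theorem oval_rigid {g : Equiv.Perm (Fin 21)} (hg : g ∈ setSystemAut plane)
    (hfix : ∀ x ∈ ovalSet, g x = x) : g = 1 := by
  refine Equiv.ext fun p => ?_
  rcases secants p.val (List.mem_range.2 p.isLt) with h | ⟨l, hl, l', hl', h2, h2', he⟩
  · exact hfix p (by simp [ovalSet, h])
  · have key : ∀ c ∈ std21, 2 ≤ Golay24.pop24 (Nat.land c oval21) →
        g • (Finset.univ.filter fun i : Fin 21 => c.testBit i.val) =
          Finset.univ.filter fun i : Fin 21 => c.testBit i.val := by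
      intro c hc h2
      set b := Finset.univ.filter fun i : Fin 21 => c.testBit i.val with hb
      have hbm : msk b = c := std21_msk hc
      have hbP : b ∈ plane := show msk b ∈ std21 from hbm.symm ▸ hc
      rw [← hbm, ← msk_ovalSet, Search22.land_msk, Search22.pop_msk (by norm_num)] at h2
      have hgb : g • b ∈ plane := by
        rw [← show g • plane = plane from hg]
        exact Set.smul_mem_smul_set hbP
      refine eq_of_subset (isSteiner_sysOf steiner21_ok) (s := b ∩ ovalSet) h2 hgb hbP (fun x hx => ?_)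
        Finset.inter_subset_left
      obtain ⟨h1, h3⟩ := Finset.mem_inter.1 hx
      rw [← hfix x h3]
      exact Finset.smul_mem_smul_finset h1
    set b := Finset.univ.filter fun i : Fin 21 => l.testBit i.val with hb
    set b' := Finset.univ.filter fun i : Fin 21 => l'.testBit i.val with hb'
    have hmeet : b ∩ b' = {p} := msk_injective (by
      rw [← Search22.land_msk, std21_msk hl, std21_msk hl', he, ← insert_empty_eq, ← lor_shift_insert,
        msk_empty]
      exact (Nat.or_zero _).symm)
    have h : g • (b ∩ b') = b ∩ b' := by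
      rw [Finset.smul_finset_inter, key l hl h2, key l' hl' h2']
    rw [hmeet, Finset.smul_finset_singleton, Finset.singleton_inj] at h
    simpa using h

theorem mem_ovalSet_iff {g : Equiv.Perm (Fin 21)} (h : g • ovalSet = ovalSet) (x : Fin 21) :
    g x ∈ ovalSet ↔ x ∈ ovalSet := by
  conv_lhs => rw [← h, ← Equiv.Perm.smul_def, Finset.smul_mem_smul_finset_iff]

/-- The action of the stabiliser of the first hyperoval on it. -/
def ovalRes : ↥(setSystemAut plane ⊓ MulAction.stabilizer (Equiv.Perm (Fin 21)) ovalSet) →*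
    Equiv.Perm ↥ovalSet where
  toFun g := (g : Equiv.Perm (Fin 21)).subtypePerm (mem_ovalSet_iff g.2.2)
  map_one' := by ext; rfl
  map_mul' a b := by ext; rfl

/-- The points of the first hyperoval in cyclic order. -/
def ovalPt (i : Fin 6) : ↥ovalSet :=
  ![⟨0, by decide +kernel⟩, ⟨1, by decide +kernel⟩, ⟨5, by decide +kernel⟩, ⟨10, by decide +kernel⟩,
    ⟨16, by decide +kernel⟩, ⟨19, by decide +kernel⟩] i

theorem ovalPt_bijective : Function.Bijective ovalPt := by decide +kernel

theorem ovalGens_ok : (imgMask 21 ovalCycle oval21 = oval21 ∧ imgMask 21 ovalSwap oval21 = oval21) ∧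
    ∀ i : Fin 6, look ovalCycle (ovalPt i).val.val = (ovalPt (i + 1)).val.val ∧
      look ovalSwap (ovalPt i).val.val = (ovalPt (Equiv.swap 0 1 i)).val.val := by decide +kernel

theorem ovalRes_surjective : Function.Surjective ovalRes := by
  rw [← MonoidHom.range_eq_top, eq_top_iff]
  let e := Equiv.ofBijective ovalPt ovalPt_bijective
  have hok := moves_ok
  simp only [Bool.and_eq_true] at hok
  have lift : ∀ (p : ℕ) (π : Equiv.Perm (Fin 6)), collOk p = true → imgMask 21 p oval21 = oval21 →
      (∀ i, look p (ovalPt i).val.val = (ovalPt (π i)).val.val) →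
      e.permCongrHom π ∈ ovalRes.range := by
    intro p π hp hp0 hπ
    obtain ⟨g, hg, hval, himg⟩ := exists_coll hp
    have hgO : g • ovalSet = ovalSet := msk_injective (by rw [himg, msk_ovalSet, hp0])
    refine ⟨⟨g, hg, hgO⟩, Equiv.ext fun x => Subtype.ext (Fin.ext ?_)⟩
    obtain ⟨i, rfl⟩ := e.surjective x
    show (g (ovalPt i).val).val = (e (π (e.symm (e i)))).val.val
    rw [e.symm_apply_apply, hval, hπ]
    rfl
  have hgen : Subgroup.closure ({finRotate 6, Equiv.swap (0 : Fin 6) (finRotate 6 0)} :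
      Set (Equiv.Perm (Fin 6))) = ⊤ :=
    Equiv.Perm.closure_cycle_adjacent_swap (isCycle_finRotate) (by decide +kernel) 0
  intro π _
  have hle : Subgroup.closure ({finRotate 6, Equiv.swap (0 : Fin 6) (finRotate 6 0)} :
      Set (Equiv.Perm (Fin 6))) ≤ ovalRes.range.comap e.permCongrHom.toMonoidHom := by
    rw [Subgroup.closure_le]
    rintro x (rfl | rfl)
    · refine lift ovalCycle _ hok.1.2 ovalGens_ok.1.1 fun i => ?_
      rw [finRotate_apply]
      exact (ovalGens_ok.2 i).1
    · exact lift ovalSwap _ hok.2 ovalGens_ok.1.2 fun i => (ovalGens_ok.2 i).2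
  rw [hgen] at hle
  have := Subgroup.mem_comap.1 (hle (Subgroup.mem_top (e.permCongrHom.symm π)))
  rwa [MulEquiv.coe_toMonoidHom, MulEquiv.apply_symm_apply] at this

theorem oval_extension (σ : Equiv.Perm ↥ovalSet) :
    ∃! g : Equiv.Perm (Fin 21), g ∈ setSystemAut plane ∧ ∀ p : ↥ovalSet, g p = σ p := by
  obtain ⟨⟨g, hg, hgO⟩, rfl⟩ := ovalRes_surjective σ
  refine ⟨g, ⟨hg, fun p => rfl⟩, ?_⟩
  rintro g' ⟨hg', he⟩
  have h1 : g⁻¹ * g' = 1 := oval_rigid ((setSystemAut plane).mul_mem ((setSystemAut plane).inv_mem hg) hg')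
    fun x hx => by
      rw [Equiv.Perm.mul_apply, he ⟨x, hx⟩]
      exact Equiv.symm_apply_apply g x
  exact (inv_mul_eq_one.1 h1).symm

/-! ### Transport to an arbitrary plane -/

section
variable {α : Type*} [Fintype α] [DecidableEq α]

omit [Fintype α] in
theorem indep_image {L : Set (Finset α)} {e : α ≃ Fin 21} (he : (fun b => b.image e) '' L = plane)
    (S : Finset α) : (∀ l ∈ plane, (l ∩ S.image e).card ≤ 2) ↔ ∀ l ∈ L, (l ∩ S).card ≤ 2 := by
  rw [← he, Set.forall_mem_image]
  refine forall₂_congr fun l _ => ?_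
  rw [← Finset.image_inter _ _ e.injective, Finset.card_image_of_injective _ e.injective]

theorem plane_counts (hα : Fintype.card α = 21) {L : Set (Finset α)} (hL : IsSteinerSystem 2 5 L) :
    {S : Finset α | (S.card = 4 ∧ ∀ l ∈ L, (l ∩ S).card ≤ 2)}.ncard = 2520 ∧
    {H : Finset α | (H.card = 6 ∧ ∀ l ∈ L, (l ∩ H).card ≤ 2)}.ncard = 168 ∧
    ∀ S : Finset α, (S.card = 4 ∧ ∀ l ∈ L, (l ∩ S).card ≤ 2) →
      ∃! H : Finset α, (H.card = 6 ∧ ∀ l ∈ L, (l ∩ H).card ≤ 2) ∧ S ⊆ H := by
  obtain ⟨e, he⟩ := exists_std21_iso hL hα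
  have hiff : ∀ (k : ℕ) (S : Finset α), ((S.image e).card = k ∧ ∀ l ∈ plane, (l ∩ S.image e).card ≤ 2) ↔
      (S.card = k ∧ ∀ l ∈ L, (l ∩ S).card ≤ 2) := fun k S => by
    rw [indep_image he, Finset.card_image_of_injective _ e.injective]
  have hsurj : ∀ T : Finset (Fin 21), (T.image e.symm).image e = T := fun T => by
    rw [Finset.image_image]; simp
  have hcount : ∀ k, {S : Finset α | S.card = k ∧ ∀ l ∈ L, (l ∩ S).card ≤ 2}.ncard =
      {T : Finset (Fin 21) | T.card = k ∧ ∀ l ∈ plane, (l ∩ T).card ≤ 2}.ncard := fun k => by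
    rw [← Set.ncard_image_of_injective _ (Finset.image_injective e.injective)]
    congr 1
    ext T
    constructor
    · rintro ⟨S, hS, rfl⟩
      exact (hiff k S).2 hS
    · intro hT
      refine ⟨T.image e.symm, (hiff k _).1 ?_, hsurj T⟩
      rw [hsurj]
      exact hT
  refine ⟨(hcount 4).trans indep_counts.1, (hcount 6).trans indep_counts.2.1, fun S hS => ?_⟩
  obtain ⟨T, ⟨hT, hsub⟩, huniq⟩ := indep_counts.2.2 (S.image e) ((hiff 4 S).2 hS)
  refine ⟨T.image e.symm, ⟨(hiff 6 _).1 (by rw [hsurj]; exact hT), ?_⟩, ?_⟩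
  · rw [← Finset.image_subset_image_iff e.injective, hsurj]
    exact hsub
  · rintro H ⟨hH, hSH⟩
    rw [← huniq (H.image e) ⟨(hiff 6 H).2 hH, Finset.image_subset_image hSH⟩, Finset.image_image]
    simp

theorem oval_extends (hα : Fintype.card α = 21) {L : Set (Finset α)} (hL : IsSteinerSystem 2 5 L)
    {H : Finset α} (hH : H.card = 6 ∧ ∀ l ∈ L, (l ∩ H).card ≤ 2) (σ : Equiv.Perm ↥H) :
    ∃! g : Equiv.Perm α, g ∈ setSystemAut L ∧ ∀ p : ↥H, g p = σ p := by
  obtain ⟨e₀, he₀⟩ := exists_std21_iso hL hα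
  obtain ⟨τ, hτ, hτH⟩ := oval_transitive
    (H := H.image e₀) (by rw [Finset.card_image_of_injective _ e₀.injective, hH.1])
    ((indep_image he₀ H).2 hH.2)
  let e : α ≃ Fin 21 := e₀.trans τ.symm
  have himg : ∀ b : Finset α, b.image e = τ⁻¹ • b.image e₀ := fun b => by
    rw [Finset.smul_finset_def, Finset.image_image]
    rfl
  have he : (fun b => b.image e) '' L = plane := by
    have h : τ⁻¹ • plane = plane := (setSystemAut plane).inv_mem hτ
    conv_rhs => rw [← h, ← he₀]
    rw [← Set.image_smul, Set.image_image]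
    exact Set.image_congr fun b _ => himg b
  have hO : H.image e = ovalSet := by rw [himg, ← hτH, inv_smul_smul]
  have hmem : ∀ a, a ∈ H ↔ e a ∈ ovalSet := fun a => by
    rw [← hO, Finset.mem_image]
    exact ⟨fun h => ⟨a, h, rfl⟩, fun ⟨b, hb, hbe⟩ => e.injective hbe ▸ hb⟩
  let eH : ↥H ≃ ↥ovalSet := e.subtypeEquiv hmem
  obtain ⟨g, ⟨hg, hgσ⟩, huniq⟩ := oval_extension (eH.permCongr σ)
  refine ⟨e.symm.permCongr g, ⟨(conj_mem_aut e he _).1 (by convert hg; ext; simp), fun p => ?_⟩, ?_⟩
  · show e.symm (g (e p)) = σ p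
    rw [e.symm_apply_eq]
    refine (hgσ (eH p)).trans ?_
    simp [Equiv.permCongr_apply, eH]
  · rintro g' ⟨hg', hg'σ⟩
    have := huniq (e.permCongr g') ⟨(conj_mem_aut e he g').2 hg', fun q => ?_⟩
    · rw [← this]; ext; simp
    · obtain ⟨p, rfl⟩ := eH.surjective q
      show e (g' (e.symm (e p))) = _
      simp [hg'σ p, Equiv.permCongr_apply, eH]

end

end Cfsg.Agent.Steiner.Plane21
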