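import Cfsg.Agent.Lib.Steiner.SmallRoot
import Cfsg.Agent.Lib.Steiner.Data12

/-!
A large case tree, checked child by child to bound the memory.
-/

set_option autoImplicit false
set_option Elab.async false
set_option maxRecDepth 100000

namespace Cfsg.Agent.Steiner.Search

theorem treeA_c0 : check 12 6 5 frame12_ 199 [3591] (mark (subs 12 5 3591) 0) (treeA.drop 1) =
    some (treeA.drop 1057) := by decide +kernel

theorem treeA_c1 : check 12 6 5 frame12_ 199 [3595] (mark (subs 12 5 3595) 0) (treeA.drop 1057) =
    some (treeA.drop 2113) := by decide +kernel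

theorem treeA_c2 : check 12 6 5 frame12_ 199 [3603] (mark (subs 12 5 3603) 0) (treeA.drop 2113) =
    some (treeA.drop 3169) := by decide +kernel

theorem treeA_c3 : check 12 6 5 frame12_ 199 [3619] (mark (subs 12 5 3619) 0) (treeA.drop 3169) =
    some (treeA.drop 4225) := by decide +kernel

theorem treeA_c4 : check 12 6 5 frame12_ 199 [3651] (mark (subs 12 5 3651) 0) (treeA.drop 4225) =
    some (treeA.drop 5281) := by decide +kernel

theorem treeA_c5 : check 12 6 5 frame12_ 199 [3715] (mark (subs 12 5 3715) 0) (treeA.drop 5281) =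
    some (treeA.drop 6337) := by decide +kernel

theorem treeA_c6 : check 12 6 5 frame12_ 199 [3843] (mark (subs 12 5 3843) 0) (treeA.drop 6337) =
    some (treeA.drop 7393) := by decide +kernel

theorem treeA_head : treeA.take 1 = [3587 + 1] ∧ 2 ≤ treeA.length ∧ treeA.drop 7393 = [] ∧
    (combos 5 (List.finRange 12)).contains 3587 = true ∧
    ((exts 12 6 5 3587).filter fun c => (subs 12 5 c).all fun s => !Nat.testBit 0 s) = [3591, 3595, 3603, 3619, 3651, 3715, 3843] := by
  decide +kernel

theorem treeA_ok : check 12 6 5 frame12_ (199 + 1) [] 0 treeA = some [] :=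
  check_seven treeA_head.1 treeA_head.2.1 treeA_head.2.2.2.1 treeA_head.2.2.2.2
    treeA_c0 treeA_c1 treeA_c2 treeA_c3 treeA_c4 treeA_c5 treeA_c6 treeA_head.2.2.1

end Cfsg.Agent.Steiner.Search
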