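import Cfsg.Agent.Lib.Steiner.Search
import Cfsg.Agent.Lib.Steiner.Data12

/-!
Checked case trees for the small Steiner systems.
-/

set_option autoImplicit false

namespace Cfsg.Agent.Steiner.Search

theorem treeB_ok : check 12 6 5 std12 200 frame12_ (covOf 12 5 frame12_) treeB = some [] := by decide +kernel

end Cfsg.Agent.Steiner.Search
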