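import Cfsg.Agent.Lib.Steiner.SmallRoot
import Cfsg.Agent.Lib.Steiner.Data12

/-!
A large case tree, checked child by child to bound the memory.
-/

set_option autoImplicit false
set_option Elab.async false
set_option maxRecDepth 100000

namespace Cfsg.Agent.Steiner.Search

theorem treeC_c0 : check 11 5 4 frame11_ 199 [1543] (mark (subs 11 4 1543) 0) (treeC.drop 1) =
    some (treeC.drop 1057) := by decide +kernel

theorem treeC_c1 : check 11 5 4 frame11_ 199 [1547] (mark (subs 11 4 1547) 0) (treeC.drop 1057) =
    some (treeC.drop 2113) := by decide +kernel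

theorem treeC_c2 : check 11 5 4 frame11_ 199 [1555] (mark (subs 11 4 1555) 0) (treeC.drop 2113) =
    some (treeC.drop 3169) := by decide +kernel

theorem treeC_c3 : check 11 5 4 frame11_ 199 [1571] (mark (subs 11 4 1571) 0) (treeC.drop 3169) =
    some (treeC.drop 4225) := by decide +kernel

theorem treeC_c4 : check 11 5 4 frame11_ 199 [1603] (mark (subs 11 4 1603) 0) (treeC.drop 4225) =
    some (treeC.drop 5281) := by decide +kernel

theorem treeC_c5 : check 11 5 4 frame11_ 199 [1667] (mark (subs 11 4 1667) 0) (treeC.drop 5281) =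
    some (treeC.drop 6337) := by decide +kernel

theorem treeC_c6 : check 11 5 4 frame11_ 199 [1795] (mark (subs 11 4 1795) 0) (treeC.drop 6337) =
    some (treeC.drop 7393) := by decide +kernel

theorem treeC_head : treeC.take 1 = [1539 + 1] ∧ 2 ≤ treeC.length ∧ treeC.drop 7393 = [] ∧
    (combos 4 (List.finRange 11)).contains 1539 = true ∧
    ((exts 11 5 4 1539).filter fun c => (subs 11 4 c).all fun s => !Nat.testBit 0 s) = [1543, 1547, 1555, 1571, 1603, 1667, 1795] := by
  decide +kernel

theorem treeC_ok : check 11 5 4 frame11_ (199 + 1) [] 0 treeC = some [] :=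
  check_seven treeC_head.1 treeC_head.2.1 treeC_head.2.2.2.1 treeC_head.2.2.2.2
    treeC_c0 treeC_c1 treeC_c2 treeC_c3 treeC_c4 treeC_c5 treeC_c6 treeC_head.2.2.1

end Cfsg.Agent.Steiner.Search
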