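import Cfsg.Agent.Lib.Steiner.Search
import Cfsg.Agent.Lib.Steiner.Data12

/-!
Checked case trees for the small Steiner systems.
-/

set_option autoImplicit false

namespace Cfsg.Agent.Steiner.Search

theorem treeD_ok : check 11 5 4 std11 200 frame11_ (covOf 11 4 frame11_) treeD = some [] := by decide +kernel

end Cfsg.Agent.Steiner.Search
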