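import Cfsg.Agent.Lib.Steiner.Search
import Cfsg.Agent.Lib.Steiner.Data12
import Cfsg.Agent.Lib.Steiner.Small0
import Cfsg.Agent.Lib.Steiner.SmallA
import Cfsg.Agent.Lib.Steiner.SmallB
import Cfsg.Agent.Lib.Steiner.SmallC
import Cfsg.Agent.Lib.Steiner.SmallD

/-!
Every S(5, 6, 12) and every S(4, 5, 11) is the standard one.
-/

set_option autoImplicit false

namespace Cfsg.Agent.Steiner.Search

open Cfsg


theorem steiner_image {α β : Type*} [DecidableEq β] {t k : ℕ} {B : Set (Finset α)} (hB : IsSteinerSystem t k B)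
    (e : α ≃ β) : IsSteinerSystem t k ((fun b => b.image e) '' B) := by
  refine ⟨?_, fun s hs => ?_⟩
  · rintro _ ⟨b, hb, rfl⟩
    rw [Finset.card_image_of_injective _ e.injective, hB.1 b hb]
  · obtain ⟨b, ⟨hb, hsb⟩, hu⟩ := hB.2 (s.map e.symm.toEmbedding) (by rw [Finset.card_map, hs])
    refine ⟨b.image e, ⟨⟨b, hb, rfl⟩, fun x hx => ?_⟩, ?_⟩
    · exact Finset.mem_image.2 ⟨e.symm x, hsb (Finset.mem_map_of_mem _ hx), e.apply_symm_apply x⟩
    · rintro _ ⟨⟨c, hc, rfl⟩, hsc⟩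
      refine congrArg (Finset.image e) (hu c ⟨hc, fun y hy => ?_⟩)
      obtain ⟨x, hx, rfl⟩ := Finset.mem_map.1 hy
      obtain ⟨z, hz, rfl⟩ := Finset.mem_image.1 (hsc hx)
      simpa using hz

/-- Two systems with the same parameters are equal once one is inside the other. -/
theorem steiner_eq_of_subset {α : Type*} [DecidableEq α] {t k : ℕ} {A B : Set (Finset α)} (hA : IsSteinerSystem t k A)
    (hB : IsSteinerSystem t k B) (hk : t ≤ k) (h : A ⊆ B) : A = B := by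
  refine Set.Subset.antisymm h fun b hb => ?_
  obtain ⟨s, hs, hsc⟩ := Finset.exists_subset_card_eq (show t ≤ b.card by rw [hB.1 b hb]; exact hk)
  obtain ⟨a, ⟨ha, hsa⟩, -⟩ := hA.2 s hsc
  exact (hB.2 s hsc).unique ⟨h ha, hsa⟩ ⟨hb, hs⟩ ▸ ha

theorem exists_iso_of_trees {α : Type*} [Fintype α] [DecidableEq α] {v k t n : ℕ} {std frame st₁ st₂ : List ℕ}
    (hok : steinerOk v k t std = true) (h₁ : check v k t frame n [] 0 st₁ = some [])
    (h₂ : check v k t std n frame (covOf v t frame) st₂ = some []) (hk : t ≤ k)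
    (hα : Fintype.card α = v) {B : Set (Finset α)} (hB : IsSteinerSystem t k B) :
    ∃ e : α ≃ Fin v, (fun b => b.image e) '' B = sysOf v std := by
  let e₀ : α ≃ Fin v := Fintype.equivFinOfCardEq hα
  obtain ⟨σ₁, hσ₁⟩ := check_spec (steiner_image hB e₀) n [] 0 st₁ [] h₁ rfl (by simp)
  have hB1 := steiner_image hB (e₀.trans σ₁)
  obtain ⟨σ₂, hσ₂⟩ := check_spec hB1 n frame _ st₂ [] h₂ rfl (fun c hc => by
    obtain ⟨_, ⟨b, hb, rfl⟩, hbc⟩ := hσ₁ c hc
    exact ⟨_, ⟨b, hb, rfl⟩, by rw [← hbc, Finset.image_image]; rfl⟩)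
  refine ⟨(e₀.trans σ₁).trans σ₂, (steiner_eq_of_subset (isSteiner_sysOf hok) (steiner_image hB _) hk ?_).symm⟩
  intro a ha
  obtain ⟨_, ⟨b, hb, rfl⟩, hbc⟩ := hσ₂ _ ha
  refine ⟨b, hb, msk_injective ?_⟩
  rw [← hbc, Finset.image_image]
  rfl

theorem exists_std12_iso {α : Type*} [Fintype α] [DecidableEq α] (hα : Fintype.card α = 12)
    {B : Set (Finset α)} (hB : IsSteinerSystem 5 6 B) :
    ∃ e : α ≃ Fin 12, (fun b => b.image e) '' B = sysOf 12 std12 :=
  exists_iso_of_trees steiner12_ok treeA_ok treeB_ok (by norm_num) hα hB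

theorem exists_std11_iso {α : Type*} [Fintype α] [DecidableEq α] (hα : Fintype.card α = 11)
    {B : Set (Finset α)} (hB : IsSteinerSystem 4 5 B) :
    ∃ e : α ≃ Fin 11, (fun b => b.image e) '' B = sysOf 11 std11 :=
  exists_iso_of_trees steiner11_ok treeC_ok treeD_ok (by norm_num) hα hB

end Cfsg.Agent.Steiner.Search
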