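import Cfsg.Agent.Lib.Steiner.Search
import Cfsg.Agent.Lib.Steiner.Small
import Cfsg.Agent.Lib.Steiner.Graphs
import Cfsg.Agent.Lib.Steiner.Data22
import Cfsg.Agent.Lib.Golay.Mask

/-!
The pruned case-tree check with a general intersection rule.
-/

set_option autoImplicit false

namespace Cfsg.Agent.Steiner.Search21

open Cfsg Search

theorem pop_msk {v : ℕ} (hv : v ≤ 24) (S : Finset (Fin v)) : Golay24.pop24 (msk S) = S.card := by
  rw [Golay24.pop24_eq_popTo, Golay24.popTo_eq_sum, ← Finset.card_filter,
    ← Finset.card_map (Fin.castLEEmb hv)]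
  congr 1
  ext i
  simp only [Finset.mem_filter, Finset.mem_univ, true_and, Finset.mem_map, Fin.castLEEmb_apply]
  constructor
  · intro h
    by_cases hi : i.val < v
    · exact ⟨⟨i.val, hi⟩, by simpa [testBit_msk S ⟨i.val, hi⟩] using h, Fin.ext rfl⟩
    · rw [msk, Nat.testBit_ofBits_ge _ _ (by omega)] at h
      simp at h
  · rintro ⟨j, hj, rfl⟩
    simpa [testBit_msk] using hj

theorem land_msk {v : ℕ} (S U : Finset (Fin v)) : Nat.land (msk S) (msk U) = msk (S ∩ U) := by
  refine Nat.eq_of_testBit_eq fun j => ?_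
  show (msk S &&& msk U).testBit j = _
  rw [Nat.testBit_and]
  by_cases hj : j < v
  · rw [testBit_msk S ⟨j, hj⟩, testBit_msk U ⟨j, hj⟩, testBit_msk (S ∩ U) ⟨j, hj⟩]
    simp
  · simp [msk, Nat.testBit_ofBits_ge _ _ (show v ≤ j by omega)]

/-- Check a case tree, pruning by the allowed intersection sizes. -/
def check (v k t : ℕ) (ok : ℕ → Bool) (target : List ℕ) : ℕ → List ℕ → List ℕ → Option (List ℕ)
  | 0, _, _ => none
  | _ + 1, _, [] => none
  | _ + 1, _, [_] => none
  | n + 1, chosen, 0 :: p :: rest => if leafOk v target chosen p then some rest else none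
  | n + 1, chosen, (T + 1) :: q :: rest =>
    if decide (T < 2 ^ v) && (Golay24.pop24 T == t) && chosen.all (fun d => !(Nat.land T d == T)) then
      each (fun c st => check v k t ok target n (c :: chosen) st)
        ((exts v k t T).filter fun c => chosen.all fun d => ok (Golay24.pop24 (Nat.land c d))) (q :: rest)
    else none

theorem check_spec {v k t : ℕ} (hv : v ≤ 24) {ok : ℕ → Bool} {target : List ℕ} {B : Set (Finset (Fin v))}
    (hB : IsSteinerSystem t k B) (hmeet : ∀ b ∈ B, ∀ c ∈ B, b ≠ c → ok (b ∩ c).card = true) :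
    ∀ (n : ℕ) (chosen : List ℕ) (st r : List ℕ), check v k t ok target n chosen st = some r →
      (∀ c ∈ chosen, ∃ b ∈ B, msk b = c) →
      ∃ σ : Equiv.Perm (Fin v), ∀ m ∈ target, ∃ b ∈ B, msk (b.image σ) = m := by
  intro n
  induction n with
  | zero => intro _ _ _ h; simp [check] at h
  | succ n ih =>
    intro chosen st r h hch
    match st, h with
    | [], h => simp [check] at h
    | [_], h => simp [check] at h
    | 0 :: p :: rest, h =>
      simp only [check, Option.ite_none_right_eq_some] at h
      have hl := h.1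
      simp only [leafOk, Bool.and_eq_true, List.all_eq_true, List.mem_range, decide_eq_true_eq,
        List.contains_iff_mem, List.mem_map] at hl
      obtain ⟨⟨hlt, hnd⟩, htar⟩ := hl
      let f : Fin v → Fin v := fun i => ⟨look p i.val, hlt i.val i.isLt⟩
      have hf : Function.Injective f := fun i j e => Fin.ext
        (List.inj_on_of_nodup_map hnd (List.mem_range.2 i.isLt) (List.mem_range.2 j.isLt) (congrArg Fin.val e))
      refine ⟨Equiv.ofBijective f (Finite.injective_iff_bijective.1 hf), fun m hm => ?_⟩
      obtain ⟨c, hc, rfl⟩ := htar m hm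
      obtain ⟨b, hb, rfl⟩ := hch c hc
      exact ⟨b, hb, (imgMask_msk p f (fun _ => rfl) b).symm⟩
    | (T + 1) :: q :: rest, h =>
      simp only [check, Option.ite_none_right_eq_some, Bool.and_eq_true, decide_eq_true_eq, beq_iff_eq,
        List.all_eq_true, Bool.not_eq_true', beq_eq_false_iff_ne, ne_eq] at h
      obtain ⟨⟨⟨hlt, hpop⟩, hunc⟩, he⟩ := h
      have eT : T = msk (Finset.univ.filter fun i : Fin v => T.testBit i.val) := msk_ext hlt fun i => by simp
      generalize hS : (Finset.univ.filter fun i : Fin v => T.testBit i.val) = S at eT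
      subst eT
      rw [pop_msk hv] at hpop
      obtain ⟨b, ⟨hb, hSb⟩, -⟩ := hB.2 S hpop
      obtain ⟨st', r', h'⟩ := each_spec he (msk b) (by
        rw [List.mem_filter, List.all_eq_true]
        refine ⟨mem_exts hpop (hB.1 b hb) hSb, fun s hs => ?_⟩
        obtain ⟨d, hd, rfl⟩ := hch s hs
        rw [land_msk, pop_msk hv]
        refine hmeet b hb d hd fun e => ?_
        subst e
        exact hunc _ hs ((land_eq_self_iff S b).2 hSb))
      refine ih _ st' r' h' ?_
      intro c hc
      rcases List.mem_cons.1 hc with rfl | hc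
      · exact ⟨b, hb, rfl⟩
      · exact hch c hc

end Cfsg.Agent.Steiner.Search21
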