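import Cfsg.Agent.Lib.Steiner.Search22
import Cfsg.Agent.Lib.Steiner.Search21
import Cfsg.Agent.Lib.Steiner.Data21
import Mathlib.GroupTheory.Perm.Closure

/-!
The projective plane of order 4: uniqueness, hyperovals and their symmetries.
-/

set_option autoImplicit false

namespace Cfsg.Agent.Steiner.Plane21

open Cfsg Search
open scoped Pointwise

theorem steiner21_ok : steinerOk 21 5 2 std21 = true := by decide +kernel

/-- Two lines meet in at most one point. -/
def ok21 (m : ℕ) : Bool := Nat.ble m 1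

theorem tree21_ok : Search21.check 21 5 2 ok21 std21 100 init21 tree21 = some [] := by
  decide +kernel

/-- The standard plane of order 4. -/
abbrev plane : Set (Finset (Fin 21)) := sysOf 21 std21

/-! ### Uniqueness -/

section
variable {α : Type*} [Fintype α] [DecidableEq α] {B : Set (Finset α)}
  (hB : IsSteinerSystem 2 5 B) (hα : Fintype.card α = 21)
include hB hα

/-- A labelling putting one line and the lines through two of its points in normal position. -/
theorem exists_label : ∃ e : α ≃ Fin 21, ∀ c ∈ init21, ∃ b ∈ B, msk (b.image e) = c := by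
  classical
  obtain ⟨r1, r2, h12⟩ := Fintype.exists_pair_of_one_lt_card (α := α) (by omega)
  obtain ⟨L, ⟨hL, hLs⟩, -⟩ := hB.2 {r1, r2} (Finset.card_pair h12)
  have hr1 : r1 ∈ L := hLs (Finset.mem_insert_self _ _)
  have hr2 : r2 ∈ L := hLs (Finset.mem_insert_of_mem (Finset.mem_singleton_self _))
  have hthrough : ∀ r ∈ L, ((blocks B).filter fun b => r ∈ b ∧ b ≠ L).card = 4 := by
    intro r hr
    have h5 := card_through hB hα (s := {r}) 1 5 (Finset.card_singleton r) (by norm_num) (by decide)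
      (by decide)
    rw [show ((blocks B).filter fun b => r ∈ b ∧ b ≠ L) =
        ((blocks B).filter fun b => {r} ⊆ b).erase L by ext b; simp; tauto,
      Finset.card_erase_of_mem (by simp [hL, hr]), h5]
  set K1 := (blocks B).filter fun b => r1 ∈ b ∧ b ≠ L
  set K2 := (blocks B).filter fun b => r2 ∈ b ∧ b ≠ L
  have hout : ∀ q : ↥(Lᶜ : Finset α), ∀ r ∈ L, ∃ b, b ∈ B ∧ r ∈ b ∧ (q : α) ∈ b ∧ b ≠ L := by
    rintro ⟨q, hq⟩ r hr
    rw [Finset.mem_compl] at hq
    have hne : r ≠ q := fun e => hq (e ▸ hr)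
    obtain ⟨b, ⟨hb, hs⟩, -⟩ := hB.2 {r, q} (Finset.card_pair hne)
    exact ⟨b, hb, hs (Finset.mem_insert_self _ _), hs (Finset.mem_insert_of_mem (Finset.mem_singleton_self _)),
      fun e => hq (e ▸ hs (Finset.mem_insert_of_mem (Finset.mem_singleton_self _)))⟩
  choose ln hln1 hln2 hln3 hln4 using hout
  let φ : ↥(Lᶜ : Finset α) → ↥K1 × ↥K2 := fun q =>
    (⟨ln q r1 hr1, Finset.mem_filter.2 ⟨mem_blocks.2 (hln1 ..), hln2 .., hln4 q r1 hr1⟩⟩,
      ⟨ln q r2 hr2, Finset.mem_filter.2 ⟨mem_blocks.2 (hln1 ..), hln2 .., hln4 q r2 hr2⟩⟩)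
  have hinj : Function.Injective φ := by
    intro q q' h
    have e1 : ln q r1 hr1 = ln q' r1 hr1 := congrArg (fun z => (z.1 : Finset α)) h
    have e2 : ln q r2 hr2 = ln q' r2 hr2 := congrArg (fun z => (z.2 : Finset α)) h
    by_contra hne
    have hne' : (q : α) ≠ q' := fun e => hne (Subtype.ext e)
    have hcard := Finset.card_pair hne'
    have heq : ln q r1 hr1 = ln q r2 hr2 := (hB.2 {(q : α), (q' : α)} hcard).unique
      ⟨hln1 .., by
        simp only [Finset.insert_subset_iff, Finset.singleton_subset_iff]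
        exact ⟨hln3 .., e1 ▸ hln3 ..⟩⟩
      ⟨hln1 .., by
        simp only [Finset.insert_subset_iff, Finset.singleton_subset_iff]
        exact ⟨hln3 .., e2 ▸ hln3 ..⟩⟩
    exact hln4 q r1 hr1 (eq_of_subset hB (s := {r1, r2}) (by rw [Finset.card_pair h12]) (hln1 ..) hL
      (by simp only [Finset.insert_subset_iff, Finset.singleton_subset_iff]
          exact ⟨hln2 .., heq ▸ hln2 ..⟩) hLs)
  have hbij : Function.Bijective φ := (Fintype.bijective_iff_injective_and_card φ).2 ⟨hinj, by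
    rw [Fintype.card_prod, Fintype.card_coe, Fintype.card_coe, Fintype.card_coe, Finset.card_compl, hα,
      hB.1 L hL, hthrough r1 hr1, hthrough r2 hr2]⟩
  let ψ := Equiv.ofBijective φ hbij
  let c1 : ↥K1 ≃ Fin 4 := K1.equivFinOfCardEq (hthrough r1 hr1)
  let c2 : ↥K2 ≃ Fin 4 := K2.equivFinOfCardEq (hthrough r2 hr2)
  let eL : ↥L ≃ Fin 5 := L.equivFinOfCardEq (hB.1 L hL)
  let eL' : ↥L ≃ Fin 5 := (eL.trans (Equiv.swap (eL ⟨r1, hr1⟩) 0))
  let eL'' : ↥L ≃ Fin 5 := eL'.trans (Equiv.swap (eL' ⟨r2, hr2⟩) 1)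
  have he1 : eL'' ⟨r1, hr1⟩ = 0 := by
    have h0 : eL' ⟨r1, hr1⟩ = 0 := by simp [eL']
    have h0' : (0 : Fin 5) ≠ eL' ⟨r2, hr2⟩ := by
      rw [← h0]; exact fun e => h12 (congrArg Subtype.val (eL'.injective e))
    simp only [eL'', Equiv.trans_apply, h0]
    exact Equiv.swap_apply_of_ne_of_ne h0' (by decide)
  have he2 : eL'' ⟨r2, hr2⟩ = 1 := by simp [eL'']
  let g : ↥(Lᶜ : Finset α) → Fin 4 × Fin 4 := fun q => (c1 (φ q).1, c2 (φ q).2)
  let f : α → Fin 21 := fun a =>
    if ha : a ∈ L then ⟨(eL'' ⟨a, ha⟩).val, by omega⟩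
    else ⟨5 + 4 * (g ⟨a, Finset.mem_compl.2 ha⟩).1.val + (g ⟨a, Finset.mem_compl.2 ha⟩).2.val, by omega⟩
  have hfinj : Function.Injective f := by
    intro a a' h
    simp only [f] at h
    split_ifs at h with ha ha' ha'
    · exact congrArg Subtype.val (eL''.injective (Fin.ext (Fin.mk.inj_iff.1 h)))
    · have := Fin.mk.inj_iff.1 h; omega
    · have := Fin.mk.inj_iff.1 h; omega
    · have h' := Fin.mk.inj_iff.1 h
      have e1 : (g ⟨a, Finset.mem_compl.2 ha⟩).1 = (g ⟨a', Finset.mem_compl.2 ha'⟩).1 := Fin.ext (by omega)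
      have e2 : (g ⟨a, Finset.mem_compl.2 ha⟩).2 = (g ⟨a', Finset.mem_compl.2 ha'⟩).2 := Fin.ext (by omega)
      exact congrArg Subtype.val (hinj (Prod.ext (c1.injective e1) (c2.injective e2)))
  let e : α ≃ Fin 21 := Equiv.ofBijective f
    ((Fintype.bijective_iff_injective_and_card f).2 ⟨hfinj, by simp [hα]⟩)
  have himg : ∀ (b : Finset α) (T : Finset (Fin 21)), T.card = 5 → b ∈ B →
      (∀ a ∈ b, f a ∈ T) → b.image e = T := fun b T hT hb h =>
    Finset.eq_of_subset_of_card_le (Finset.image_subset_iff.2 h)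
      (by rw [Finset.card_image_of_injective _ e.injective, hB.1 b hb, hT])
  let R : Fin 4 → Finset (Fin 21) := fun i =>
    Finset.univ.filter fun x => x.val = 0 ∨ (5 ≤ x.val ∧ (x.val - 5) / 4 = i.val)
  let C : Fin 4 → Finset (Fin 21) := fun j =>
    Finset.univ.filter fun x => x.val = 1 ∨ (5 ≤ x.val ∧ (x.val - 5) % 4 = j.val)
  let T0 : Finset (Fin 21) := Finset.univ.filter fun x => x.val < 5
  have hnum : (T0.card = 5 ∧ msk T0 = init21.getD 0 0) ∧
      (∀ i, (R i).card = 5 ∧ msk (R i) = init21.getD (i.val + 1) 0) ∧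
      ∀ j, (C j).card = 5 ∧ msk (C j) = init21.getD (j.val + 5) 0 := by decide +kernel
  have h0 : ∃ b ∈ B, msk (b.image e) = init21.getD 0 0 := by
    refine ⟨L, hL, (congrArg msk (himg L T0 hnum.1.1 hL fun a ha => ?_)).trans hnum.1.2⟩
    simp [T0, f, ha]
  have hR : ∀ i : Fin 4, ∃ b ∈ B, msk (b.image e) = init21.getD (i.val + 1) 0 := by
    intro i
    have hm := (c1.symm i).2
    simp only [K1, Finset.mem_filter, mem_blocks] at hm
    refine ⟨_, hm.1, (congrArg msk (himg _ (R i) (hnum.2.1 i).1 hm.1 fun a ha => ?_)).trans (hnum.2.1 i).2⟩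
    by_cases haL : a ∈ L
    · have : a = r1 := by
        by_contra hne
        exact hm.2.2 (eq_of_subset hB (s := {a, r1}) (by rw [Finset.card_pair hne]) hm.1 hL
          (by simp [Finset.insert_subset_iff, ha, hm.2.1]) (by simp [Finset.insert_subset_iff, haL, hr1]))
      subst this
      simp [R, f, hr1, he1]
    · have hq : (φ ⟨a, Finset.mem_compl.2 haL⟩).1 = c1.symm i := Subtype.ext
        ((hB.2 {r1, a} (Finset.card_pair fun e => haL (e ▸ hr1))).unique
          ⟨hln1 .., by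
            simp only [Finset.insert_subset_iff, Finset.singleton_subset_iff]
            exact ⟨hln2 .., hln3 ..⟩⟩
          ⟨hm.1, by simp [Finset.insert_subset_iff, ha, hm.2.1]⟩)
      simp [R, f, g, haL, hq]
      omega
  have hC : ∀ j : Fin 4, ∃ b ∈ B, msk (b.image e) = init21.getD (j.val + 5) 0 := by
    intro j
    have hm := (c2.symm j).2
    simp only [K2, Finset.mem_filter, mem_blocks] at hm
    refine ⟨_, hm.1, (congrArg msk (himg _ (C j) (hnum.2.2 j).1 hm.1 fun a ha => ?_)).trans (hnum.2.2 j).2⟩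
    by_cases haL : a ∈ L
    · have : a = r2 := by
        by_contra hne
        exact hm.2.2 (eq_of_subset hB (s := {a, r2}) (by rw [Finset.card_pair hne]) hm.1 hL
          (by simp [Finset.insert_subset_iff, ha, hm.2.1]) (by simp [Finset.insert_subset_iff, haL, hr2]))
      subst this
      simp [C, f, hr2, he2]
    · have hq : (φ ⟨a, Finset.mem_compl.2 haL⟩).2 = c2.symm j := Subtype.ext
        ((hB.2 {r2, a} (Finset.card_pair fun e => haL (e ▸ hr2))).unique
          ⟨hln1 .., by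
            simp only [Finset.insert_subset_iff, Finset.singleton_subset_iff]
            exact ⟨hln2 .., hln3 ..⟩⟩
          ⟨hm.1, by simp [Finset.insert_subset_iff, ha, hm.2.1]⟩)
      simp [C, f, g, haL, hq]
      omega
  refine ⟨e, fun c hc => ?_⟩
  simp only [init21, List.mem_cons, List.not_mem_nil, or_false] at hc
  rcases hc with rfl | rfl | rfl | rfl | rfl | rfl | rfl | rfl | rfl
  exacts [h0, hR 0, hR 1, hR 2, hR 3, hC 0, hC 1, hC 2, hC 3]

theorem exists_std21_iso : ∃ e : α ≃ Fin 21, (fun b => b.image e) '' B = plane := by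
  obtain ⟨e₀, he₀⟩ := exists_label hB hα
  have hB0 := steiner_image hB e₀
  obtain ⟨σ, hσ⟩ := Search21.check_spec (by norm_num) hB0 (ok := ok21) (fun b hb c hc hne => by
    rw [ok21, Nat.ble_eq]
    by_contra h
    exact hne (eq_of_subset hB0 (s := b ∩ c) (by omega) hb hc Finset.inter_subset_left
      Finset.inter_subset_right)) 100 init21 tree21 [] tree21_ok fun c hc => by
    obtain ⟨b, hb, h⟩ := he₀ c hc
    exact ⟨_, ⟨b, hb, rfl⟩, h⟩
  refine ⟨e₀.trans σ, (steiner_eq_of_subset (isSteiner_sysOf steiner21_ok) (steiner_image hB _)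
    (by norm_num) ?_).symm⟩
  intro a ha
  obtain ⟨_, ⟨b, hb, rfl⟩, hbc⟩ := hσ _ ha
  refine ⟨b, hb, msk_injective ?_⟩
  rw [← hbc, Finset.image_image]
  rfl

end

end Cfsg.Agent.Steiner.Plane21
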