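import Cfsg.Agent.Lib.Steiner.HSGraph

/-!
A strongly regular graph with parameters (100, 22, 0, 6) is the point-block graph of an S(3, 6, 22).
-/

set_option autoImplicit false
set_option linter.style.haveILetI false

namespace Cfsg.Agent.Steiner.SRG100

open Cfsg

variable {V : Type*} [Fintype V] [DecidableEq V] {G : SimpleGraph V} [DecidableRel G.Adj]

theorem card_inter {n k l m : ℕ} (hG : G.IsSRGWith n k l m) {u v : V} (h : u ≠ v) :
    (G.neighborFinset u ∩ G.neighborFinset v).card = if G.Adj u v then l else m := by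
  have e : (G.commonNeighbors u v).toFinset = G.neighborFinset u ∩ G.neighborFinset v := by
    ext x; simp [SimpleGraph.mem_commonNeighbors]
  rw [← e, Set.toFinset_card]
  split_ifs with ha
  · exact hG.of_adj u v ha
  · exact hG.of_not_adj h ha

variable (hG : G.IsSRGWith 100 22 0 6)
include hG

theorem no_triangle {a u v : V} (h : G.Adj u v) (hu : G.Adj a u) (hv : G.Adj a v) : False := by
  have h0 := card_inter hG h.ne
  rw [if_pos h, Finset.card_eq_zero] at h0
  exact Finset.notMem_empty a (h0 ▸ Finset.mem_inter.2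
    ⟨(G.mem_neighborFinset _ _).2 hu.symm, (G.mem_neighborFinset _ _).2 hv.symm⟩)

variable {o y z : V}

/-- The vertices at distance two from `o`. -/
theorem card_far : (Finset.univ.filter fun y => y ≠ o ∧ ¬ G.Adj o y).card = 77 := by
  have e : (Finset.univ.filter fun y => y ≠ o ∧ ¬ G.Adj o y) =
      Finset.univ \ insert o (G.neighborFinset o) := by
    ext x; simp [not_or]
  rw [e, Finset.card_univ_diff, Finset.card_insert_of_notMem (by simp), G.card_neighborFinset_eq_degree,
    hG.regular o, hG.card]

theorem card_blk (hy : y ≠ o) (hy' : ¬ G.Adj o y) : (G.neighborFinset o ∩ G.neighborFinset y).card = 6 := by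
  rw [card_inter hG hy.symm, if_neg hy']

theorem block_inter (hy : y ≠ o) (hy' : ¬ G.Adj o y) (hz : z ≠ o) (hz' : ¬ G.Adj o z) (hyz : y ≠ z) :
    ((G.neighborFinset o ∩ G.neighborFinset y).filter fun a => G.Adj a z).card =
      if G.Adj y z then 0 else 2 := by
  set b := G.neighborFinset o ∩ G.neighborFinset y with hb
  split_ifs with hadj
  · rw [Finset.card_eq_zero, Finset.filter_eq_empty_iff]
    intro a ha haz
    rw [hb, Finset.mem_inter, G.mem_neighborFinset, G.mem_neighborFinset] at ha
    exact no_triangle hG hadj ha.2.symm haz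
  · let T := Finset.univ.filter fun w => w ≠ o ∧ ¬ G.Adj o w ∧ w ≠ y ∧ ¬ G.Adj y w
    have hbc : b.card = 6 := card_blk hG hy hy'
    have hT : T.card = 60 := by
      have e : T = Finset.univ \ insert o (insert y (G.neighborFinset o ∪ G.neighborFinset y)) := by
        ext w; simp [T, not_or]; tauto
      have hu := Finset.card_union_add_card_inter (G.neighborFinset o) (G.neighborFinset y)
      rw [card_blk hG hy hy', G.card_neighborFinset_eq_degree, G.card_neighborFinset_eq_degree,
        hG.regular, hG.regular] at hu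
      rw [e, Finset.card_univ_diff, Finset.card_insert_of_notMem, Finset.card_insert_of_notMem, hG.card]
      · omega
      · simp [hy']
      · simp [hy.symm, G.adj_comm, hy']
    have hmem : ∀ a ∈ b, G.Adj o a ∧ G.Adj y a := fun a ha => by simpa [hb] using ha
    have hf : ∀ a ∈ b, ∀ a' ∈ b, (T.filter fun w => G.Adj a w ∧ G.Adj a' w).card =
        if a = a' then 20 else 4 := by
      intro a ha a' ha'
      obtain ⟨hoa, hya⟩ := hmem a ha
      obtain ⟨hoa', hya'⟩ := hmem a' ha'
      have e : T.filter (fun w => G.Adj a w ∧ G.Adj a' w) =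
          ((G.neighborFinset a ∩ G.neighborFinset a').erase o).erase y := by
        ext w
        simp only [T, Finset.mem_filter, Finset.mem_univ, true_and, Finset.mem_erase, Finset.mem_inter,
          G.mem_neighborFinset]
        constructor
        · tauto
        · rintro ⟨hwy, hwo, h1, h2⟩
          exact ⟨⟨hwo, fun h => no_triangle hG h hoa.symm h1, hwy,
            fun h => no_triangle hG h hya.symm h1⟩, h1, h2⟩
      rw [e, Finset.card_erase_of_mem, Finset.card_erase_of_mem]
      · by_cases h : a = a'
        · subst h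
          rw [Finset.inter_self, G.card_neighborFinset_eq_degree, hG.regular, if_pos rfl]
        · rw [card_inter hG h, if_neg, if_neg h]
          exact fun h' => no_triangle hG h' hoa hoa'
      · simp [hoa.symm, hoa'.symm]
      · simp [hya.symm, hya'.symm, hy]
    have hS1 : ∑ w ∈ T, (b.filter fun a => G.Adj a w).card = 120 := by
      simp only [Finset.card_filter]
      rw [Finset.sum_comm]
      have h : ∀ a ∈ b, (∑ w ∈ T, if G.Adj a w then 1 else 0) = 20 := fun a ha => by
        have := hf a ha a ha
        simpa [← Finset.card_filter] using this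
      rw [Finset.sum_congr rfl h, Finset.sum_const, hbc, smul_eq_mul]
    have hS2 : ∑ w ∈ T, (b.filter fun a => G.Adj a w).card * (b.filter fun a => G.Adj a w).card = 240 := by
      simp only [← Finset.card_product, ← Finset.filter_product]
      simp only [Finset.card_filter]
      rw [Finset.sum_comm, Finset.sum_product]
      have h : ∀ a ∈ b, (∑ a' ∈ b, ∑ w ∈ T, if G.Adj a w ∧ G.Adj a' w then 1 else 0) = 40 := by
        intro a ha
        rw [Finset.sum_congr rfl fun a' ha' => (Finset.card_filter _ _).symm.trans (hf a ha a' ha'),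
          ← Finset.add_sum_erase _ _ ha, if_pos rfl,
          Finset.sum_congr rfl fun a' ha' => if_neg (Finset.ne_of_mem_erase ha').symm]
        simp [Finset.card_erase_of_mem ha, hbc]
      rw [Finset.sum_congr rfl h, Finset.sum_const, hbc, smul_eq_mul]
    have hzT : z ∈ T := by simp [T, hz, hz', hyz.symm, hadj]
    have h0 : ∑ w ∈ T, (((b.filter fun a => G.Adj a w).card : ℤ) - 2) ^ 2 = 0 := by
      have h1 : ∀ x : ℤ, (x - 2) ^ 2 = x * x - 4 * x + 4 := fun x => by ring
      simp only [h1, Finset.sum_add_distrib, Finset.sum_sub_distrib, ← Finset.mul_sum, Finset.sum_const, hT]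
      have a1 : ∑ w ∈ T, ((b.filter fun a => G.Adj a w).card : ℤ) = 120 := by exact_mod_cast hS1
      have a2 : ∑ w ∈ T, ((b.filter fun a => G.Adj a w).card : ℤ) * (b.filter fun a => G.Adj a w).card = 240 := by
        exact_mod_cast hS2
      rw [a1, a2]; norm_num
    have := (Finset.sum_eq_zero_iff_of_nonneg fun w _ => sq_nonneg _).1 h0 z hzT
    have h2 : ((b.filter fun a => G.Adj a z).card : ℤ) - 2 = 0 := pow_eq_zero_iff two_ne_zero |>.1 this
    omega

theorem block_inter_le (hy : y ≠ o) (hy' : ¬ G.Adj o y) (hz : z ≠ o) (hz' : ¬ G.Adj o z) (hyz : y ≠ z) :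
    ((G.neighborFinset o ∩ G.neighborFinset y) ∩ (G.neighborFinset o ∩ G.neighborFinset z)).card ≤ 2 := by
  refine le_trans (Finset.card_le_card fun a ha => ?_) ((block_inter hG hy hy' hz hz' hyz).trans_le
    (by split_ifs <;> norm_num))
  simp only [Finset.mem_inter, Finset.mem_filter, G.mem_neighborFinset] at ha ⊢
  exact ⟨ha.1, ha.2.2.symm⟩

theorem exists_block (o : V) {s : Finset V} (hs : s ⊆ G.neighborFinset o) (h3 : s.card = 3) :
    ∃ y, (y ≠ o ∧ ¬ G.Adj o y) ∧ s ⊆ G.neighborFinset o ∩ G.neighborFinset y := by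
  let R := Finset.univ.filter fun y => y ≠ o ∧ ¬ G.Adj o y
  let U := R.biUnion fun y => (G.neighborFinset o ∩ G.neighborFinset y).powersetCard 3
  have hU : U.card = 1540 := by
    rw [Finset.card_biUnion]
    · rw [Finset.sum_congr rfl (g := fun _ => 20) fun y hy => ?_, Finset.sum_const, card_far hG]
      · rfl
      · obtain ⟨-, h1, h2⟩ := Finset.mem_filter.1 hy
        rw [Finset.card_powersetCard, card_blk hG h1 h2]
        rfl
    · intro y hy z hz hyz
      obtain ⟨-, h1, h2⟩ := Finset.mem_filter.1 (Finset.mem_coe.1 hy)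
      obtain ⟨-, h3, h4⟩ := Finset.mem_filter.1 (Finset.mem_coe.1 hz)
      refine Finset.disjoint_left.2 fun t ht ht' => ?_
      rw [Finset.mem_powersetCard] at ht ht'
      have := Finset.card_le_card (Finset.subset_inter ht.1 ht'.1)
      have := block_inter_le hG h1 h2 h3 h4 hyz
      omega
  have hsub : U ⊆ (G.neighborFinset o).powersetCard 3 := by
    intro t ht
    obtain ⟨y, -, hy⟩ := Finset.mem_biUnion.1 ht
    rw [Finset.mem_powersetCard] at hy ⊢
    exact ⟨hy.1.trans Finset.inter_subset_left, hy.2⟩
  have he : U = (G.neighborFinset o).powersetCard 3 := Finset.eq_of_subset_of_card_le hsub (by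
    rw [Finset.card_powersetCard, G.card_neighborFinset_eq_degree, hG.regular, hU]; rfl)
  have : s ∈ U := he ▸ Finset.mem_powersetCard.2 ⟨hs, h3⟩
  obtain ⟨y, hy, hy'⟩ := Finset.mem_biUnion.1 this
  exact ⟨y, (Finset.mem_filter.1 hy).2, (Finset.mem_powersetCard.1 hy').1⟩

theorem exists_iso_std : Nonempty (G ≃g pointBlockGraph HSGraph.stdB) := by
  classical
  obtain ⟨o⟩ : Nonempty V := Fintype.card_pos_iff.1 (by rw [hG.card]; norm_num)
  let P := {a : V // G.Adj o a}
  let R := {y : V // y ≠ o ∧ ¬ G.Adj o y}
  let bp : R → Finset P := fun y => Finset.univ.filter fun a => G.Adj a.1 y.1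
  have hmap : ∀ y : R, (bp y).map (Function.Embedding.subtype _) =
      G.neighborFinset o ∩ G.neighborFinset y.1 := fun y => by
    ext a; simp [bp, P, G.adj_comm y.1 a, and_comm]
  have hbc : ∀ y : R, (bp y).card = 6 := fun y => by
    rw [← Finset.card_map (Function.Embedding.subtype _), hmap, card_blk hG y.2.1 y.2.2]
  have hint : ∀ y z : R, y ≠ z → ((bp y).filter fun a => a ∈ bp z).card = if G.Adj y.1 z.1 then 0 else 2 := by
    intro y z hyz
    rw [← block_inter hG y.2.1 y.2.2 z.2.1 z.2.2 (fun h => hyz (Subtype.ext h)), ← hmap y, Finset.filter_map,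
      Finset.card_map]
    congr 1
    ext a; simp [bp]
  have hinj : Function.Injective bp := fun y z h => by
    by_contra hne
    have := hint y z hne
    rw [← h, Finset.filter_true_of_mem (fun a ha => ha), hbc] at this
    split_ifs at this
    all_goals omega
  have hdisj : ∀ y z : R, G.Adj y.1 z.1 ↔ Disjoint (bp y) (bp z) := by
    intro y z
    rcases eq_or_ne y z with rfl | hne
    · refine iff_of_false (G.loopless.irrefl _) fun h => ?_
      have := hbc y
      simp [disjoint_self.1 h] at this
    · have := hint y z hne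
      rw [Finset.disjoint_left]
      constructor
      · intro h a ha ha'
        rw [if_pos h, Finset.card_eq_zero, Finset.filter_eq_empty_iff] at this
        exact this ha ha'
      · intro h
        by_contra hn
        rw [if_neg hn, Finset.filter_false_of_mem (fun a ha => h ha)] at this
        simp at this
  have hα : Fintype.card P = 22 := by
    rw [Fintype.card_subtype, ← hG.regular o, ← G.card_neighborFinset_eq_degree]
    congr 1; ext a; simp
  have hB : IsSteinerSystem 3 6 (Set.range bp) := by
    refine ⟨by rintro b ⟨y, rfl⟩; exact hbc y, fun s hs => ?_⟩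
    obtain ⟨y, hy, hsy⟩ := exists_block hG o (s := s.map (Function.Embedding.subtype _))
      (fun a ha => by
        obtain ⟨x, -, rfl⟩ := Finset.mem_map.1 ha
        exact (G.mem_neighborFinset _ _).2 x.2) (by rw [Finset.card_map, hs])
    rw [← hmap ⟨y, hy⟩, Finset.map_subset_map] at hsy
    refine ⟨bp ⟨y, hy⟩, ⟨⟨_, rfl⟩, hsy⟩, ?_⟩
    rintro b ⟨⟨z, rfl⟩, hsz⟩
    by_contra hne
    have hzy : z ≠ ⟨y, hy⟩ := fun h => hne (by rw [h])
    have h1 := hint z ⟨y, hy⟩ hzy
    have h2 : s.card ≤ ((bp z).filter fun a => a ∈ bp ⟨y, hy⟩).card :=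
      Finset.card_le_card fun a ha => Finset.mem_filter.2 ⟨hsz ha, hsy ha⟩
    rw [h1] at h2
    split_ifs at h2
    all_goals omega
  let eR : R ≃ Set.range bp := Equiv.ofInjective bp hinj
  let g : Option (P ⊕ Set.range bp) → V
    | none => o
    | some (Sum.inl a) => a.1
    | some (Sum.inr c) => (eR.symm c).1
  have hg : Function.Bijective g := by
    constructor
    · rintro (_ | (a | c)) (_ | (a' | c')) h <;> simp only [g] at h
      · rfl
      · exact absurd a'.2 (h ▸ G.loopless.irrefl o)
      · exact absurd h.symm (eR.symm c').2.1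
      · exact absurd a.2 (by rw [h]; exact G.loopless.irrefl o)
      · rw [Subtype.ext h]
      · exact absurd a.2 (h ▸ (eR.symm c').2.2)
      · exact absurd h (eR.symm c).2.1
      · exact absurd a'.2 (h ▸ (eR.symm c).2.2)
      · rw [eR.symm.injective (Subtype.ext h)]
    · intro x
      by_cases hxo : x = o
      · exact ⟨none, hxo.symm⟩
      · by_cases hx : G.Adj o x
        · exact ⟨some (Sum.inl ⟨x, hx⟩), rfl⟩
        · exact ⟨some (Sum.inr (eR ⟨x, hxo, hx⟩)), by simp [g]⟩
  have hv : ∀ c : Set.range bp, bp (eR.symm c) = c.1 := fun c => Equiv.apply_ofInjective_symm hinj c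
  have hrel : ∀ u v, G.Adj (g u) (g v) ↔ (pointBlockGraph (Set.range bp)).Adj u v := by
    intro u v
    rw [pointBlockGraph, SimpleGraph.fromRel_adj]
    rcases u with _ | (a | c) <;> rcases v with _ | (a' | c') <;>
      simp only [g, pointBlockRel, ne_eq, Option.some.injEq, Sum.inl.injEq, Sum.inr.injEq, reduceCtorEq,
        not_false_eq_true, not_true, true_and, false_and, or_false, false_or, or_self, and_false, or_true]
    · exact iff_of_false (G.loopless.irrefl o) id
    · exact iff_of_true a'.2 trivial
    · exact iff_of_false (eR.symm c').2.2 id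
    · exact iff_of_true a.2.symm trivial
    · exact iff_of_false (fun h => no_triangle hG h a.2 a'.2) id
    · rw [← hv c']; simp [bp]
    · exact iff_of_false (fun h => (eR.symm c).2.2 h.symm) id
    · rw [← hv c]; simp [bp, G.adj_comm]
    · rw [hdisj, hv, hv]
      refine ⟨fun h => ⟨fun hcc => ?_, Or.inl h⟩, fun h => h.2.elim id fun h' => h'.symm⟩
      subst hcc
      have := hB.1 c.1 c.2
      simp [disjoint_self.1 h] at this
  obtain ⟨φ⟩ := HSGraph.exists_iso_std hα hB
  exact ⟨RelIso.trans (RelIso.symm ⟨Equiv.ofBijective g hg, fun {u v} => hrel u v⟩) φ⟩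

end Cfsg.Agent.Steiner.SRG100
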