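import Mathlib

/-!
Strongly regular graphs with parameters (77, 16, 0, 4): the positive semidefinite form `22 - 11 A + 2 J`
and the local consequences used for uniqueness (after Brouwer).
-/

set_option autoImplicit false

namespace Cfsg.Agent.Steiner.SRG77

variable {V : Type*} [Fintype V] [DecidableEq V] {G : SimpleGraph V} [DecidableRel G.Adj]

/-- The number of edges from `S` to `T`. -/
def ecount (G : SimpleGraph V) [DecidableRel G.Adj] (S T : Finset V) : ℕ :=
  ∑ u ∈ S, (T ∩ G.neighborFinset u).card

theorem card_inter {n k l m : ℕ} (hG : G.IsSRGWith n k l m) {u v : V} (h : u ≠ v) :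
    (G.neighborFinset u ∩ G.neighborFinset v).card = if G.Adj u v then l else m := by
  have e : (G.commonNeighbors u v).toFinset = G.neighborFinset u ∩ G.neighborFinset v := by
    ext x; simp [SimpleGraph.mem_commonNeighbors]
  rw [← e, Set.toFinset_card]
  split_ifs with ha
  · exact hG.of_adj u v ha
  · exact hG.of_not_adj h ha

variable (hG : G.IsSRGWith 77 16 0 4)
include hG

theorem psd (x : V → ℤ) :
    0 ≤ 22 * ∑ u, x u * x u - 11 * ∑ u, ∑ v, (if G.Adj u v then x u * x v else 0) + 2 * (∑ u, x u) * (∑ u, x u) := by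
  classical
  set S := ∑ u, x u with hS
  set q := ∑ u, x u * x u with hq
  set p := ∑ u, ∑ v, (if G.Adj u v then x u * x v else 0) with hp
  let A : V → ℤ := fun u => ∑ v, if G.Adj u v then x v else 0
  have hAS : ∑ u, A u = 16 * S := by
    simp only [A]
    rw [Finset.sum_comm, hS, Finset.mul_sum]
    refine Finset.sum_congr rfl fun v _ => ?_
    rw [← Finset.sum_filter, Finset.sum_const]
    have : (Finset.univ.filter fun u => G.Adj u v) = G.neighborFinset v := by
      ext u; simp [G.adj_comm]
    rw [this, G.card_neighborFinset_eq_degree, hG.regular]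
    simp
  have hxA : ∑ u, x u * A u = p := by
    simp only [A, hp, Finset.mul_sum, mul_ite, mul_zero]
  have hAA : ∑ u, A u * A u = 12 * q + 4 * S * S - 4 * p := by
    have h1 : ∀ v w, (∑ u, (if G.Adj u v then x v else 0) * (if G.Adj u w then x w else 0)) =
        x v * x w * (4 + (if v = w then 12 else 0) - (if G.Adj v w then 4 else 0)) := by
      intro v w
      have h2 : ∀ u, (if G.Adj u v then x v else 0) * (if G.Adj u w then x w else 0) =
          if u ∈ G.neighborFinset v ∩ G.neighborFinset w then x v * x w else 0 := by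
        intro u
        simp only [Finset.mem_inter, G.mem_neighborFinset, G.adj_comm v, G.adj_comm w]
        split_ifs <;> simp_all
      simp only [h2, Finset.sum_ite_mem, Finset.univ_inter, Finset.sum_const, nsmul_eq_mul]
      rcases eq_or_ne v w with rfl | hvw
      · rw [Finset.inter_self, G.card_neighborFinset_eq_degree, hG.regular]
        simp [mul_comm]
      · rw [card_inter hG hvw, if_neg hvw]
        split_ifs <;> push_cast <;> ring
    simp only [A, Finset.sum_mul_sum]
    rw [Finset.sum_comm, Finset.sum_congr rfl fun v _ => Finset.sum_comm]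
    rw [Finset.sum_congr rfl fun v _ => Finset.sum_congr rfl fun w _ => h1 v w]
    simp only [mul_sub, mul_add, Finset.sum_add_distrib, Finset.sum_sub_distrib, mul_ite, mul_zero,
      Finset.sum_ite_eq, Finset.mem_univ, if_true]
    have e1 : ∑ v, ∑ w, x v * x w * 4 = 4 * S * S := by
      rw [hS]; simp only [← Finset.sum_mul, ← Finset.mul_sum]; ring
    have e2 : ∑ v, x v * x v * 12 = 12 * q := by rw [← Finset.sum_mul, ← hq]; ring
    have e3 : ∑ v, ∑ w, (if G.Adj v w then x v * x w * 4 else 0) = 4 * p := by
      rw [hp, Finset.mul_sum]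
      refine Finset.sum_congr rfl fun v _ => ?_
      rw [Finset.mul_sum]
      refine Finset.sum_congr rfl fun w _ => ?_
      split_ifs <;> ring
    rw [e1, e2, e3]; ring
  have key : ∑ u, (22 * x u - 11 * A u + 2 * S) * (22 * x u - 11 * A u + 2 * S) =
      88 * (22 * q - 11 * p + 2 * S * S) := by
    have e : ∀ u, (22 * x u - 11 * A u + 2 * S) * (22 * x u - 11 * A u + 2 * S) =
        484 * (x u * x u) - 484 * (x u * A u) + 88 * S * x u - 44 * S * A u + 121 * (A u * A u) + 4 * S * S :=
      fun u => by ring
    simp only [e, Finset.sum_add_distrib, Finset.sum_sub_distrib, ← Finset.mul_sum, hxA, hAS, hAA, ← hq, ← hS,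
      Finset.sum_const, Finset.card_univ, hG.card, nsmul_eq_mul]
    push_cast
    ring
  have h0 : 0 ≤ ∑ u, (22 * x u - 11 * A u + 2 * S) * (22 * x u - 11 * A u + 2 * S) :=
    Finset.sum_nonneg fun u _ => mul_self_nonneg _
  rw [key] at h0
  linarith

/-- The quadratic form on a combination of disjoint sets, with bounds `D` on the edge numbers. -/
theorem quad {n : ℕ} (S : Fin n → Finset V) (w : Fin n → ℤ) (c : Fin n → ℕ) (hc : ∀ i, (S i).card = c i)
    (hd : ∀ i j, i ≠ j → Disjoint (S i) (S j)) (D : Fin n → Fin n → ℕ)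
    (hD : ∀ i j, w i * w j * (D i j : ℤ) ≤ w i * w j * (ecount G (S i) (S j) : ℤ)) :
    0 ≤ 22 * ∑ i, (c i : ℤ) * (w i * w i) - 11 * ∑ i, ∑ j, w i * w j * (D i j : ℤ) +
      2 * (∑ i, (c i : ℤ) * w i) * (∑ i, (c i : ℤ) * w i) := by
  classical
  let x : V → ℤ := fun u => ∑ i, if u ∈ S i then w i else 0
  have hsum : ∀ f : V → ℤ, ∑ u, x u * f u = ∑ i, w i * ∑ u ∈ S i, f u := by
    intro f
    simp only [x, Finset.sum_mul, ite_mul, zero_mul]
    rw [Finset.sum_comm]
    simp [Finset.sum_ite_mem, Finset.mul_sum]
  have hx : ∀ i, ∀ u ∈ S i, x u = w i := by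
    intro i u hu
    simp only [x]
    rw [Finset.sum_eq_single i (fun j _ hj => if_neg fun h => Finset.disjoint_left.1 (hd j i hj) h hu)
      (fun h => absurd (Finset.mem_univ i) h), if_pos hu]
  have h1 : ∑ u, x u = ∑ i, (c i : ℤ) * w i := by
    have := hsum fun _ => 1
    simpa [hc, mul_comm] using this
  have h2 : ∑ u, x u * x u = ∑ i, (c i : ℤ) * (w i * w i) := by
    rw [hsum]
    refine Finset.sum_congr rfl fun i _ => ?_
    rw [Finset.sum_congr rfl (hx i), Finset.sum_const, hc, nsmul_eq_mul]
    ring
  have h3 : ∑ u, ∑ v, (if G.Adj u v then x u * x v else 0) =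
      ∑ i, ∑ j, w i * w j * (ecount G (S i) (S j) : ℤ) := by
    have : ∀ u, (∑ v, if G.Adj u v then x u * x v else 0) =
        x u * ∑ j, w j * ((S j ∩ G.neighborFinset u).card : ℤ) := by
      intro u
      have h := hsum fun v => if G.Adj u v then 1 else 0
      simp only [mul_ite, mul_one, mul_zero] at h
      rw [show (∑ v, if G.Adj u v then x u * x v else 0) = x u * ∑ v, if G.Adj u v then x v else 0 by
        simp [Finset.mul_sum], h]
      congr 1
      refine Finset.sum_congr rfl fun j _ => ?_
      rw [Finset.sum_boole]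
      rw [show (S j).filter (G.Adj u) = S j ∩ G.neighborFinset u by ext v; simp]

    simp only [this]
    rw [hsum]
    refine Finset.sum_congr rfl fun i _ => ?_
    rw [Finset.sum_comm, Finset.mul_sum]
    refine Finset.sum_congr rfl fun j _ => ?_
    rw [← Finset.mul_sum, ecount, Nat.cast_sum]
    ring
  have h4 : ∑ i, ∑ j, w i * w j * (D i j : ℤ) ≤ ∑ i, ∑ j, w i * w j * (ecount G (S i) (S j) : ℤ) :=
    Finset.sum_le_sum fun i _ => Finset.sum_le_sum fun j _ => hD i j
  have := psd hG x
  rw [h1, h2, h3] at this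
  linarith

end Cfsg.Agent.Steiner.SRG77
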