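import Mathlib

/-!
Uniqueness of the generalized quadrangle of order two: labelling of fifteen points and fifteen lines.
-/

set_option autoImplicit false
set_option maxHeartbeats 1600000

namespace Cfsg.Agent.Steiner.SRG77

/-- The axioms of a generalized quadrangle of order two. -/
structure GQTwo {P Ln : Type*} [Fintype P] [Fintype Ln] [DecidableEq P] (inc : Ln → Finset P) : Prop where
  card3 : ∀ T, (inc T).card = 3
  deg3 : ∀ p, (Finset.univ.filter fun T => p ∈ inc T).card = 3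
  share : ∀ p q T T', p ≠ q → p ∈ inc T → q ∈ inc T → p ∈ inc T' → q ∈ inc T' → T = T'
  proj : ∀ p T, p ∉ inc T → ∃ T' q, p ∈ inc T' ∧ q ∈ inc T' ∧ q ∈ inc T
  uniq : ∀ p T T1 T2 q1 q2, p ∉ inc T → p ∈ inc T1 → q1 ∈ inc T1 → q1 ∈ inc T →
    p ∈ inc T2 → q2 ∈ inc T2 → q2 ∈ inc T → T1 = T2

/-- The fifteen lines of the standard quadrangle. -/
def triB : Fin 15 → Finset (Fin 15) :=
  ![{0, 1, 2}, {0, 3, 4}, {0, 5, 6}, {1, 7, 8}, {1, 9, 10}, {2, 11, 12}, {2, 13, 14}, {3, 7, 11}, {3, 9, 13},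
    {4, 8, 12}, {4, 10, 14}, {5, 7, 14}, {5, 9, 12}, {6, 8, 13}, {6, 10, 11}]

theorem triB_card : ∀ i, (triB i).card = 3 := by decide

theorem triB_inj : Function.Injective triB := by unfold Function.Injective; decide

variable {P Ln : Type*} [Fintype P] [Fintype Ln] [DecidableEq P] {inc : Ln → Finset P}

namespace GQTwo

variable (h : GQTwo inc)
include h

theorem only3 {p : P} {A B C T : Ln} (hA : p ∈ inc A) (hB : p ∈ inc B) (hC : p ∈ inc C) (hAB : A ≠ B)
    (hAC : A ≠ C) (hBC : B ≠ C) (hT : p ∈ inc T) : T = A ∨ T = B ∨ T = C := by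
  classical
  have e : ({A, B, C} : Finset Ln) = Finset.univ.filter fun T => p ∈ inc T :=
    Finset.eq_of_subset_of_card_le (fun x hx => by
      simp only [Finset.mem_insert, Finset.mem_singleton] at hx
      rcases hx with rfl | rfl | rfl <;> simp [*])
      (by rw [h.deg3, Finset.card_eq_three.2 ⟨A, B, C, hAB, hAC, hBC, rfl⟩])
  have : T ∈ ({A, B, C} : Finset Ln) := by rw [e]; simp [hT]
  simpa using this

theorem other_lines {p : P} {T : Ln} (hT : p ∈ inc T) :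
    ∃ A B, p ∈ inc A ∧ p ∈ inc B ∧ A ≠ T ∧ B ≠ T ∧ A ≠ B := by
  classical
  have e : ((Finset.univ.filter fun T => p ∈ inc T).erase T).card = 2 := by
    rw [Finset.card_erase_of_mem (by simp [hT]), h.deg3]
  obtain ⟨A, B, hAB, e⟩ := Finset.card_eq_two.1 e
  have hA : A ∈ ({A, B} : Finset Ln) := by simp
  have hB : B ∈ ({A, B} : Finset Ln) := by simp
  rw [← e] at hA hB
  simp only [Finset.mem_erase, Finset.mem_filter, Finset.mem_univ, true_and] at hA hB
  exact ⟨A, B, hA.2, hB.2, hA.1, hB.1, hAB⟩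

theorem third {T : Ln} {p q : P} (hp : p ∈ inc T) (hq : q ∈ inc T) (hpq : p ≠ q) :
    ∃ r, r ∈ inc T ∧ r ≠ p ∧ r ≠ q ∧ ∀ x ∈ inc T, x = p ∨ x = q ∨ x = r := by
  obtain ⟨r, hr, hrn⟩ := Finset.exists_mem_notMem_of_card_lt_card
    (show ({p, q} : Finset P).card < (inc T).card by rw [h.card3, Finset.card_pair hpq]; norm_num)
  simp only [Finset.mem_insert, Finset.mem_singleton, not_or] at hrn
  refine ⟨r, hr, hrn.1, hrn.2, fun x hx => ?_⟩
  have e : ({p, q, r} : Finset P) = inc T := Finset.eq_of_subset_of_card_le (fun y hy => by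
      simp only [Finset.mem_insert, Finset.mem_singleton] at hy
      rcases hy with rfl | rfl | rfl <;> assumption)
    (by rw [h.card3, Finset.card_eq_three.2 ⟨p, q, r, hpq, fun e => hrn.1 e.symm, fun e => hrn.2 e.symm, rfl⟩])
  rw [← e] at hx
  simpa using hx

theorem second {T : Ln} {p : P} (hp : p ∈ inc T) : ∃ q, q ∈ inc T ∧ q ≠ p := by
  obtain ⟨q, hq, hqp⟩ := Finset.exists_mem_ne (show 1 < (inc T).card by rw [h.card3]; norm_num) p
  exact ⟨q, hq, hqp⟩

/-- The points of a line through a point of `l`, other than that point, are off `l`. -/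
theorem off {l T : Ln} {a p : P} (al : a ∈ inc l) (aT : a ∈ inc T) (hT : T ≠ l) (pT : p ∈ inc T) (pa : p ≠ a) :
    p ∉ inc l := fun pl => hT (h.share p a T l pa pT aT pl al)

/-- A line through such a point, other than its line to `l`, misses `l`. -/
theorem out {l T L : Ln} {a p : P} (al : a ∈ inc l) (aT : a ∈ inc T) (hT : T ≠ l) (pT : p ∈ inc T) (pa : p ≠ a)
    (pL : p ∈ inc L) (hL : L ≠ T) : ∀ q ∈ inc L, q ∉ inc l := fun q qL ql =>
  hL (h.uniq p l L T q a (h.off al aT hT pT pa) pL qL ql pT aT al)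

theorem sep {l A B : Ln} {a b p q : P} (al : a ∈ inc l) (bl : b ∈ inc l) (aA : a ∈ inc A) (bB : b ∈ inc B)
    (hA : A ≠ l) (ab : a ≠ b) (pA : p ∈ inc A) (pa : p ≠ a) (qB : q ∈ inc B) : p ≠ q := by
  rintro rfl
  have hB : B = A := h.uniq p l B A b a (h.off al aA hA pA pa) qB bB bl pA aA al
  subst hB
  exact hA (h.share a b B l ab aA bB al bl)

/-- The line from a point over `a` to a line over `b`. -/
theorem cross {l A B : Ln} {a b p : P} (al : a ∈ inc l) (bl : b ∈ inc l) (aA : a ∈ inc A) (bB : b ∈ inc B)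
    (hA : A ≠ l) (hB : B ≠ l) (ab : a ≠ b) (pA : p ∈ inc A) (pa : p ≠ a) :
    ∃ L q, p ∈ inc L ∧ q ∈ inc L ∧ q ∈ inc B ∧ q ≠ b ∧ L ≠ A := by
  have pB : p ∉ inc B := fun pB => h.sep al bl aA bB hA ab pA pa pB rfl
  obtain ⟨L, q, pL, qL, qB⟩ := h.proj p B pB
  have qb : q ≠ b := by
    rintro rfl
    have hL : L = A := h.uniq p l L A q a (h.off al aA hA pA pa) pL qL bl pA aA al
    subst hL
    exact hA (h.share a q L l ab aA qL al bl)
  refine ⟨L, q, pL, qL, qB, qb, ?_⟩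
  rintro rfl
  exact h.sep bl al bB aA hB ab.symm qB qb qL rfl

/-- A line missing `l` meets a line over each point of `l`. -/
theorem foot {l U : Ln} {a : P} (al : a ∈ inc l) (hU : ∀ q ∈ inc U, q ∉ inc l) :
    ∃ A q, a ∈ inc A ∧ A ≠ l ∧ q ∈ inc U ∧ q ∈ inc A ∧ q ≠ a := by
  obtain ⟨A, q, aA, qA, qU⟩ := h.proj a U fun aU => hU a aU al
  exact ⟨A, q, aA, fun e => hU q qU (e ▸ qA), qU, qA, fun e => hU q qU (e ▸ al)⟩

theorem labels (hP : Fintype.card P = 15) (hLn : Fintype.card Ln = 15) :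
    ∃ (f : Fin 15 → P) (g : Fin 15 → Ln), Function.Bijective f ∧ Function.Bijective g ∧
      ∀ i, inc (g i) = (triB i).image f := by
  classical
  obtain ⟨l⟩ : Nonempty Ln := Fintype.card_pos_iff.1 (by omega)
  obtain ⟨a, b, c, hab, hac, hbc, hl⟩ := Finset.card_eq_three.1 (h.card3 l)
  have al : a ∈ inc l := by simp [hl]
  have bl : b ∈ inc l := by simp [hl]
  have cl : c ∈ inc l := by simp [hl]
  obtain ⟨A0, A1, aA0, aA1, hA0, hA1, hA01⟩ := h.other_lines al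
  obtain ⟨x00, x00A, x00a⟩ := h.second aA0
  obtain ⟨x01, x01A, x01a, x0101, hA0pts⟩ := h.third aA0 x00A x00a.symm
  obtain ⟨U0, U1, xU0, xU1, hU0, hU1, hU01⟩ := h.other_lines x00A
  have oU0 := h.out al aA0 hA0 x00A x00a xU0 hU0
  have oU1 := h.out al aA0 hA0 x00A x00a xU1 hU1
  obtain ⟨B0, y00, bB0, hB0, yU0, yB0, y00b⟩ := h.foot bl oU0
  obtain ⟨B1, y10, bB1, hB1, yU1, yB1, y10b⟩ := h.foot bl oU1
  obtain ⟨C0, z00, cC0, hC0, zU0, zC0, z00c⟩ := h.foot cl oU0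
  obtain ⟨C1, z10, cC1, hC1, zU1, zC1, z10c⟩ := h.foot cl oU1
  obtain ⟨y01, y01B, y01b, y0101, hB0pts⟩ := h.third bB0 yB0 y00b.symm
  obtain ⟨y11, y11B, y11b, y1111, hB1pts⟩ := h.third bB1 yB1 y10b.symm
  obtain ⟨z01, z01C, z01c, z0101, hC0pts⟩ := h.third cC0 zC0 z00c.symm
  obtain ⟨z11, z11C, z11c, z1111, hC1pts⟩ := h.third cC1 zC1 z10c.symm
  have sAB := fun {A B : Ln} {p q : P} (aA : a ∈ inc A) (bB : b ∈ inc B) (hA : A ≠ l) => h.sep (p := p) (q := q) al bl aA bB hA hab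
  have sAC := fun {A B : Ln} {p q : P} (aA : a ∈ inc A) (cB : c ∈ inc B) (hA : A ≠ l) => h.sep (p := p) (q := q) al cl aA cB hA hac
  have sBC := fun {A B : Ln} {p q : P} (bA : b ∈ inc A) (cB : c ∈ inc B) (hA : A ≠ l) => h.sep (p := p) (q := q) bl cl bA cB hA hbc
  have hB01 : B0 ≠ B1 := fun e =>
    hU01 (h.uniq x00 B0 U0 U1 y00 y10 (fun hx => sAB aA0 bB0 hA0 x00A x00a hx rfl) xU0 yU0 yB0 xU1 yU1 (e ▸ yB1))
  have hC01 : C0 ≠ C1 := fun e =>
    hU01 (h.uniq x00 C0 U0 U1 z00 z10 (fun hx => sAC aA0 cC0 hA0 x00A x00a hx rfl) xU0 zU0 zC0 xU1 zU1 (e ▸ zC1))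
  -- the two lines on x01
  obtain ⟨L1, q1, xL1, qL1, qB0, qb0, hL1⟩ := h.cross al bl aA0 bB0 hA0 hB0 hab x01A x01a
  obtain ⟨L2, q2, xL2, qL2, qB1, qb1, hL2⟩ := h.cross al bl aA0 bB1 hA0 hB1 hab x01A x01a
  have x00L1 : x00 ∉ inc L1 := fun e => hL1 (h.share x00 x01 L1 A0 x0101.symm e xL1 x00A x01A)
  have x00L2 : x00 ∉ inc L2 := fun e => hL2 (h.share x00 x01 L2 A0 x0101.symm e xL2 x00A x01A)
  have e1 : q1 = y01 := by
    rcases hB0pts q1 qB0 with e | e | e
    · exact absurd e qb0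
    · exact absurd (h.uniq x00 L1 A0 U0 x01 q1 x00L1 x00A x01A xL1 xU0 (e ▸ yU0) qL1) hU0.symm
    · exact e
  subst e1
  have e2 : q2 = y11 := by
    rcases hB1pts q2 qB1 with e | e | e
    · exact absurd e qb1
    · exact absurd (h.uniq x00 L2 A0 U1 x01 q2 x00L2 x00A x01A xL2 xU1 (e ▸ yU1) qL2) hU1.symm
    · exact e
  subst e2
  have hL12 : L1 ≠ L2 := fun e => by
    have hyB : q1 ∉ inc B1 := fun hy => hB01 (h.share q1 b B0 B1 qb0 qB0 bB0 hy bB1)
    have := h.uniq q1 B1 L1 B0 q2 b hyB qL1 (e ▸ qL2) qB1 qB0 bB0 bB1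
    subst this
    exact sAB aA0 bB0 hA0 x01A x01a xL1 rfl
  -- lines from y00 and y10
  obtain ⟨K0, r0, yK0, rK0, rC1, rc1, hK0⟩ := h.cross bl cl bB0 cC1 hB0 hC1 hbc yB0 y00b
  obtain ⟨K1, r1, yK1, rK1, rC0, rc0, hK1⟩ := h.cross bl cl bB1 cC0 hB1 hC0 hbc yB1 y10b
  have x00y00 := sAB aA0 bB0 hA0 x00A x00a yB0
  have x00y10 := sAB aA0 bB1 hA0 x00A x00a yB1
  have x00z00 := sAC aA0 cC0 hA0 x00A x00a zC0
  have x00z10 := sAC aA0 cC1 hA0 x00A x00a zC1
  have hK0U0 : K0 ≠ U0 := fun e => by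
    subst e
    exact hU01 (h.uniq x00 C1 K0 U1 r0 z10 (fun hx => sAC aA0 cC1 hA0 x00A x00a hx rfl) xU0 rK0 rC1 xU1 zU1 zC1)
  have hK1U1 : K1 ≠ U1 := fun e => by
    subst e
    exact hU01 (h.uniq x00 C0 U0 K1 z00 r1 (fun hx => sAC aA0 cC0 hA0 x00A x00a hx rfl) xU0 zU0 zC0 xU1 rK1 rC0)
  have x00K0 : x00 ∉ inc K0 := fun e => hK0U0 (h.share x00 y00 K0 U0 x00y00 e yK0 xU0 yU0)
  have x00K1 : x00 ∉ inc K1 := fun e => hK1U1 (h.share x00 y10 K1 U1 x00y10 e yK1 xU1 yU1)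
  have e3 : r0 = z11 := by
    rcases hC1pts r0 rC1 with e | e | e
    · exact absurd e rc1
    · exact absurd (h.uniq x00 K0 U0 U1 y00 r0 x00K0 xU0 yU0 yK0 xU1 (e ▸ zU1) rK0) hU01
    · exact e
  subst e3
  have e4 : r1 = z01 := by
    rcases hC0pts r1 rC0 with e | e | e
    · exact absurd e rc0
    · exact absurd (h.uniq x00 K1 U1 U0 y10 r1 x00K1 xU1 yU1 yK1 xU0 (e ▸ zU0) rK1) hU01.symm
    · exact e
  subst e4
  obtain ⟨M0, s0, xM0, sM0, sC0, sc0, hM0⟩ := h.cross al cl aA0 cC0 hA0 hC0 hac x01A x01a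
  obtain ⟨M1, s1, xM1, sM1, sC1, sc1, hM1⟩ := h.cross al cl aA0 cC1 hA0 hC1 hac x01A x01a
  have x00M0 : x00 ∉ inc M0 := fun e => hM0 (h.share x00 x01 M0 A0 x0101.symm e xM0 x00A x01A)
  have x00M1 : x00 ∉ inc M1 := fun e => hM1 (h.share x00 x01 M1 A0 x0101.symm e xM1 x00A x01A)
  have e5 : s0 = r1 := by
    rcases hC0pts s0 sC0 with e | e | e
    · exact absurd e sc0
    · exact absurd (h.uniq x00 M0 A0 U0 x01 s0 x00M0 x00A x01A xM0 xU0 (e ▸ zU0) sM0) hU0.symm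
    · exact e
  subst e5
  have e6 : s1 = r0 := by
    rcases hC1pts s1 sC1 with e | e | e
    · exact absurd e sc1
    · exact absurd (h.uniq x00 M1 A0 U1 x01 s1 x00M1 x00A x01A xM1 xU1 (e ▸ zU1) sM1) hU1.symm
    · exact e
  subst e6
  have zL1 : s0 ∈ inc L1 := by
    rcases h.only3 x01A xL1 xL2 hL1.symm hL2.symm hL12 xM0 with e | e | e
    · exact absurd e hM0
    · exact e ▸ sM0
    · exfalso
      subst e
      refine hK1 (h.uniq y10 M0 K1 B1 s0 q2 (fun hy => ?_) yK1 rK1 sM0 yB1 qB1 qL2)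
      have := h.share y10 q2 M0 B1 y1111.symm hy qL2 yB1 qB1
      subst this
      exact sAB aA0 bB1 hA0 x01A x01a xM0 rfl
  have zL2 : s1 ∈ inc L2 := by
    rcases h.only3 x01A xL1 xL2 hL1.symm hL2.symm hL12 xM1 with e | e | e
    · exact absurd e hM1
    · exfalso
      subst e
      refine hK0 (h.uniq y00 M1 K0 B0 s1 q1 (fun hy => ?_) yK0 rK0 sM1 yB0 qB0 qL1)
      have := h.share y00 q1 M1 B0 y0101.symm hy qL1 yB0 qB0
      subst this
      exact sAB aA0 bB0 hA0 x01A x01a xM1 rfl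
    · exact e ▸ sM1
  -- the point x10
  have oK0 := h.out bl bB0 hB0 yB0 y00b yK0 hK0
  obtain ⟨A, x10, aA, hA, xK0, x10A, x10a⟩ := h.foot al oK0
  have hAA : A = A1 := by
    rcases h.only3 al aA0 aA1 hA0.symm hA1.symm hA01 aA with e | e | e
    · exact absurd e hA
    · exfalso
      subst e
      rcases hA0pts x10 x10A with e | e | e
      · exact x10a e
      · exact x00K0 (e ▸ xK0)
      · subst e
        rcases h.only3 x01A xL1 xL2 hL1.symm hL2.symm hL12 xK0 with e | e | e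
        · exact x00K0 (e ▸ x00A)
        · subst e
          have := h.share y00 q1 K0 B0 y0101.symm yK0 qL1 yB0 qB0
          exact hK0 this
        · subst e
          exact hK0 (h.uniq y00 B1 K0 B0 q2 b
            (fun hy => hB01 (h.share y00 b B0 B1 y00b yB0 bB0 hy bB1)) yK0 qL2 qB1 yB0 bB0 bB1)
    · exact e
  subst hAA
  obtain ⟨x11, x11A, x11a, x1110, hA1pts⟩ := h.third aA x10A x10a.symm
  have x10A0 : x10 ∉ inc A0 := fun e => hA01 (h.share x10 a A0 A x10a e aA0 x10A aA)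
  have x11A0 : x11 ∉ inc A0 := fun e => hA01 (h.share x11 a A0 A x11a e aA0 x11A aA)
  have hxU0 : ∀ p, p ∉ inc A0 → p ∈ inc A → p ≠ a → p ∉ inc U0 := fun p hp0 hpA hpa hpU => by
    exact hA01 (h.uniq a U0 A0 A x00 p (fun e => oU0 a e al) aA0 x00A xU0 aA hpA hpU)
  have hxU1 : ∀ p, p ∉ inc A0 → p ∈ inc A → p ≠ a → p ∉ inc U1 := fun p hp0 hpA hpa hpU => by
    exact hA01 (h.uniq a U1 A0 A x00 p (fun e => oU1 a e al) aA0 x00A xU1 aA hpA hpU)
  have xK1 : x10 ∈ inc K1 := by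
    obtain ⟨R, q, xR, qR, qB, qb, hR⟩ := h.cross al bl aA bB1 hA hB1 hab x10A x10a
    have hq : q = y10 := by
      rcases hB1pts q qB with e | e | e
      · exact absurd e qb
      · exact e
      · exfalso
        subst e
        have hx : x10 ∉ inc L2 := fun hx => hA01 (h.uniq a L2 A0 A x01 x10 (fun e =>
          h.out al aA0 hA0 x01A x01a xL2 hL2 a e al) aA0 x01A xL2 aA x10A hx)
        have := h.uniq x10 L2 K0 R s1 q hx xK0 rK0 zL2 xR qR qL2
        subst this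
        exact hK0 (h.uniq y00 B1 K0 B0 q b (fun hy => hB01 (h.share y00 b B0 B1 y00b yB0 bB0 hy bB1)) yK0 qR qB yB0 bB0 bB1)
    subst hq
    rcases h.only3 yB1 yU1 yK1 (fun e => oU1 b (e ▸ bB1) bl) hK1.symm hK1U1.symm qR with e | e | e
    · exact absurd rfl (sAB aA bB1 hA x10A x10a (e ▸ xR))
    · exact absurd (e ▸ xR) (hxU1 x10 x10A0 x10A x10a)
    · exact e ▸ xR
  -- the lines on x11
  obtain ⟨R2, q3, xR2, qR2, q3B, q3b, hR2⟩ := h.cross al bl aA bB0 hA hB0 hab x11A x11a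
  obtain ⟨R3, q4, xR3, qR3, q4B, q4b, hR3⟩ := h.cross al bl aA bB1 hA hB1 hab x11A x11a
  have e7 : q3 = q1 := by
    rcases hB0pts q3 q3B with e | e | e
    · exact absurd e q3b
    · exfalso
      subst e
      rcases h.only3 yB0 yU0 yK0 (fun e => oU0 b (e ▸ bB0) bl) hK0.symm hK0U0.symm qR2 with e | e | e
      · exact sAB aA bB0 hA x11A x11a (e ▸ xR2) rfl
      · exact hxU0 x11 x11A0 x11A x11a (e ▸ xR2)
      · exact hR2 (h.share x11 x10 R2 A x1110 xR2 (e ▸ xK0) x11A x10A)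
    · exact e
  subst e7
  have e8 : q4 = q2 := by
    rcases hB1pts q4 q4B with e | e | e
    · exact absurd e q4b
    · exfalso
      subst e
      rcases h.only3 yB1 yU1 yK1 (fun e => oU1 b (e ▸ bB1) bl) hK1.symm hK1U1.symm qR3 with e | e | e
      · exact sAB aA bB1 hA x11A x11a (e ▸ xR3) rfl
      · exact hxU1 x11 x11A0 x11A x11a (e ▸ xR3)
      · exact hR3 (h.share x11 x10 R3 A x1110 xR3 (e ▸ xK1) x11A x10A)
    · exact e
  subst e8
  have hR23 : R2 ≠ R3 := fun e => by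
    have hyB : q3 ∉ inc B1 := fun hy => hB01 (h.share q3 b B0 B1 q3b q3B bB0 hy bB1)
    have := h.uniq q3 B1 R2 B0 q4 b hyB qR2 (e ▸ qR3) q4B q3B bB0 bB1
    subst this
    exact sAB aA bB0 hA x11A x11a xR2 rfl
  obtain ⟨N0, t0, xN0, tN0, tC0, tc0, hN0⟩ := h.cross al cl aA cC0 hA hC0 hac x11A x11a
  obtain ⟨N1, t1, xN1, tN1, tC1, tc1, hN1⟩ := h.cross al cl aA cC1 hA hC1 hac x11A x11a
  have hK0C1 : C1 ≠ K0 := fun e => oK0 c (e ▸ cC1) cl
  have hL2C1 : C1 ≠ L2 := fun e => h.out al aA0 hA0 x01A x01a xL2 hL2 c (e ▸ cC1) cl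
  have hL1C0 : C0 ≠ L1 := fun e => h.out al aA0 hA0 x01A x01a xL1 hL1 c (e ▸ cC0) cl
  have hK1C0 : C0 ≠ K1 := fun e => h.out bl bB1 hB1 yB1 y10b yK1 hK1 c (e ▸ cC0) cl
  have hx11L : ∀ L, L ≠ A0 → x01 ∈ inc L → x11 ∉ inc L := fun L hL xL hx =>
    hA01 (h.uniq a L A0 A x01 x11 (fun e => h.out al aA0 hA0 x01A x01a xL hL a e al) aA0 x01A xL aA x11A hx)
  have e9 : t1 = z10 := by
    rcases hC1pts t1 tC1 with e | e | e
    · exact absurd e tc1
    · exact e
    · exfalso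
      subst e
      have hKL : K0 ≠ L2 := fun e => by
        exact hA01 (h.uniq a K0 A0 A x01 x10 (fun e => oK0 a e al) aA0 x01A (e.symm ▸ xL2) aA x10A xK0)
      rcases h.only3 tC1 rK0 zL2 hK0C1 hL2C1 hKL tN1 with e | e | e
      · exact sAC aA cC1 hA x11A x11a (e ▸ xN1) rfl
      · exact hN1 (h.share x11 x10 N1 A x1110 xN1 (e ▸ xK0) x11A x10A)
      · exact hx11L L2 hL2 xL2 (e ▸ xN1)
  subst e9
  have e10 : t0 = z00 := by
    rcases hC0pts t0 tC0 with e | e | e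
    · exact absurd e tc0
    · exact e
    · exfalso
      subst e
      have hKL : K1 ≠ L1 := fun e => by
        exact hA01 (h.uniq a K1 A0 A x01 x10 (fun e => h.out bl bB1 hB1 yB1 y10b yK1 hK1 a e al) aA0 x01A
          (e.symm ▸ xL1) aA x10A xK1)
      rcases h.only3 tC0 rK1 zL1 hK1C0 hL1C0 hKL tN0 with e | e | e
      · exact sAC aA cC0 hA x11A x11a (e ▸ xN0) rfl
      · exact hN0 (h.share x11 x10 N0 A x1110 xN0 (e ▸ xK1) x11A x10A)
      · exact hx11L L1 hL1 xL1 (e ▸ xN0)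
  subst e10
  have zR2 : t1 ∈ inc R2 := by
    rcases h.only3 x11A xR2 xR3 hR2.symm hR3.symm hR23 xN1 with e | e | e
    · exact absurd e hN1
    · exact e ▸ tN1
    · exfalso
      subst e
      refine oU1 b ?_ bl
      have := h.uniq y10 N1 U1 B1 t1 q4 (fun hy => ?_) yU1 zU1 tN1 yB1 q4B qR3
      · exact this ▸ bB1
      · have := h.share y10 q4 N1 B1 y1111.symm hy qR3 yB1 q4B
        subst this
        exact sAB aA bB1 hA x11A x11a xN1 rfl
  have zR3 : t0 ∈ inc R3 := by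
    rcases h.only3 x11A xR2 xR3 hR2.symm hR3.symm hR23 xN0 with e | e | e
    · exact absurd e hN0
    · exfalso
      subst e
      refine oU0 b ?_ bl
      have := h.uniq y00 N0 U0 B0 t0 q3 (fun hy => ?_) yU0 zU0 tN0 yB0 q3B qR2
      · exact this ▸ bB0
      · have := h.share y00 q3 N0 B0 y0101.symm hy qR2 yB0 q3B
        subst this
        exact sAB aA bB0 hA x11A x11a xN0 rfl
    · exact e ▸ tN0
  -- assemble
  let f : Fin 15 → P := ![a, b, c, x00, x01, x10, x11, y00, q3, y10, q4, t0, s0, t1, s1]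
  let g : Fin 15 → Ln := ![l, A0, A, B0, B1, C0, C1, U0, U1, L1, L2, K0, K1, R2, R3]
  have hsurj : Function.Surjective f := by
    intro p
    by_cases hp : p ∈ inc l
    · rw [hl] at hp
      simp only [Finset.mem_insert, Finset.mem_singleton] at hp
      rcases hp with rfl | rfl | rfl
      exacts [⟨0, rfl⟩, ⟨1, rfl⟩, ⟨2, rfl⟩]
    · obtain ⟨T, q, pT, qT, ql⟩ := h.proj p l hp
      have hTl : T ≠ l := fun e => hp (e ▸ pT)
      rw [hl] at ql
      simp only [Finset.mem_insert, Finset.mem_singleton] at ql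
      rcases ql with rfl | rfl | rfl
      · rcases h.only3 al aA0 aA hA0.symm hA.symm hA01 qT with e | e | e
        · exact absurd e hTl
        · rcases hA0pts p (e ▸ pT) with rfl | rfl | rfl
          exacts [absurd al hp, ⟨3, rfl⟩, ⟨4, rfl⟩]
        · rcases hA1pts p (e ▸ pT) with rfl | rfl | rfl
          exacts [absurd al hp, ⟨5, rfl⟩, ⟨6, rfl⟩]
      · rcases h.only3 bl bB0 bB1 hB0.symm hB1.symm hB01 qT with e | e | e
        · exact absurd e hTl
        · rcases hB0pts p (e ▸ pT) with rfl | rfl | rfl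
          exacts [absurd bl hp, ⟨7, rfl⟩, ⟨8, rfl⟩]
        · rcases hB1pts p (e ▸ pT) with rfl | rfl | rfl
          exacts [absurd bl hp, ⟨9, rfl⟩, ⟨10, rfl⟩]
      · rcases h.only3 cl cC0 cC1 hC0.symm hC1.symm hC01 qT with e | e | e
        · exact absurd e hTl
        · rcases hC0pts p (e ▸ pT) with rfl | rfl | rfl
          exacts [absurd cl hp, ⟨11, rfl⟩, ⟨12, rfl⟩]
        · rcases hC1pts p (e ▸ pT) with rfl | rfl | rfl
          exacts [absurd cl hp, ⟨13, rfl⟩, ⟨14, rfl⟩]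
  have hf : Function.Bijective f :=
    (Fintype.bijective_iff_surjective_and_card f).2 ⟨hsurj, by simp [hP]⟩
  have himg : ∀ i, inc (g i) = (triB i).image f := by
    intro i
    refine (Finset.eq_of_subset_of_card_le ?_ ?_).symm
    · intro p hp
      obtain ⟨j, hj, rfl⟩ := Finset.mem_image.1 hp
      fin_cases i <;> simp [triB] at hj <;> rcases hj with rfl | rfl | rfl <;> simp [f, g, *]
    · rw [h.card3, Finset.card_image_of_injective _ hf.1, triB_card]
  refine ⟨f, g, hf, (Fintype.bijective_iff_injective_and_card g).2 ⟨fun i j hij => ?_, by simp [hLn]⟩, himg⟩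
  apply triB_inj
  apply Finset.image_injective hf.1
  show (triB i).image f = (triB j).image f
  rw [← himg, ← himg, hij]

end GQTwo

end Cfsg.Agent.Steiner.SRG77
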