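import Cfsg.Agent.Lib.Steiner.SRG77Local
import Cfsg.Agent.Lib.Steiner.SRG77GQ

/-!
A strongly regular graph with parameters (77, 16, 0, 4) is isomorphic to one explicit model built from
the generalized quadrangle of order two.
-/

set_option autoImplicit false
set_option maxHeartbeats 1600000

namespace Cfsg.Agent.Steiner.SRG77

/-- Indices of the sixty blocks. -/
abbrev Blk : Type := Fin 15 ⊕ {p : Fin 15 × Fin 15 // p.1 < p.2 ∧ (triB p.1 ∩ triB p.2).Nonempty}

/-- The points of a block of the model. -/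
def bs : Blk → Finset (Option (Fin 15))
  | .inl i => insert none ((triB i).image some)
  | .inr p => ((triB p.1.1 ∪ triB p.1.2) \ (triB p.1.1 ∩ triB p.1.2)).image some

/-- The parallel class of a block of the model. -/
def cls : Blk → Finset (Fin 15)
  | .inl i => {i}
  | .inr p => Finset.univ.filter fun k => k ≠ p.1.1 ∧ k ≠ p.1.2 ∧ triB p.1.1 ∩ triB p.1.2 ⊆ triB k

/-- The vertices of the model. -/
abbrev Mod : Type := Option (Option (Fin 15) ⊕ Blk)

/-- Adjacency in the model. -/
def MAdj : Mod → Mod → Prop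
  | none, some (.inl _) => True
  | some (.inl _), none => True
  | some (.inl p), some (.inr x) => p ∈ bs x
  | some (.inr x), some (.inl p) => p ∈ bs x
  | some (.inr x), some (.inr y) => Disjoint (bs x) (bs y) ∧ cls x ≠ cls y
  | _, _ => False

theorem card_blk_model : Fintype.card Blk = 60 := by decide +kernel

theorem tri_facts : ∀ i j : Fin 15, i ≠ j → (triB i ∩ triB j).card ≤ 1 ∧
    ((triB i ∩ triB j).Nonempty → ((triB i ∪ triB j) \ (triB i ∩ triB j)).card = 4 ∧
      (Finset.univ.filter fun k => k ≠ i ∧ k ≠ j ∧ triB i ∩ triB j ⊆ triB k).card = 1) := by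
  decide +kernel

variable {V : Type*} [Fintype V] [DecidableEq V] {G : SimpleGraph V} [DecidableRel G.Adj]

local notation "nb" => G.neighborFinset

variable (hG : G.IsSRGWith 77 16 0 4)
include hG

variable {o a0 : V}

/-- The quadrangle at a point `a0` of the neighbourhood of `o`. -/
theorem gq_at (h0 : G.Adj o a0) :
    GQTwo (P := {p // p ∈ (nb o).erase a0}) (Ln := {z // z ∈ (nb a0).erase o})
      fun T => Finset.univ.filter fun p => G.Adj T.1 p.1 := by
  have hT : ∀ T : {z // z ∈ (nb a0).erase o}, Far G o T.1 ∧ G.Adj T.1 a0 := fun T => by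
    obtain ⟨h1, h2⟩ := Finset.mem_erase.1 T.2
    rw [G.mem_neighborFinset] at h2
    exact ⟨far_of_adj hG h0 h2 h1, h2.symm⟩
  have hp : ∀ p : {p // p ∈ (nb o).erase a0}, G.Adj o p.1 ∧ p.1 ≠ a0 := fun p => by
    obtain ⟨h1, h2⟩ := Finset.mem_erase.1 p.2
    exact ⟨(G.mem_neighborFinset _ _).1 h2, h1⟩
  refine ⟨fun T => ?_, fun p => ?_, ?_, ?_, ?_⟩
  · rw [← Finset.card_map (Function.Embedding.subtype _)]
    have e : (Finset.univ.filter fun p : {p // p ∈ (nb o).erase a0} => G.Adj T.1 p.1).map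
        (Function.Embedding.subtype _) = (blk G o T.1).erase a0 := by
      ext c
      simp [blk]
      tauto
    rw [e, Finset.card_erase_of_mem (mem_blk.2 ⟨h0, (hT T).2⟩), card_blk hG (hT T).1]
  · rw [← Finset.card_map (Function.Embedding.subtype _)]
    obtain ⟨op, pa⟩ := hp p
    have e : (Finset.univ.filter fun T : {z // z ∈ (nb a0).erase o} =>
        p ∈ Finset.univ.filter fun q => G.Adj T.1 q.1).map (Function.Embedding.subtype _) =
        (nb a0 ∩ nb p.1).erase o := by
      ext c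
      simp [G.adj_comm c]
      tauto
    rw [e, Finset.card_erase_of_mem (by simp [h0.symm, op.symm]),
      card_mu hG pa.symm (no_tri hG h0 op)]
  · intro p q T T' hpq h1 h2 h3 h4
    simp only [Finset.mem_filter, Finset.mem_univ, true_and] at h1 h2 h3 h4
    by_contra hne
    exact not_three hG (hT T).1 (hT T').1 (fun e => hne (Subtype.ext e)) (hp p).2.symm (hp q).2.symm
      (fun e => hpq (Subtype.ext e)) h0 (hp p).1 (hp q).1 (hT T).2 h1 h2 (hT T').2 h3 h4
  · intro p T hpT
    simp only [Finset.mem_filter, Finset.mem_univ, true_and] at hpT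
    obtain ⟨z0, z1, hne, hK⟩ := Finset.card_eq_two.1 (kset_card hG (hT T).1 (hp p).1 hpT)
    have m0 : z0 ∈ kset G o T.1 p.1 := by simp [hK]
    have m1 : z1 ∈ kset G o T.1 p.1 := by simp [hK]
    have hcomp := kset_compl hG (hT T).1 (hp p).1 hpT m0 m1 hne
    obtain ⟨-, k0, -⟩ := mem_kset hG (hT T).1 (hp p).1 m0
    obtain ⟨-, k1, -⟩ := mem_kset hG (hT T).1 (hp p).1 m1
    have hu : (blk G o T.1 ∩ nb z0) ∪ (blk G o T.1 ∩ nb z1) = blk G o T.1 := by
      refine Finset.eq_of_subset_of_card_le (Finset.union_subset Finset.inter_subset_left Finset.inter_subset_left) ?_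
      rw [Finset.card_union_of_disjoint, k0, k1, card_blk hG (hT T).1]
      refine Finset.disjoint_left.2 fun c hc hc' => ?_
      simp only [Finset.mem_inter, mem_blk, G.mem_neighborFinset] at hc hc'
      exact hcomp c hc.1.1 hc.1.2 hc.2 hc'.2
    have key : ∀ z ∈ kset G o T.1 p.1, a0 ∈ blk G o T.1 ∩ nb z →
        ∃ (T' : {z // z ∈ (nb a0).erase o}) (q : {p // p ∈ (nb o).erase a0}),
          p ∈ (Finset.univ.filter fun x => G.Adj T'.1 x.1) ∧ q ∈ (Finset.univ.filter fun x => G.Adj T'.1 x.1) ∧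
          q ∈ Finset.univ.filter fun x => G.Adj T.1 x.1 := by
      intro z hz ha
      obtain ⟨hpz, k, fz, -, -⟩ := mem_kset hG (hT T).1 (hp p).1 hz
      obtain ⟨q, hq, hqa⟩ := Finset.exists_mem_ne (show 1 < (blk G o T.1 ∩ nb z).card by omega) a0
      simp only [Finset.mem_inter, mem_blk, G.mem_neighborFinset] at hq ha
      exact ⟨⟨z, by simp [fz.1, ha.2.symm]⟩, ⟨q, by simp [hqa, hq.1.1]⟩, by simp [hpz.symm, hq.2, hq.1.2]⟩
    have : a0 ∈ (blk G o T.1 ∩ nb z0) ∪ (blk G o T.1 ∩ nb z1) := by rw [hu]; exact mem_blk.2 ⟨h0, (hT T).2⟩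
    rcases Finset.mem_union.1 this with h | h
    exacts [key z0 m0 h, key z1 m1 h]
  · intro p T T1 T2 q1 q2 hpT p1 hq1 hq1T p2 hq2 hq2T
    simp only [Finset.mem_filter, Finset.mem_univ, true_and] at hpT p1 hq1 hq1T p2 hq2 hq2T
    have hk : ∀ (T' : {z // z ∈ (nb a0).erase o}) (q : {p // p ∈ (nb o).erase a0}),
        G.Adj T'.1 p.1 → G.Adj T'.1 q.1 → G.Adj T.1 q.1 → T'.1 ∈ kset G o T.1 p.1 := by
      intro T' q h1 h2 h3
      refine Finset.mem_filter.2 ⟨(G.mem_neighborFinset _ _).2 h1.symm, ?_⟩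
      have hne : T.1 ≠ T'.1 := fun e => hpT (e ▸ h1)
      refine le_antisymm (k_le_two hG (hT T).1 (hT T').1 hne) ?_
      refine le_trans (Finset.card_pair (hp q).2.symm).ge (Finset.card_le_card fun c hc => ?_)
      simp only [Finset.mem_insert, Finset.mem_singleton] at hc
      rcases hc with rfl | rfl
      · simp [mem_blk, h0, (hT T).2, (hT T').2]
      · simp [mem_blk, (hp q).1, h2, h3]
    by_contra hne
    exact kset_compl hG (hT T).1 (hp p).1 hpT (hk T1 q1 p1 hq1 hq1T) (hk T2 q2 p2 hq2 hq2T)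
      (fun e => hne (Subtype.ext e)) a0 h0 (hT T).2 (hT T1).2 (hT T2).2

/-- Isomorphism with the model. -/
theorem exists_model : ∃ e : V ≃ Mod, ∀ u v, G.Adj u v ↔ MAdj (e u) (e v) := by
  classical
  obtain ⟨o⟩ : Nonempty V := Fintype.card_pos_iff.1 (by rw [hG.card]; norm_num)
  obtain ⟨a0, ha0⟩ : (nb o).Nonempty := Finset.card_pos.1 (by rw [card_nb hG]; norm_num)
  rw [G.mem_neighborFinset] at ha0
  obtain ⟨f, g, hf, hg, hfg⟩ := (gq_at hG ha0).labels
    (by rw [Fintype.card_coe, Finset.card_erase_of_mem (by simpa using ha0), card_nb hG])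
    (by rw [Fintype.card_coe, Finset.card_erase_of_mem (by simpa using ha0.symm), card_nb hG])
  let pt : Option (Fin 15) → V := fun p => p.elim a0 fun i => (f i).1
  have hgm : ∀ i, Far G o (g i).1 ∧ G.Adj (g i).1 a0 := fun i => by
    obtain ⟨h1, h2⟩ := Finset.mem_erase.1 (g i).2
    rw [G.mem_neighborFinset] at h2
    exact ⟨far_of_adj hG ha0 h2 h1, h2.symm⟩
  have hfm : ∀ i, G.Adj o (f i).1 ∧ (f i).1 ≠ a0 := fun i => by
    obtain ⟨h1, h2⟩ := Finset.mem_erase.1 (f i).2
    exact ⟨(G.mem_neighborFinset _ _).1 h2, h1⟩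
  have ptinj : Function.Injective pt := by
    rintro (_ | i) (_ | j) h <;> simp only [pt, Option.elim] at h
    · rfl
    · exact absurd h.symm (hfm j).2
    · exact absurd h (hfm i).2
    · rw [hf.1 (Subtype.ext h)]
  have pto : ∀ p, G.Adj o (pt p) := by
    rintro (_ | i)
    exacts [ha0, (hfm i).1]
  have ptsurj : ∀ c, G.Adj o c → ∃ p, pt p = c := by
    intro c hc
    by_cases h : c = a0
    · exact ⟨none, h.symm⟩
    · obtain ⟨i, hi⟩ := hf.2 ⟨c, by simp [h, hc]⟩
      exact ⟨some i, by simp [pt, hi]⟩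
  have hinc : ∀ i j, G.Adj (g i).1 (f j).1 ↔ j ∈ triB i := fun i j => by
    have h : f j ∈ (triB i).image f ↔ j ∈ triB i := hf.1.mem_finset_image
    rw [← h, ← hfg]
    simp
  have hblkg : ∀ i, blk G o (g i).1 = (bs (.inl i)).image pt := by
    intro i
    ext c
    rw [mem_blk, Finset.mem_image]
    constructor
    · rintro ⟨oc, gc⟩
      obtain ⟨p, rfl⟩ := ptsurj c oc
      refine ⟨p, ?_, rfl⟩
      rcases p with _ | j
      · simp [bs]
      · simp only [bs, Finset.mem_insert, Finset.mem_image]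
        exact Or.inr ⟨j, (hinc i j).1 gc, rfl⟩
    · rintro ⟨p, hp, rfl⟩
      refine ⟨pto p, ?_⟩
      rcases p with _ | j
      · exact (hgm i).2
      · simp [bs] at hp
        exact (hinc i j).2 hp
  have hblk : ∀ z, Far G o z → ∃ x : Blk, blk G o z = (bs x).image pt ∧
      ∃ k, cls x = {k} ∧ (z = (g k).1 ∨ Par G o z (g k).1) := by
    intro z hz
    by_cases hza : G.Adj z a0
    · obtain ⟨i, hi⟩ := hg.2 ⟨z, by simp [hz.1, hza.symm]⟩
      have hzi : z = (g i).1 := by rw [hi]
      exact ⟨.inl i, hzi ▸ hblkg i, i, rfl, Or.inl hzi⟩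
    obtain ⟨z0, z1, hne, hK⟩ := Finset.card_eq_two.1 (kset_card hG hz ha0 hza)
    have hm : ∀ w ∈ kset G o z a0, ∃ i, (g i).1 = w := fun w hw => by
      obtain ⟨h1, -, h3, -, -⟩ := mem_kset hG hz ha0 hw
      obtain ⟨i, hi⟩ := hg.2 ⟨w, by simp [h3.1, h1]⟩
      exact ⟨i, by rw [hi]⟩
    obtain ⟨i, j, hlt, mi, mj⟩ : ∃ i j, i < j ∧ (g i).1 ∈ kset G o z a0 ∧ (g j).1 ∈ kset G o z a0 := by
      obtain ⟨i, rfl⟩ := hm z0 (by simp [hK])
      obtain ⟨j, rfl⟩ := hm z1 (by simp [hK])
      rcases lt_trichotomy i j with h | h | h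
      · exact ⟨i, j, h, by simp [hK], by simp [hK]⟩
      · exact absurd (by rw [h]) hne
      · exact ⟨j, i, h, by simp [hK], by simp [hK]⟩
    have hij : i ≠ j := hlt.ne
    have hne : (g i).1 ≠ (g j).1 := fun e => hij (hg.1 (Subtype.ext e))
    obtain ⟨u, ⟨au, hu⟩, -⟩ := par_unique hG hz ha0 hza
    obtain ⟨x, xa, ox, nzx, xi, xj, xu⟩ := kset_second hG hz ha0 hza mi mj hne hu au
    obtain ⟨p, rfl⟩ := ptsurj x ox
    rcases p with _ | m
    · exact absurd rfl xa
    obtain ⟨k, hk⟩ := hg.2 ⟨u, by simp [hu.2.1.1, au]⟩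
    have hku : (g k).1 = u := by rw [hk]
    subst hku
    have mI : m ∈ triB i := (hinc i m).1 xi
    have mJ : m ∈ triB j := (hinc j m).1 xj
    have mK : m ∈ triB k := (hinc k m).1 xu
    obtain ⟨h1, h2⟩ := tri_facts i j hij
    have hne' : (triB i ∩ triB j).Nonempty := ⟨m, Finset.mem_inter.2 ⟨mI, mJ⟩⟩
    obtain ⟨h4, h5⟩ := h2 hne'
    have hint : triB i ∩ triB j = {m} :=
      (Finset.eq_of_subset_of_card_le (Finset.singleton_subset_iff.2 (Finset.mem_inter.2 ⟨mI, mJ⟩))
        (by rw [Finset.card_singleton]; exact h1)).symm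
    refine ⟨.inr ⟨(i, j), hlt, hne'⟩, ?_, k, ?_, Or.inr hu⟩
    · refine (Finset.eq_of_subset_of_card_le ?_ ?_).symm
      · have key : ∀ l, (g l).1 ∈ kset G o z a0 → G.Adj (g l).1 (f m).1 →
            ∀ q ∈ triB l, q ≠ m → G.Adj z (f q).1 := by
          intro l ml gm q hq hqm
          by_contra hzq
          obtain ⟨-, k2, -⟩ := mem_kset hG hz ha0 ml
          rw [blk_comm] at k2
          have h6 := Finset.card_sdiff_add_card_inter (blk G o (g l).1) (nb z)
          rw [k2, card_blk hG (hgm l).1] at h6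
          have e : ({a0, (f m).1, (f q).1} : Finset V) ⊆ blk G o (g l).1 \ nb z := by
            intro c hc
            simp only [Finset.mem_insert, Finset.mem_singleton] at hc
            simp only [Finset.mem_sdiff, mem_blk, G.mem_neighborFinset]
            rcases hc with rfl | rfl | rfl
            exacts [⟨⟨ha0, (hgm l).2⟩, hza⟩, ⟨⟨(hfm m).1, gm⟩, nzx⟩, ⟨⟨(hfm q).1, (hinc l q).2 hq⟩, hzq⟩]
          have := Finset.card_le_card e
          rw [Finset.card_eq_three.2 ⟨a0, (f m).1, (f q).1, (hfm m).2.symm, (hfm q).2.symm,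
            fun e => hqm (hf.1 (Subtype.ext e)).symm, rfl⟩] at this
          omega
        intro c hc
        simp only [bs, Finset.mem_image, Finset.mem_sdiff, Finset.mem_union, hint, Finset.mem_singleton] at hc
        obtain ⟨p, ⟨q, ⟨hq, hqm⟩, rfl⟩, rfl⟩ := hc
        refine mem_blk.2 ⟨pto _, ?_⟩
        rcases hq with hq | hq
        exacts [key i mi xi q hq hqm, key j mj xj q hq hqm]
      · rw [card_blk hG hz, Finset.card_image_of_injective _ ptinj]
        simp only [bs]
        rw [Finset.card_image_of_injective _ (Option.some_injective _), h4]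
    · have hkm : k ∈ Finset.univ.filter fun k => k ≠ i ∧ k ≠ j ∧ triB i ∩ triB j ⊆ triB k := by
        have hki : ∀ l, (g l).1 ∈ kset G o z a0 → k ≠ l := by
          rintro l ml rfl
          obtain ⟨-, k2, -⟩ := mem_kset hG hz ha0 ml
          obtain ⟨c, hc⟩ := Finset.card_pos.1 (show 0 < (blk G o z ∩ nb (g k).1).card by omega)
          simp only [Finset.mem_inter, mem_blk, G.mem_neighborFinset] at hc
          exact hu.2.2.2.2 c hc.1.1 hc.1.2 hc.2
        simp [hki i mi, hki j mj, hint, mK]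
      obtain ⟨k', hk'⟩ := Finset.card_eq_one.1 h5
      rw [hk'] at hkm
      show (Finset.univ.filter fun k => k ≠ i ∧ k ≠ j ∧ triB i ∩ triB j ⊆ triB k) = {k}
      rw [hk', Finset.mem_singleton.1 hkm]
  choose bx hbx kx hkx hrep using hblk
  choose px hpx using ptsurj
  let φ : V → Mod := fun v =>
    if h : v = o then none else if h' : G.Adj o v then some (.inl (px v h')) else some (.inr (bx v ⟨h, h'⟩))
  have φo : φ o = none := dif_pos rfl
  have φn : ∀ v (h : G.Adj o v), φ v = some (.inl (px v h)) := fun v h => by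
    simp [φ, h.ne', h]
  have φf : ∀ v (h : Far G o v), φ v = some (.inr (bx v h)) := fun v h => by
    simp [φ, h.1, h.2]
  have hcases : ∀ v, v = o ∨ G.Adj o v ∨ Far G o v := fun v => by
    by_cases h : v = o
    · exact Or.inl h
    · by_cases h' : G.Adj o v
      exacts [Or.inr (Or.inl h'), Or.inr (Or.inr ⟨h, h'⟩)]
  have φinj : Function.Injective φ := by
    intro u v h
    rcases hcases u with rfl | hu | hu <;> rcases hcases v with hv' | hv | hv
    · exact hv'.symm
    · rw [φo, φn v hv] at h; exact absurd h (Option.some_ne_none _).symm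
    · rw [φo, φf v hv] at h; exact absurd h (Option.some_ne_none _).symm
    · subst hv'; rw [φo, φn u hu] at h; exact absurd h (Option.some_ne_none _)
    · rw [φn u hu, φn v hv] at h
      rw [← hpx u hu, ← hpx v hv, Sum.inl_injective (Option.some_injective _ h)]
    · rw [φn u hu, φf v hv] at h; exact absurd (Option.some_injective _ h) (by simp)
    · subst hv'; rw [φo, φf u hu] at h; exact absurd h (Option.some_ne_none _)
    · rw [φf u hu, φn v hv] at h; exact absurd (Option.some_injective _ h) (by simp)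
    · rw [φf u hu, φf v hv] at h
      by_contra hne
      have h2 := k_le_two hG hu hv hne
      have e : blk G o u = blk G o v := by
        rw [hbx u hu, hbx v hv, Sum.inr_injective (Option.some_injective _ h)]
      rw [e, Finset.inter_eq_left.2 (fun c hc => (G.mem_neighborFinset _ _).2 (mem_blk.1 hc).2),
        card_blk hG hv] at h2
      omega
  have hcard : Fintype.card V = Fintype.card Mod := by
    rw [hG.card]
    rw [Fintype.card_option, Fintype.card_sum, Fintype.card_option, Fintype.card_fin, card_blk_model]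
  have φbij : Function.Bijective φ := (Fintype.bijective_iff_injective_and_card φ).2 ⟨φinj, hcard⟩
  refine ⟨Equiv.ofBijective φ φbij, fun u v => ?_⟩
  show G.Adj u v ↔ MAdj (φ u) (φ v)
  have hmem : ∀ p c (hp : G.Adj o p) (hc : Far G o c), px p hp ∈ bs (bx c hc) ↔ G.Adj c p := by
    intro p c hp hc
    rw [← ptinj.mem_finset_image, ← hbx c hc, hpx p hp, mem_blk]
    exact and_iff_right hp
  rcases hcases u with rfl | hu | hu <;> rcases hcases v with hv' | hv | hv
  · subst hv'; rw [φo]; exact iff_of_false (G.loopless.irrefl _) id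
  · rw [φo, φn v hv]; exact iff_of_true hv trivial
  · rw [φo, φf v hv]; exact iff_of_false hv.2 id
  · subst hv'; rw [φo, φn u hu]; exact iff_of_true hu.symm trivial
  · rw [φn u hu, φn v hv]; exact iff_of_false (no_tri hG hu hv) id
  · rw [φn u hu, φf v hv, G.adj_comm]; exact (hmem u v hu hv).symm
  · subst hv'; rw [φo, φf u hu]; exact iff_of_false (fun h => hu.2 h.symm) id
  · rw [φf u hu, φn v hv]; exact (hmem v u hv hu).symm
  · rw [φf u hu, φf v hv]
    show G.Adj u v ↔ Disjoint (bs (bx u hu)) (bs (bx v hv)) ∧ cls (bx u hu) ≠ cls (bx v hv)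
    rw [← Finset.disjoint_image ptinj, ← hbx u hu, ← hbx v hv, hkx u hu, hkx v hv, ne_eq,
      Finset.singleton_inj]
    have hsym : ∀ {a b : V}, (a = b ∨ Par G o a b) → (b = a ∨ Par G o b a) := fun h =>
      h.imp Eq.symm Par.symm
    have htr : ∀ {a b c : V}, (a = b ∨ Par G o a b) → (b = c ∨ Par G o b c) → (a = c ∨ Par G o a c) := by
      rintro a b c (rfl | hab) (rfl | hbc)
      · exact Or.inl rfl
      · exact Or.inr hbc
      · exact Or.inr hab
      · by_cases hac : a = c
        exacts [Or.inl hac, Or.inr (par_trans hG hab.symm hbc hac)]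
    constructor
    · intro h
      refine ⟨Finset.disjoint_left.2 fun c h1 h2 =>
        no_tri hG (mem_blk.1 h1).2.symm (mem_blk.1 h2).2.symm h, fun he => ?_⟩
      rcases htr (hrep u hu) (he ▸ hsym (hrep v hv)) with rfl | hp
      exacts [G.loopless.irrefl _ h, hp.2.2.2.1 h]
    · rintro ⟨hd, hk⟩
      by_contra hn
      have hne : u ≠ v := by
        rintro rfl
        have := card_blk hG hu
        simp [disjoint_self.1 hd] at this
      have hp : Par G o u v := ⟨hu, hv, hne, hn, fun c oc uc vc =>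
        Finset.disjoint_left.1 hd (mem_blk.2 ⟨oc, uc⟩) (mem_blk.2 ⟨oc, vc⟩)⟩
      rcases htr (htr (hsym (hrep u hu)) (Or.inr hp)) (hrep v hv) with e | e
      · exact hk (hg.1 (Subtype.ext e))
      · exact e.2.2.2.2 a0 ha0 (hgm _).2 (hgm _).2

end Cfsg.Agent.Steiner.SRG77
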