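import Cfsg.Agent.Lib.Steiner.SRG77Base

/-!
Local structure of a strongly regular graph with parameters (77, 16, 0, 4) at a vertex `o`:
the 60 far vertices give blocks of size four on the 16 neighbours, falling into parallel classes.
-/

set_option autoImplicit false
set_option maxHeartbeats 1600000

namespace Cfsg.Agent.Steiner.SRG77

variable {V : Type*} [Fintype V] [DecidableEq V] {G : SimpleGraph V} [DecidableRel G.Adj]

local notation "nb" => G.neighborFinset

/-- The block of `y` among the neighbours of `o`. -/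
def blk (G : SimpleGraph V) [DecidableRel G.Adj] (o y : V) : Finset V :=
  G.neighborFinset o ∩ G.neighborFinset y

/-- At distance two from `o`. -/
abbrev Far (G : SimpleGraph V) (o y : V) : Prop := y ≠ o ∧ ¬ G.Adj o y

/-- Parallel blocks: distinct nonadjacent far vertices with no common neighbour adjacent to `o`. -/
def Par (G : SimpleGraph V) (o y z : V) : Prop :=
  Far G o y ∧ Far G o z ∧ y ≠ z ∧ ¬ G.Adj y z ∧ ∀ c, G.Adj o c → G.Adj y c → ¬ G.Adj z c

theorem mem_blk {o y c : V} : c ∈ blk G o y ↔ G.Adj o c ∧ G.Adj y c := by simp [blk]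

theorem blk_comm {o y z : V} : blk G o y ∩ nb z = blk G o z ∩ nb y := by
  ext c; simp [blk]; tauto

theorem ecount_comm (S T : Finset V) : ecount G S T = ecount G T S := by
  simp only [ecount, Finset.inter_comm _ (nb _)]
  have h : ∀ (A : Finset V) (u : V), (nb u ∩ A).card = ∑ v ∈ A, if G.Adj u v then 1 else 0 := fun A u => by
    rw [← Finset.card_filter]; congr 1; ext v; simp [and_comm]
  simp only [h]
  rw [Finset.sum_comm]
  simp [G.adj_comm]

theorem ecount_zero {S T : Finset V} (h : ∀ u ∈ S, ∀ v ∈ T, ¬ G.Adj u v) : ecount G S T = 0 := by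
  refine Finset.sum_eq_zero fun u hu => ?_
  rw [Finset.card_eq_zero, Finset.eq_empty_iff_forall_notMem]
  intro v hv
  simp only [Finset.mem_inter, G.mem_neighborFinset] at hv
  exact h u hu v hv.1 hv.2

theorem ecount_full {S T : Finset V} (h : ∀ u ∈ S, ∀ v ∈ T, G.Adj u v) : ecount G S T = S.card * T.card := by
  rw [ecount, Finset.sum_congr rfl (g := fun _ => T.card), Finset.sum_const, smul_eq_mul]
  intro u hu
  congr 1
  exact Finset.inter_eq_left.2 fun v hv => (G.mem_neighborFinset _ _).2 (h u hu v hv)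

variable (hG : G.IsSRGWith 77 16 0 4)
include hG

theorem no_tri {a u v : V} (hu : G.Adj a u) (hv : G.Adj a v) : ¬ G.Adj u v := by
  intro h
  have h0 := card_inter hG h.ne
  rw [if_pos h, Finset.card_eq_zero] at h0
  exact Finset.notMem_empty a (h0 ▸ Finset.mem_inter.2
    ⟨(G.mem_neighborFinset _ _).2 hu.symm, (G.mem_neighborFinset _ _).2 hv.symm⟩)

theorem card_nb (u : V) : (nb u).card = 16 := by rw [G.card_neighborFinset_eq_degree, hG.regular]

theorem card_mu {u v : V} (h : u ≠ v) (h' : ¬ G.Adj u v) : (nb u ∩ nb v).card = 4 := by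
  rw [card_inter hG h, if_neg h']

theorem card_blk {o y : V} (h : Far G o y) : (blk G o y).card = 4 := card_mu hG h.1.symm h.2

/-- Three pairwise nonadjacent vertices have at most two common neighbours. -/
theorem common_le_two {x y z : V} (hxy : x ≠ y) (hxz : x ≠ z) (hyz : y ≠ z) (nxy : ¬ G.Adj x y)
    (nxz : ¬ G.Adj x z) (nyz : ¬ G.Adj y z) : (nb x ∩ nb y ∩ nb z).card ≤ 2 := by
  by_contra hc
  obtain ⟨C, hC, hC3⟩ := Finset.exists_subset_card_eq (show 3 ≤ (nb x ∩ nb y ∩ nb z).card by omega)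
  have hT : ({x, y, z} : Finset V).card = 3 := Finset.card_eq_three.2 ⟨x, y, z, hxy, hxz, hyz, rfl⟩
  have hfull : ∀ t ∈ ({x, y, z} : Finset V), ∀ c ∈ nb x ∩ nb y ∩ nb z, G.Adj t c := by
    intro t ht c hc'
    simp only [Finset.mem_inter, G.mem_neighborFinset] at hc'
    simp only [Finset.mem_insert, Finset.mem_singleton] at ht
    rcases ht with rfl | rfl | rfl
    exacts [hc'.1.1, hc'.1.2, hc'.2]
  by_cases h4 : 4 ≤ (nb x ∩ nb y ∩ nb z).card
  · obtain ⟨C', hC', hC4⟩ := Finset.exists_subset_card_eq h4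
    have h := quad hG ![{x, y, z}, C'] ![4, 3] ![3, 4] (by intro i; fin_cases i <;> simp [hT, hC4])
      (by
        have : Disjoint ({x, y, z} : Finset V) C' := Finset.disjoint_left.2 fun t ht ht' =>
          (hfull t ht t (hC' ht')).ne rfl
        intro i j hij
        fin_cases i <;> fin_cases j <;> simp_all [disjoint_comm])
      ![![0, 12], ![12, 0]] (by
        have e := ecount_full (G := G) fun t ht c hc' => hfull t ht c (hC' hc')
        rw [hT, hC4] at e
        intro i j
        fin_cases i <;> fin_cases j <;> simp [e, ecount_comm C' {x, y, z}])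
    simp [Fin.sum_univ_succ] at h
  · have hcard : (nb x ∩ nb y ∩ nb z).card = 3 := by omega
    have hex : ∀ (u v w : V), u ≠ v → ¬ G.Adj u v → nb u ∩ nb v ∩ nb w = nb x ∩ nb y ∩ nb z →
        ∃ d, G.Adj u d ∧ G.Adj v d ∧ ¬ G.Adj w d := by
      intro u v w huv nuv e
      have h1 := card_mu hG huv nuv
      obtain ⟨d, hd, hd'⟩ := Finset.exists_mem_notMem_of_card_lt_card
        (show (nb u ∩ nb v ∩ nb w).card < (nb u ∩ nb v).card by rw [e]; omega)
      simp only [Finset.mem_inter, G.mem_neighborFinset] at hd hd'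
      exact ⟨d, hd.1, hd.2, fun h => hd' ⟨⟨hd.1, hd.2⟩, h⟩⟩
    obtain ⟨p, px, py, pz⟩ := hex x y z hxy nxy rfl
    obtain ⟨q, qx, qz, qy⟩ := hex x z y hxz nxz (by ext t; simp; tauto)
    obtain ⟨r, ry, rz, rx⟩ := hex y z x hyz nyz (by ext t; simp; tauto)
    have hD : ({p, q, r} : Finset V).card = 3 := Finset.card_eq_three.2
      ⟨p, q, r, fun h => pz (h ▸ qz), fun h => rx (h ▸ px), fun h => rx (h ▸ qx), rfl⟩
    have hCc : C = nb x ∩ nb y ∩ nb z := Finset.eq_of_subset_of_card_le hC (by omega)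
    have d1 : Disjoint ({x, y, z} : Finset V) C := Finset.disjoint_left.2 fun t ht ht' =>
      (hfull t ht t (hC ht')).ne rfl
    have d2 : Disjoint ({x, y, z} : Finset V) {p, q, r} := by
      simp only [Finset.disjoint_left, Finset.mem_insert, Finset.mem_singleton]
      rintro t (h1 | h1 | h1) (h2 | h2 | h2) <;> have e := h1.symm.trans h2
      exacts [px.ne e, qx.ne e, nxy (e ▸ ry.symm), py.ne e, nxy (e ▸ qx), ry.ne e, nxz (e ▸ px), qz.ne e, rz.ne e]
    have d3 : Disjoint C {p, q, r} := by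
      simp only [hCc, Finset.disjoint_left, Finset.mem_insert, Finset.mem_singleton, Finset.mem_inter,
        G.mem_neighborFinset]
      rintro t ht (rfl | rfl | rfl) <;> tauto
    have e1 := ecount_full (G := G) fun t ht c hc' => hfull t ht c (hC hc')
    rw [hT, hC3] at e1
    have e2 : 6 ≤ ecount G ({p, q, r} : Finset V) {x, y, z} := by
      refine le_trans ?_ (Finset.card_nsmul_le_sum _ _ 2 fun u hu => ?_)
      · rw [hD]; rfl
      · simp only [Finset.mem_insert, Finset.mem_singleton] at hu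
        rcases hu with rfl | rfl | rfl
        · exact le_trans (Finset.card_pair hxy).ge
            (Finset.card_le_card fun t ht => by simp at ht; rcases ht with rfl | rfl <;> simp [px.symm, py.symm])
        · exact le_trans (Finset.card_pair hxz).ge
            (Finset.card_le_card fun t ht => by simp at ht; rcases ht with rfl | rfl <;> simp [qx.symm, qz.symm])
        · exact le_trans (Finset.card_pair hyz).ge
            (Finset.card_le_card fun t ht => by simp at ht; rcases ht with rfl | rfl <;> simp [ry.symm, rz.symm])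
    have h := quad hG ![{x, y, z}, C, {p, q, r}] ![3, 2, 1] ![3, 3, 3]
      (by intro i; fin_cases i <;> simp [hT, hC3, hD])
      (by intro i j hij; fin_cases i <;> fin_cases j <;> simp_all [disjoint_comm])
      ![![0, 9, 6], ![9, 0, 0], ![6, 0, 0]] (by
        have e3 := ecount_comm (G := G) C {x, y, z}
        have e4 := ecount_comm (G := G) ({p, q, r} : Finset V) {x, y, z}
        intro i j
        fin_cases i <;> fin_cases j <;> simp <;> omega)
    simp [Fin.sum_univ_succ] at h

variable {o : V}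

theorem far_of_adj {a z : V} (ha : G.Adj o a) (hz : G.Adj a z) (hzo : z ≠ o) : Far G o z :=
  ⟨hzo, fun h => no_tri hG ha h hz⟩

theorem k_le_two {y z : V} (hy : Far G o y) (hz : Far G o z) (h : y ≠ z) : (blk G o y ∩ nb z).card ≤ 2 := by
  by_cases hyz : G.Adj y z
  · rw [Finset.card_eq_zero.2]
    · norm_num
    · refine Finset.eq_empty_iff_forall_notMem.2 fun c hc => ?_
      rw [Finset.mem_inter, mem_blk, G.mem_neighborFinset] at hc
      exact no_tri hG hc.1.2.symm hc.2.symm hyz
  · exact common_le_two hG hy.1.symm hz.1.symm h hy.2 hz.2 hyz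

/-- The far vertices through `a` meeting the block of `y` in two points. -/
def kset (G : SimpleGraph V) [DecidableRel G.Adj] (o y a : V) : Finset V :=
  (G.neighborFinset a).filter fun z => (blk G o y ∩ G.neighborFinset z).card = 2

theorem mem_kset {y a z : V} (hy : Far G o y) (ha : G.Adj o a) (h : z ∈ kset G o y a) :
    G.Adj a z ∧ (blk G o y ∩ nb z).card = 2 ∧ Far G o z ∧ z ≠ y ∧ ¬ G.Adj y z := by
  obtain ⟨h1, h2⟩ := Finset.mem_filter.1 h
  rw [G.mem_neighborFinset] at h1
  have hzo : z ≠ o := fun hzo => by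
    subst hzo
    rw [Finset.inter_eq_left.2 (fun c hc => (G.mem_neighborFinset _ _).2 (mem_blk.1 hc).1), card_blk hG hy] at h2
    omega
  refine ⟨h1, h2, far_of_adj hG ha h1 hzo, fun hzy => ?_, fun hzy => ?_⟩
  · subst hzy
    rw [Finset.inter_eq_left.2 (fun c hc => (G.mem_neighborFinset _ _).2 (mem_blk.1 hc).2), card_blk hG hy] at h2
    omega
  · obtain ⟨c, hc⟩ := Finset.card_pos.1 (show 0 < (blk G o y ∩ nb z).card by omega)
    rw [Finset.mem_inter, mem_blk, G.mem_neighborFinset] at hc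
    exact no_tri hG hc.1.2.symm hc.2.symm hzy

theorem kset_le {y a : V} (hy : Far G o y) (ha : G.Adj o a) (hay : ¬ G.Adj y a) :
    (kset G o y a).card ≤ 2 := by
  by_contra hc
  obtain ⟨Z, hZ, hZ3⟩ := Finset.exists_subset_card_eq (show 3 ≤ (kset G o y a).card by omega)
  have hm := fun z (hz : z ∈ Z) => mem_kset hG hy ha (hZ hz)
  have hya : y ≠ a := fun h => hy.2 (h ▸ ha)
  have hW : (nb y ∩ nb a).card = 4 := card_mu hG hya hay
  have hC : (blk G o y).card = 4 := card_blk hG hy
  have d1 : ∀ c ∈ blk G o y, c ≠ o ∧ c ≠ y ∧ c ≠ a := fun c hc => by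
    obtain ⟨h1, h2⟩ := mem_blk.1 hc
    exact ⟨h1.ne', h2.ne', fun h => hay (h ▸ h2)⟩
  have d2 : ∀ c ∈ Z, c ≠ o ∧ c ≠ y ∧ c ≠ a ∧ c ∉ blk G o y ∧ c ∉ nb y := fun c hc => by
    obtain ⟨h1, -, h3, h4, h5⟩ := hm c hc
    exact ⟨h3.1, h4, h1.ne', fun h => h3.2 (mem_blk.1 h).1, by simpa using h5⟩
  have d3 : ∀ c ∈ nb y ∩ nb a, c ≠ o ∧ c ≠ y ∧ c ≠ a ∧ c ∉ blk G o y := fun c hc => by
    simp only [Finset.mem_inter, G.mem_neighborFinset] at hc
    exact ⟨fun h => hy.2 (h ▸ hc.1).symm, hc.1.ne', hc.2.ne', fun h => no_tri hG ha (mem_blk.1 h).1 hc.2⟩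
  have e_oC : ecount G {o} (blk G o y) = 4 := by
    rw [ecount_full (fun u hu v hv => by simp at hu; subst hu; exact (mem_blk.1 hv).1), hC]; simp
  have e_yC : ecount G {y} (blk G o y) = 4 := by
    rw [ecount_full (fun u hu v hv => by simp at hu; subst hu; exact (mem_blk.1 hv).2), hC]; simp
  have e_yW : ecount G {y} (nb y ∩ nb a) = 4 := by
    rw [ecount_full (fun u hu v hv => by simp at hu hv; subst hu; exact hv.1), hW]; simp
  have e_aW : ecount G {a} (nb y ∩ nb a) = 4 := by
    rw [ecount_full (fun u hu v hv => by simp at hu hv; subst hu; exact hv.2), hW]; simp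
  have e_aZ : ecount G {a} Z = 3 := by
    rw [ecount_full (fun u hu v hv => by simp at hu; subst hu; exact (hm v hv).1), hZ3]; simp
  have e_oa : ecount G {o} {a} = 1 := by simp [ecount, ha]
  have e_ZC : ecount G Z (blk G o y) = 6 := by
    rw [ecount, Finset.sum_congr rfl fun z hz => (hm z hz).2.1, Finset.sum_const, hZ3]; rfl
  have h := quad hG ![{o}, {y}, {a}, blk G o y, Z, nb y ∩ nb a] ![3, 4, 3, 2, 1, 1] ![1, 1, 1, 4, 3, 4]
    (by intro i; fin_cases i <;> simp [hC, hZ3, hW])
    (by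
      have := hy.1
      have := ha.ne
      intro i j hij
      fin_cases i <;> fin_cases j <;> simp [Finset.disjoint_left, -Finset.mem_inter, -SimpleGraph.mem_neighborFinset] at hij ⊢ <;>
        grind [SimpleGraph.mem_neighborFinset])
    ![![0, 0, 1, 4, 0, 0], ![0, 0, 0, 4, 0, 4], ![1, 0, 0, 0, 3, 4], ![4, 4, 0, 0, 6, 0], ![0, 0, 3, 6, 0, 0],
      ![0, 4, 4, 0, 0, 0]]
    (by
      have := ecount_comm (G := G) {a} {o}
      have := ecount_comm (G := G) (blk G o y) {o}
      have := ecount_comm (G := G) (blk G o y) {y}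
      have := ecount_comm (G := G) Z {a}
      have := ecount_comm (G := G) (blk G o y) Z
      have := ecount_comm (G := G) (nb y ∩ nb a) {y}
      have := ecount_comm (G := G) (nb y ∩ nb a) {a}
      intro i j
      fin_cases i <;> fin_cases j <;> simp <;> omega)
  simp [Fin.sum_univ_succ] at h

theorem kset_card {y a : V} (hy : Far G o y) (ha : G.Adj o a) (hay : ¬ G.Adj y a) :
    (kset G o y a).card = 2 := by
  let R := nb o \ nb y
  let Kall := Finset.univ.filter fun z => Far G o z ∧ (blk G o y ∩ nb z).card = 2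
  have hC : (blk G o y).card = 4 := card_blk hG hy
  have hR : R.card = 12 := by
    show (nb o \ nb y).card = 12
    have h1 := Finset.card_sdiff_add_card_inter (nb o) (nb y)
    rw [card_nb hG, show nb o ∩ nb y = blk G o y from rfl, hC] at h1
    omega
  have hK : ∀ b ∈ R, kset G o y b = Kall ∩ nb b := by
    intro b hb
    simp only [R, Finset.mem_sdiff, G.mem_neighborFinset] at hb
    ext z
    simp only [Kall, Finset.mem_inter, Finset.mem_filter, Finset.mem_univ, true_and, G.mem_neighborFinset]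
    constructor
    · intro hz
      obtain ⟨h1, h2, h3, -⟩ := mem_kset hG hy hb.1 hz
      exact ⟨⟨h3, h2⟩, h1⟩
    · rintro ⟨⟨-, h2⟩, h1⟩
      exact Finset.mem_filter.2 ⟨(G.mem_neighborFinset _ _).2 h1, h2⟩
  have hpair : ∀ p ∈ (blk G o y).offDiag, (Kall.filter fun z => G.Adj z p.1 ∧ G.Adj z p.2).card = 2 := by
    intro p hp
    obtain ⟨h1, h2, h3⟩ := Finset.mem_offDiag.1 hp
    obtain ⟨o1, y1⟩ := mem_blk.1 h1
    obtain ⟨o2, y2⟩ := mem_blk.1 h2
    have hn : ¬ G.Adj p.1 p.2 := no_tri hG o1 o2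
    have e : Kall.filter (fun z => G.Adj z p.1 ∧ G.Adj z p.2) = ((nb p.1 ∩ nb p.2).erase o).erase y := by
      ext z
      simp only [Kall, Finset.mem_filter, Finset.mem_univ, true_and, Finset.mem_erase, Finset.mem_inter,
        G.mem_neighborFinset]
      constructor
      · rintro ⟨⟨hz, hz2⟩, z1, z2⟩
        refine ⟨fun h => ?_, hz.1, z1.symm, z2.symm⟩
        subst h
        rw [Finset.inter_eq_left.2 (fun c hc => (G.mem_neighborFinset _ _).2 (mem_blk.1 hc).2), hC] at hz2
        omega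
      · rintro ⟨hzy, hzo, z1, z2⟩
        have hz := far_of_adj hG o1 z1 hzo
        refine ⟨⟨hz, le_antisymm (k_le_two hG hy hz (Ne.symm hzy)) ?_⟩, z1.symm, z2.symm⟩
        refine le_trans (Finset.card_pair h3).ge (Finset.card_le_card fun c hc => ?_)
        simp only [Finset.mem_insert, Finset.mem_singleton] at hc
        rcases hc with rfl | rfl
        · exact Finset.mem_inter.2 ⟨h1, (G.mem_neighborFinset _ _).2 z1.symm⟩
        · exact Finset.mem_inter.2 ⟨h2, (G.mem_neighborFinset _ _).2 z2.symm⟩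
    rw [e, Finset.card_erase_of_mem, Finset.card_erase_of_mem, card_mu hG h3 hn]
    · simp [o1.symm, o2.symm]
    · simp [y1.symm, y2.symm, hy.1]
  have hKall : Kall.card = 12 := by
    have h : ∑ p ∈ (blk G o y).offDiag, (Kall.filter fun z => G.Adj z p.1 ∧ G.Adj z p.2).card = 2 * Kall.card := by
      simp only [Finset.card_filter]
      rw [Finset.sum_comm, Finset.sum_congr rfl (g := fun _ => 2), Finset.sum_const, smul_eq_mul, mul_comm]
      intro z hz
      rw [← Finset.card_filter]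
      have e : (blk G o y).offDiag.filter (fun p => G.Adj z p.1 ∧ G.Adj z p.2) = (blk G o y ∩ nb z).offDiag := by
        ext p; simp only [Finset.mem_filter, Finset.mem_offDiag, Finset.mem_inter, G.mem_neighborFinset]; tauto
      rw [e, Finset.offDiag_card, (Finset.mem_filter.1 hz).2.2]
    rw [Finset.sum_congr rfl hpair, Finset.sum_const, Finset.offDiag_card, hC, smul_eq_mul] at h
    omega
  have hsum : ∑ b ∈ R, (kset G o y b).card = ∑ b ∈ R, 2 := by
    rw [Finset.sum_congr rfl fun b hb => by rw [hK b hb]]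
    have h : ∀ b, (Kall ∩ nb b).card = ∑ z ∈ Kall, if G.Adj b z then 1 else 0 := fun b => by
      rw [← Finset.card_filter]; congr 1; ext z; simp
    simp only [h]
    rw [Finset.sum_comm, Finset.sum_congr rfl (g := fun _ => 2), Finset.sum_const, Finset.sum_const, hKall, hR]
    intro z hz
    obtain ⟨hzf, hz2⟩ := (Finset.mem_filter.1 hz).2
    have h1 := Finset.card_sdiff_add_card_inter (nb o ∩ nb z) (nb y)
    rw [card_mu hG hzf.1.symm hzf.2, show nb o ∩ nb z ∩ nb y = blk G o y ∩ nb z by ext; simp [blk]; tauto, hz2] at h1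
    rw [← Finset.card_filter]
    have e : R.filter (fun b => G.Adj b z) = (nb o ∩ nb z) \ nb y := by
      ext b; simp only [R, Finset.mem_filter, Finset.mem_sdiff, Finset.mem_inter, G.mem_neighborFinset, G.adj_comm z]; tauto
    rw [e]
    omega
  exact (Finset.sum_eq_sum_iff_of_le fun b hb => by
    simp only [R, Finset.mem_sdiff, G.mem_neighborFinset] at hb
    exact kset_le hG hy hb.1 hb.2).1 hsum a (by simp [R, ha, hay])

/-- Each point off a block lies on exactly one parallel block. -/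
theorem par_unique {y a : V} (hy : Far G o y) (ha : G.Adj o a) (hay : ¬ G.Adj y a) :
    ∃! u, G.Adj a u ∧ Par G o y u := by
  let F := ((nb a).erase o) \ nb y
  have hC : (blk G o y).card = 4 := card_blk hG hy
  have hya : y ≠ a := fun h => hy.2 (h ▸ ha)
  have hF : F.card = 11 := by
    show ((nb a).erase o \ nb y).card = 11
    have h1 := Finset.card_sdiff_add_card_inter ((nb a).erase o) (nb y)
    rw [Finset.card_erase_of_mem (by simp [ha.symm]), card_nb hG,
      show (nb a).erase o ∩ nb y = nb a ∩ nb y from ?_, Finset.inter_comm (nb a) (nb y),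
      card_mu hG hya hay] at h1
    · omega
    · ext z
      simp only [Finset.mem_inter, Finset.mem_erase, G.mem_neighborFinset]
      exact ⟨fun h => ⟨h.1.2, h.2⟩, fun h => ⟨⟨fun hz => hy.2 (hz ▸ h.2).symm, h.1⟩, h.2⟩⟩
  have hFm : ∀ z ∈ F, G.Adj a z ∧ Far G o z ∧ y ≠ z ∧ ¬ G.Adj y z := by
    intro z hz
    simp only [F, Finset.mem_sdiff, Finset.mem_erase, G.mem_neighborFinset] at hz
    exact ⟨hz.1.2, far_of_adj hG ha hz.1.2 hz.1.1, fun h => hay (h ▸ hz.1.2.symm), hz.2⟩
  have hk : ∑ z ∈ F, (blk G o y ∩ nb z).card = 12 := by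
    have h : ∀ z, (blk G o y ∩ nb z).card = ∑ c ∈ blk G o y, if G.Adj z c then 1 else 0 := fun z => by
      rw [← Finset.card_filter]; congr 1; ext c; simp
    simp only [h]
    rw [Finset.sum_comm, Finset.sum_congr rfl (g := fun _ => 3), Finset.sum_const, hC]
    · rfl
    intro c hc
    obtain ⟨oc, yc⟩ := mem_blk.1 hc
    rw [← Finset.card_filter]
    have e : F.filter (fun z => G.Adj z c) = (nb a ∩ nb c).erase o := by
      ext z
      simp only [F, Finset.mem_filter, Finset.mem_sdiff, Finset.mem_erase, Finset.mem_inter, G.mem_neighborFinset]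
      constructor
      · rintro ⟨⟨⟨h1, h2⟩, -⟩, h3⟩; exact ⟨h1, h2, h3.symm⟩
      · rintro ⟨h1, h2, h3⟩
        exact ⟨⟨⟨h1, h2⟩, fun h => no_tri hG yc.symm h3 h⟩, h3.symm⟩
    rw [e, Finset.card_erase_of_mem (by simp [ha.symm, oc.symm]),
      card_mu hG (fun h => hay (by rw [h]; exact yc)) (no_tri hG ha oc)]
  have h2 : (F.filter fun z => (blk G o y ∩ nb z).card = 2).card = 2 := by
    refine Eq.trans ?_ (kset_card hG hy ha hay)
    congr 1
    ext z
    constructor
    · intro h
      obtain ⟨h1, h2⟩ := Finset.mem_filter.1 h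
      exact Finset.mem_filter.2 ⟨(G.mem_neighborFinset _ _).2 (hFm z h1).1, h2⟩
    · intro h
      obtain ⟨h1, h2, h3, -, h5⟩ := mem_kset hG hy ha h
      exact Finset.mem_filter.2 ⟨by simp [F, h3.1, h1, h5], h2⟩
  have h0 : (F.filter fun z => (blk G o y ∩ nb z).card = 0).card = 1 := by
    have h : ∑ z ∈ F, ((blk G o y ∩ nb z).card + if (blk G o y ∩ nb z).card = 0 then 1 else 0) =
        ∑ z ∈ F, (1 + if (blk G o y ∩ nb z).card = 2 then 1 else 0) :=
      Finset.sum_congr rfl fun z hz => by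
        have := k_le_two hG hy (hFm z hz).2.1 (hFm z hz).2.2.1
        split_ifs <;> omega
    rw [Finset.sum_add_distrib, Finset.sum_add_distrib, hk, Finset.sum_const, hF, ← Finset.card_filter,
      ← Finset.card_filter, h2, smul_eq_mul] at h
    omega
  obtain ⟨u, hu⟩ := Finset.card_eq_one.1 h0
  have hmem : u ∈ F.filter fun z => (blk G o y ∩ nb z).card = 0 := by rw [hu]; simp
  obtain ⟨huF, hu0⟩ := Finset.mem_filter.1 hmem
  obtain ⟨h1, h3, h4, h5⟩ := hFm u huF
  refine ⟨u, ⟨h1, hy, h3, h4, h5, fun c oc yc uc => ?_⟩, fun v hv => ?_⟩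
  · rw [Finset.card_eq_zero] at hu0
    exact Finset.notMem_empty c (hu0 ▸ by simp [mem_blk, oc, yc, uc])
  · obtain ⟨hav, -, hv1, hv2, hv3, hv4⟩ := hv
    have : v ∈ F.filter fun z => (blk G o y ∩ nb z).card = 0 := by
      refine Finset.mem_filter.2 ⟨by simp [F, hv1.1, hav, hv3], ?_⟩
      rw [Finset.card_eq_zero, Finset.eq_empty_iff_forall_notMem]
      intro c hc
      rw [Finset.mem_inter, mem_blk, G.mem_neighborFinset] at hc
      exact hv4 c hc.1.1 hc.1.2 hc.2
    rw [hu] at this
    simpa using this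

omit hG in
theorem Par.symm {y z : V} (h : Par G o y z) : Par G o z y :=
  ⟨h.2.1, h.1, h.2.2.1.symm, fun h' => h.2.2.2.1 h'.symm, fun c oc zc yc => h.2.2.2.2 c oc yc zc⟩

omit hG in
theorem Par.disjoint {y z : V} (h : Par G o y z) : Disjoint (blk G o y) (blk G o z) :=
  Finset.disjoint_left.2 fun _ h1 h2 => h.2.2.2.2 _ (mem_blk.1 h1).1 (mem_blk.1 h1).2 (mem_blk.1 h2).2

theorem par_trans {y z w : V} (hz : Par G o y z) (hw : Par G o y w) (hzw : z ≠ w) : Par G o z w := by
  have hdis : ∀ c, G.Adj o c → G.Adj z c → ¬ G.Adj w c := by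
    intro c oc zc wc
    exact hzw ((par_unique hG hz.1 oc fun yc => hz.2.2.2.2 c oc yc zc).unique ⟨zc.symm, hz⟩ ⟨wc.symm, hw⟩)
  refine ⟨hz.2.1, hw.2.1, hzw, fun hadj => ?_, hdis⟩
  obtain ⟨hy, hzf, hyz, nyz, yz0⟩ := hz
  obtain ⟨-, hwf, hyw, nyw, yw0⟩ := hw
  let C := blk G o y
  let D := blk G o z ∪ blk G o w
  have hC : C.card = 4 := card_blk hG hy
  have hZ : ({z, w} : Finset V).card = 2 := Finset.card_pair hzw
  have hdzw : Disjoint (blk G o z) (blk G o w) := Finset.disjoint_left.2 fun c h1 h2 =>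
    hdis c (mem_blk.1 h1).1 (mem_blk.1 h1).2 (mem_blk.1 h2).2
  have hD : D.card = 8 := by
    show (blk G o z ∪ blk G o w).card = 8
    rw [Finset.card_union_of_disjoint hdzw, card_blk hG hzf, card_blk hG hwf]
  have hoC : ∀ c ∈ C, G.Adj o c := fun c hc => (mem_blk.1 hc).1
  have hoD : ∀ c ∈ D, G.Adj o c ∧ ¬ G.Adj y c := fun c hc => by
    rcases Finset.mem_union.1 hc with h | h
    · exact ⟨(mem_blk.1 h).1, fun h' => yz0 c (mem_blk.1 h).1 h' (mem_blk.1 h).2⟩
    · exact ⟨(mem_blk.1 h).1, fun h' => yw0 c (mem_blk.1 h).1 h' (mem_blk.1 h).2⟩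
  have e01 : ecount G {y} ({z, w} : Finset V) = 0 := ecount_zero (by simp [nyz, nyw])
  have e02 : ecount G {y} C = 4 := by
    rw [ecount_full (fun u hu v hv => by simp at hu; subst hu; exact (mem_blk.1 hv).2), hC]; simp
  have e03 : ecount G {y} D = 0 := ecount_zero (by simpa using fun c hc => (hoD c hc).2)
  have e12 : ecount G ({z, w} : Finset V) C = 0 := ecount_zero fun u hu c hc => by
    simp only [Finset.mem_insert, Finset.mem_singleton] at hu
    rcases hu with rfl | rfl
    exacts [yz0 c (hoC c hc) (mem_blk.1 hc).2, yw0 c (hoC c hc) (mem_blk.1 hc).2]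
  have e23 : ecount G C D = 0 := ecount_zero fun u hu c hc => no_tri hG (hoC u hu) (hoD c hc).1
  have e11 : 2 ≤ ecount G ({z, w} : Finset V) {z, w} := by
    simp [ecount, hzw, hadj, hadj.symm]
  have e13 : 8 ≤ ecount G ({z, w} : Finset V) D := by
    rw [ecount, Finset.sum_pair hzw]
    have h1 : (blk G o z).card ≤ (D ∩ nb z).card := Finset.card_le_card fun c hc =>
      Finset.mem_inter.2 ⟨Finset.mem_union_left _ hc, (G.mem_neighborFinset _ _).2 (mem_blk.1 hc).2⟩
    have h2 : (blk G o w).card ≤ (D ∩ nb w).card := Finset.card_le_card fun c hc =>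
      Finset.mem_inter.2 ⟨Finset.mem_union_right _ hc, (G.mem_neighborFinset _ _).2 (mem_blk.1 hc).2⟩
    rw [card_blk hG hzf] at h1
    rw [card_blk hG hwf] at h2
    omega
  have h := quad hG ![{y}, {z, w}, C, D] ![2, -2, 1, -1] ![1, 2, 4, 8]
    (by intro i; fin_cases i <;> simp [hC, hZ, hD])
    (by
      have hCD : ∀ c ∈ C, c ∉ D := fun c hc hcD => (hoD c hcD).2 (mem_blk.1 hc).2
      have := hy.2
      have := hzf.2
      have := hwf.2
      intro i j hij
      fin_cases i <;> fin_cases j <;> simp [Finset.disjoint_left] at hij ⊢ <;> grind)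
    ![![0, 0, 4, 0], ![0, 2, 0, 8], ![4, 0, 0, 0], ![0, 8, 0, 0]]
    (by
      have := ecount_comm (G := G) ({z, w} : Finset V) {y}
      have := ecount_comm (G := G) C {y}
      have := ecount_comm (G := G) D {y}
      have := ecount_comm (G := G) C ({z, w} : Finset V)
      have := ecount_comm (G := G) D ({z, w} : Finset V)
      have := ecount_comm (G := G) D C
      intro i j
      fin_cases i <;> fin_cases j <;> simp <;> omega)
  simp [Fin.sum_univ_succ] at h

/-- A block meeting one of two parallel blocks in two points does not meet the other in one point. -/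
theorem skew {y y' z : V} (hp : Par G o y y') (hz : Far G o z) (h2 : (blk G o y ∩ nb z).card = 2) :
    (blk G o y' ∩ nb z).card ≠ 1 := by
  intro h1
  obtain ⟨hy, hy', hne, nyy', d0⟩ := hp
  have hzy : z ≠ y := by
    rintro rfl
    rw [Finset.inter_eq_left.2 (fun c hc => (G.mem_neighborFinset _ _).2 (mem_blk.1 hc).2), card_blk hG hy] at h2
    omega
  have nzy : ¬ G.Adj z y := fun h => by
    obtain ⟨c, hc⟩ := Finset.card_pos.1 (show 0 < (blk G o y ∩ nb z).card by omega)
    simp only [Finset.mem_inter, mem_blk, G.mem_neighborFinset] at hc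
    exact no_tri hG hc.1.2.symm hc.2.symm h.symm
  have hBz : (blk G o z).card = 4 := card_blk hG hz
  have hrest : (blk G o z \ nb y).card = 2 := by
    have := Finset.card_sdiff_add_card_inter (blk G o z) (nb y)
    rw [← blk_comm, h2, hBz] at this
    omega
  obtain ⟨r1, hr1⟩ := Finset.card_eq_one.1 h1
  have hr1' : r1 ∈ blk G o y' ∩ nb z := by rw [hr1]; simp
  obtain ⟨hr1y, hr1z⟩ := Finset.mem_inter.1 hr1'
  obtain ⟨r2, hr2, hr21⟩ : ∃ r2 ∈ blk G o z \ nb y, r2 ≠ r1 := Finset.exists_mem_ne (by omega) r1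
  simp only [Finset.mem_sdiff, mem_blk, G.mem_neighborFinset] at hr2 hr1z
  obtain ⟨y'', ⟨r2y'', hy''p⟩, -⟩ := par_unique hG hy hr2.1.1 hr2.2
  have hp' : Par G o y y' := ⟨hy, hy', hne, nyy', d0⟩
  have hne2 : y' ≠ y'' := by
    rintro rfl
    have : r2 ∈ blk G o y' ∩ nb z := by simp [mem_blk, hr2.1.1, r2y''.symm, hr2.1.2]
    rw [hr1] at this
    exact hr21 (Finset.mem_singleton.1 this)
  have hp12 : Par G o y' y'' := par_trans hG hp' hy''p hne2
  obtain ⟨q, hq, hqn⟩ : ∃ q ∈ nb o \ nb y, q ∉ blk G o y' ∪ blk G o y'' := by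
    refine Finset.exists_mem_notMem_of_card_lt_card ?_
    have h1 := Finset.card_sdiff_add_card_inter (nb o) (nb y)
    rw [card_nb hG, show nb o ∩ nb y = blk G o y from rfl, card_blk hG hy] at h1
    rw [Finset.card_union_of_disjoint hp12.disjoint, card_blk hG hy', card_blk hG hp12.2.1]
    omega
  simp only [Finset.mem_sdiff, G.mem_neighborFinset, Finset.mem_union, mem_blk, not_or] at hq hqn
  obtain ⟨y0, ⟨qy0, hy0p⟩, -⟩ := par_unique hG hy hq.1 hq.2
  have hn1 : y0 ≠ y' := fun h => hqn.1 ⟨hq.1, h ▸ qy0.symm⟩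
  have hn2 : y0 ≠ y'' := fun h => hqn.2 ⟨hq.1, h ▸ qy0.symm⟩
  have q1 : Par G o y0 y' := par_trans hG hy0p hp' hn1
  have q2 : Par G o y0 y'' := par_trans hG hy0p hy''p hn2
  -- the four parallel blocks cover the neighbours of `o`
  have hdr : blk G o z \ nb y = {r1, r2} := by
    refine (Finset.eq_of_subset_of_card_le ?_ (by rw [hrest, Finset.card_pair hr21.symm])).symm
    intro c hc
    simp only [Finset.mem_insert, Finset.mem_singleton] at hc
    have := mem_blk.1 hr1y
    rcases hc with rfl | rfl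
    · simp only [Finset.mem_sdiff, mem_blk, G.mem_neighborFinset]
      exact ⟨⟨this.1, hr1z⟩, fun h => d0 _ this.1 h this.2⟩
    · simp only [Finset.mem_sdiff, mem_blk, G.mem_neighborFinset]; exact hr2
  have hzdis : ∀ c, G.Adj o c → G.Adj y0 c → ¬ G.Adj z c := by
    intro c oc y0c zc
    have hcy : ¬ G.Adj y c := fun h => hy0p.2.2.2.2 c oc h y0c
    have : c ∈ blk G o z \ nb y := by simp [mem_blk, oc, zc, hcy]
    rw [hdr] at this
    simp only [Finset.mem_insert, Finset.mem_singleton] at this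
    rcases this with rfl | rfl
    · exact q1.2.2.2.2 _ oc y0c (mem_blk.1 hr1y).2
    · exact q2.2.2.2.2 _ oc y0c r2y''.symm
  have hzy0 : y0 ≠ z := by
    rintro rfl
    obtain ⟨c, hc⟩ := Finset.card_pos.1 (show 0 < (blk G o y ∩ nb y0).card by omega)
    simp only [Finset.mem_inter, mem_blk, G.mem_neighborFinset] at hc
    exact hy0p.2.2.2.2 c hc.1.1 hc.1.2 hc.2
  have hadj : G.Adj z y0 := by
    by_contra hn
    have hpz : Par G o y0 z := ⟨hy0p.2.1, hz, hzy0, fun h => hn h.symm, hzdis⟩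
    have := (par_trans hG hy0p.symm hpz hzy.symm).disjoint
    obtain ⟨c, hc⟩ := Finset.card_pos.1 (show 0 < (blk G o y ∩ nb z).card by omega)
    simp only [Finset.mem_inter, mem_blk, G.mem_neighborFinset] at hc
    exact Finset.disjoint_left.1 this (mem_blk.2 hc.1) (mem_blk.2 ⟨hc.1.1, hc.2⟩)
  let P := blk G o y ∩ nb z
  let S := (blk G o y' ∪ blk G o y'') \ nb z
  have hS : S.card = 6 := by
    have h := Finset.card_sdiff_add_card_inter (blk G o y' ∪ blk G o y'') (nb z)
    rw [Finset.card_union_of_disjoint hp12.disjoint, card_blk hG hy', card_blk hG hp12.2.1] at h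
    have e : (blk G o y' ∪ blk G o y'') ∩ nb z = {r1, r2} := by
      refine Finset.Subset.antisymm ?_ ?_
      · rw [← hdr]
        intro c hc
        simp only [Finset.mem_inter, Finset.mem_union, mem_blk, G.mem_neighborFinset, Finset.mem_sdiff] at hc ⊢
        rcases hc.1 with h | h
        · exact ⟨⟨h.1, hc.2⟩, fun h' => d0 c h.1 h' h.2⟩
        · exact ⟨⟨h.1, hc.2⟩, fun h' => hy''p.2.2.2.2 c h.1 h' h.2⟩
      · intro c hc
        simp only [Finset.mem_insert, Finset.mem_singleton] at hc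
        rcases hc with rfl | rfl
        · exact Finset.mem_inter.2 ⟨Finset.mem_union_left _ hr1y, (G.mem_neighborFinset _ _).2 hr1z⟩
        · exact Finset.mem_inter.2 ⟨Finset.mem_union_right _ (mem_blk.2 ⟨hr2.1.1, r2y''.symm⟩),
            (G.mem_neighborFinset _ _).2 hr2.1.2⟩
    rw [e, Finset.card_pair hr21.symm] at h
    show ((blk G o y' ∪ blk G o y'') \ nb z).card = 6
    omega
  have hP : P.card = 2 := h2
  have hY : ({y', y''} : Finset V).card = 2 := Finset.card_pair hne2
  have fP : ∀ c ∈ P, G.Adj o c ∧ G.Adj y c ∧ G.Adj z c := fun c hc => by simpa [P, mem_blk, and_assoc] using hc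
  have fS : ∀ c ∈ S, G.Adj o c ∧ (G.Adj y' c ∨ G.Adj y'' c) ∧ ¬ G.Adj z c := fun c hc => by
    simp [S, mem_blk] at hc
    tauto
  have nz' : ¬ G.Adj z y' := fun h => no_tri hG (mem_blk.1 hr1y).2.symm hr1z.symm h.symm
  have nz'' : ¬ G.Adj z y'' := fun h => no_tri hG r2y'' hr2.1.2.symm h.symm
  have a02 : ecount G {o} P = 2 := by
    rw [ecount_full (fun u hu v hv => by simp at hu; subst hu; exact (fP v hv).1), hP]; simp
  have a06 : ecount G {o} S = 6 := by
    rw [ecount_full (fun u hu v hv => by simp at hu; subst hu; exact (fS v hv).1), hS]; simp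
  have a12 : ecount G {z} P = 2 := by
    rw [ecount_full (fun u hu v hv => by simp at hu; subst hu; exact (fP v hv).2.2), hP]; simp
  have a32 : ecount G {y} P = 2 := by
    rw [ecount_full (fun u hu v hv => by simp at hu; subst hu; exact (fP v hv).2.1), hP]; simp
  have a13 : ecount G {z} {y0} = 1 := by simp [ecount, hadj]
  have a01 : ecount G {o} {z} = 0 := ecount_zero (by simpa using hz.2)
  have a03 : ecount G {o} {y0} = 0 := ecount_zero (by simpa using hy0p.2.1.2)
  have a04 : ecount G {o} {y} = 0 := ecount_zero (by simpa using hy.2)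
  have a14 : ecount G {z} {y} = 0 := ecount_zero (by simpa using nzy)
  have a15 : ecount G {z} ({y', y''} : Finset V) = 0 := ecount_zero (by simp [nz', nz''])
  have a16 : ecount G {z} S = 0 := ecount_zero (by simpa using fun c hc => (fS c hc).2.2)
  have a35 : ecount G {y0} ({y', y''} : Finset V) = 0 := ecount_zero (by simp [q1.2.2.2.1, q2.2.2.2.1])
  have a36 : ecount G {y0} S = 0 := ecount_zero (by
    simp only [Finset.mem_singleton]
    rintro u rfl c hc huc
    obtain ⟨oc, h | h, -⟩ := fS c hc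
    exacts [q1.2.2.2.2 c oc huc h, q2.2.2.2.2 c oc huc h])
  have a45 : ecount G {y} ({y', y''} : Finset V) = 0 := ecount_zero (by simp [nyy', hy''p.2.2.2.1])
  have a46 : ecount G {y} S = 0 := ecount_zero (by
    simp only [Finset.mem_singleton]
    rintro u rfl c hc huc
    obtain ⟨oc, h | h, -⟩ := fS c hc
    exacts [d0 c oc huc h, hy''p.2.2.2.2 c oc huc h])
  have a25 : ecount G P ({y', y''} : Finset V) = 0 := ecount_zero (by
    intro c hc u hu huc
    simp only [Finset.mem_insert, Finset.mem_singleton] at hu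
    rcases hu with rfl | rfl
    exacts [d0 c (fP c hc).1 (fP c hc).2.1 huc.symm, hy''p.2.2.2.2 c (fP c hc).1 (fP c hc).2.1 huc.symm])
  have a26 : ecount G P S = 0 := ecount_zero fun u hu c hc => no_tri hG (fP u hu).1 (fS c hc).1
  have a56 : 6 ≤ ecount G S ({y', y''} : Finset V) := by
    rw [← hS, ← mul_one S.card]
    refine (Finset.card_nsmul_le_sum _ _ 1 fun c hc => Finset.card_pos.2 ?_).trans' (by simp)
    rcases (fS c hc).2.1 with h | h
    exacts [⟨y', by simp [h.symm]⟩, ⟨y'', by simp [h.symm]⟩]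
  have h := quad hG ![{o}, {z}, P, {y0}, {y}, ({y', y''} : Finset V), S] ![1, -2, -1, -1, -1, 1, 1]
    ![1, 1, 2, 1, 1, 2, 6]
    (by intro i; fin_cases i <;> simp [hP, hY, hS])
    (by
      have := hy0p.2.2.1
      have := hy''p.2.2.1
      have := hy.1
      have := hz.1
      have := hy'.1
      have := hy''p.2.1.1
      have := hy0p.2.1.1
      have hzy' : z ≠ y' := fun h => by
        rw [h, Finset.inter_eq_left.2 (fun c hc => (G.mem_neighborFinset _ _).2 (mem_blk.1 hc).2), card_blk hG hy'] at h1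
        omega
      have hzy'' : z ≠ y'' := by
        rintro rfl
        exact hp12.2.2.2.2 r1 (mem_blk.1 hr1y).1 (mem_blk.1 hr1y).2 hr1z
      have := hz.2
      have := hy.2
      have := hy'.2
      have := hy''p.2.1.2
      have := hy0p.2.1.2
      have hPS : ∀ c ∈ P, c ∉ S := fun c hc hc' => (fS c hc').2.2 (fP c hc).2.2
      have oP : ∀ c ∈ P, c ≠ o := fun c hc => (fP c hc).1.ne'
      have oS : ∀ c ∈ S, c ≠ o := fun c hc => (fS c hc).1.ne'
      intro i j hij
      fin_cases i <;> fin_cases j <;> simp [Finset.disjoint_left] at hij ⊢ <;> grind)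
    ![![0, 0, 2, 0, 0, 0, 6], ![0, 0, 2, 1, 0, 0, 0], ![2, 2, 0, 0, 2, 0, 0], ![0, 1, 0, 0, 0, 0, 0],
      ![0, 0, 2, 0, 0, 0, 0], ![0, 0, 0, 0, 0, 0, 6], ![6, 0, 0, 0, 0, 6, 0]]
    (by
      have := ecount_comm (G := G) {z} {o}
      have := ecount_comm (G := G) P {o}
      have := ecount_comm (G := G) {y0} {o}
      have := ecount_comm (G := G) {y} {o}
      have := ecount_comm (G := G) S {o}
      have := ecount_comm (G := G) P {z}
      have := ecount_comm (G := G) {y0} {z}
      have := ecount_comm (G := G) {y} {z}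
      have := ecount_comm (G := G) ({y', y''} : Finset V) {z}
      have := ecount_comm (G := G) S {z}
      have := ecount_comm (G := G) P {y}
      have := ecount_comm (G := G) ({y', y''} : Finset V) {y0}
      have := ecount_comm (G := G) S {y0}
      have := ecount_comm (G := G) ({y', y''} : Finset V) {y}
      have := ecount_comm (G := G) S {y}
      have := ecount_comm (G := G) ({y', y''} : Finset V) P
      have := ecount_comm (G := G) S P
      have := ecount_comm (G := G) ({y', y''} : Finset V) S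
      intro i j
      fin_cases i <;> fin_cases j <;> simp <;> omega)
  simp [Fin.sum_univ_succ] at h

/-- The quadratic form on distinct points with nonnegative weights and a list of edges. -/
theorem quad_pts {n : ℕ} (v : Fin n → V) (hv : Function.Injective v) (w : Fin n → ℤ) (hw : ∀ i, 0 ≤ w i)
    (L : List (Fin n × Fin n)) (hL : ∀ p ∈ L, G.Adj (v p.1) (v p.2)) :
    0 ≤ 22 * ∑ i, (w i * w i) - 11 * ∑ i, ∑ j, w i * w j * (if (i, j) ∈ L ∨ (j, i) ∈ L then 1 else 0) +
      2 * (∑ i, w i) * (∑ i, w i) := by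
  have h := quad hG (fun i => {v i}) w (fun _ => 1) (fun i => Finset.card_singleton _)
    (fun i j hij => Finset.disjoint_singleton.2 (hv.ne hij))
    (fun i j => if (i, j) ∈ L ∨ (j, i) ∈ L then 1 else 0) (fun i j => by
      refine mul_le_mul_of_nonneg_left ?_ (mul_nonneg (hw i) (hw j))
      split_ifs with h
      · have : G.Adj (v i) (v j) := h.elim (hL _) fun h => (hL _ h).symm
        simp [ecount, this]
      · simp)
  simpa using h

/-- The second common point of a block in `kset` and the parallel block through `a`. -/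
theorem exists_second {y a z u : V} (hy : Far G o y) (ha : G.Adj o a) (hz : z ∈ kset G o y a)
    (hu : Par G o y u) (hau : G.Adj a u) :
    ∃ x, x ≠ a ∧ G.Adj o x ∧ ¬ G.Adj y x ∧ G.Adj z x ∧ G.Adj u x ∧ u ≠ z ∧ (blk G o u ∩ nb z).card = 2 := by
  obtain ⟨haz, h2, hzf, -, -⟩ := mem_kset hG hy ha hz
  have hne : u ≠ z := by
    rintro rfl
    obtain ⟨c, hc⟩ := Finset.card_pos.1 (show 0 < (blk G o y ∩ nb u).card by omega)
    simp only [Finset.mem_inter, mem_blk, G.mem_neighborFinset] at hc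
    exact hu.2.2.2.2 c hc.1.1 hc.1.2 hc.2
  have hmem : a ∈ blk G o u ∩ nb z := by simp [mem_blk, ha, hau.symm, haz.symm]
  have hk : (blk G o u ∩ nb z).card = 2 := by
    have h1 := Finset.card_pos.2 ⟨a, hmem⟩
    have h3 := k_le_two hG hu.2.1 hzf hne
    have h4 := skew hG hu hzf h2
    omega
  obtain ⟨x, hx, hxa⟩ := Finset.exists_mem_ne (show 1 < (blk G o u ∩ nb z).card by omega) a
  simp only [Finset.mem_inter, mem_blk, G.mem_neighborFinset] at hx
  exact ⟨x, hxa, hx.1.1, fun h => hu.2.2.2.2 x hx.1.1 h hx.1.2, hx.2, hx.1.2, hne, hk⟩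

theorem not_three {z0 z1 p q r : V} (hz0 : Far G o z0) (hz1 : Far G o z1) (hne : z0 ≠ z1)
    (hpq : p ≠ q) (hpr : p ≠ r) (hqr : q ≠ r) (op : G.Adj o p) (oq : G.Adj o q) (or' : G.Adj o r)
    (p0 : G.Adj z0 p) (q0 : G.Adj z0 q) (r0 : G.Adj z0 r) (p1 : G.Adj z1 p) (q1 : G.Adj z1 q)
    (r1 : G.Adj z1 r) : False := by
  have h := k_le_two hG hz0 hz1 hne
  have h3 : ({p, q, r} : Finset V).card = 3 := Finset.card_eq_three.2 ⟨p, q, r, hpq, hpr, hqr, rfl⟩
  have : ({p, q, r} : Finset V) ⊆ blk G o z0 ∩ nb z1 := by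
    intro c hc
    simp only [Finset.mem_insert, Finset.mem_singleton] at hc
    rcases hc with rfl | rfl | rfl <;> simp [mem_blk, *]
  have := Finset.card_le_card this
  omega

/-- The two blocks in `kset` cut complementary pairs. -/
theorem kset_compl {y a z0 z1 : V} (hy : Far G o y) (ha : G.Adj o a) (hay : ¬ G.Adj y a)
    (h0 : z0 ∈ kset G o y a) (h1 : z1 ∈ kset G o y a) (hne : z0 ≠ z1) :
    ∀ c, G.Adj o c → G.Adj y c → G.Adj z0 c → ¬ G.Adj z1 c := by
  intro c2 oc2 yc2 zc2 wc2
  obtain ⟨az0, k0, f0, z0y, nz0y⟩ := mem_kset hG hy ha h0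
  obtain ⟨az1, k1, f1, z1y, nz1y⟩ := mem_kset hG hy ha h1
  obtain ⟨u, ⟨au, hu⟩, huu⟩ := par_unique hG hy ha hay
  obtain ⟨x, xa, ox, nyx, zx, ux, uz0, ku0⟩ := exists_second hG hy ha h0 hu au
  obtain ⟨x', xa', ox', nyx', zx', ux', uz1, -⟩ := exists_second hG hy ha h1 hu au
  obtain ⟨c1, hc1, hc12⟩ := Finset.exists_mem_ne (show 1 < (blk G o y ∩ nb z0).card by omega) c2
  obtain ⟨c3, hc3, hc32⟩ := Finset.exists_mem_ne (show 1 < (blk G o y ∩ nb z1).card by omega) c2
  simp only [Finset.mem_inter, mem_blk, G.mem_neighborFinset] at hc1 hc3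
  have a2 : a ≠ c2 := fun h => hay (h ▸ yc2)
  have a1 : a ≠ c1 := fun h => hay (h ▸ hc1.1.2)
  have a3 : a ≠ c3 := fun h => hay (h ▸ hc3.1.2)
  have c13 : c1 ≠ c3 := fun h =>
    not_three hG f0 f1 hne a2 a1 hc12.symm ha oc2 hc1.1.1 az0.symm zc2 hc1.2 az1.symm wc2 (h ▸ hc3.2)
  have xc : ∀ c, G.Adj y c → x ≠ c ∧ x' ≠ c := fun c h => ⟨fun e => nyx (e ▸ h), fun e => nyx' (e ▸ h)⟩
  have xx' : x ≠ x' := fun h =>
    not_three hG f0 f1 hne xa (xc c2 yc2).1 a2 ox ha oc2 zx az0.symm zc2 (h ▸ zx') az1.symm wc2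
  obtain ⟨c4, hc4, hc4n⟩ := Finset.exists_mem_notMem_of_card_lt_card
    (show ({c1, c2, c3} : Finset V).card < (blk G o y).card by
      rw [card_blk hG hy, Finset.card_eq_three.2 ⟨c1, c2, c3, hc12, c13, hc32.symm, rfl⟩]; norm_num)
  simp only [Finset.mem_insert, Finset.mem_singleton, not_or] at hc4n
  rw [mem_blk] at hc4
  -- the third block on `a`, `x` is disjoint from the block of `y`, hence adjacent to `y`
  have hax : ¬ G.Adj a x := no_tri hG ha ox
  obtain ⟨w, hw, hwn⟩ := Finset.exists_mem_notMem_of_card_lt_card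
    (show ({o, z0, u} : Finset V).card < (nb a ∩ nb x).card by
      rw [card_mu hG xa.symm hax]; exact lt_of_le_of_lt Finset.card_le_three (by norm_num))
  simp only [Finset.mem_inter, G.mem_neighborFinset, Finset.mem_insert, Finset.mem_singleton, not_or] at hw hwn
  have fw : Far G o w := far_of_adj hG ha hw.1 hwn.1
  have wy : w ≠ y := fun h => hay (h ▸ hw.1.symm)
  have wu : (blk G o u ∩ nb w).card = 2 := by
    refine le_antisymm (k_le_two hG hu.2.1 fw (Ne.symm hwn.2.2)) ?_
    refine le_trans (Finset.card_pair xa.symm).ge (Finset.card_le_card fun c hc => ?_)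
    simp only [Finset.mem_insert, Finset.mem_singleton] at hc
    rcases hc with rfl | rfl
    · simp [mem_blk, ha, au.symm, hw.1.symm]
    · simp [mem_blk, ox, ux, hw.2.symm]
  have wz1 : w ≠ z1 := fun h =>
    not_three hG f0 f1 hne xa (xc c2 yc2).1 a2 ox ha oc2 zx az0.symm zc2 (h ▸ hw.2.symm) az1.symm wc2
  have wy0 : (blk G o y ∩ nb w).card = 0 := by
    have h3 := k_le_two hG hy fw wy.symm
    have h4 := skew hG hu.symm fw wu
    by_contra h5
    have hwk : w ∈ kset G o y a := Finset.mem_filter.2 ⟨(G.mem_neighborFinset _ _).2 hw.1, by omega⟩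
    have hsub : ({z0, z1, w} : Finset V) ⊆ kset G o y a := by
      intro c hc
      simp only [Finset.mem_insert, Finset.mem_singleton] at hc
      rcases hc with rfl | rfl | rfl <;> assumption
    have := Finset.card_le_card hsub
    rw [Finset.card_eq_three.2 ⟨z0, z1, w, hne, Ne.symm hwn.2.1, wz1.symm, rfl⟩, kset_card hG hy ha hay] at this
    omega
  have hyw : G.Adj w y := by
    by_contra hn
    refine hwn.2.2 (huu w ⟨hw.1, hy, fw, wy.symm, fun h => hn h.symm, fun c oc yc wc => ?_⟩)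
    rw [Finset.card_eq_zero] at wy0
    exact Finset.notMem_empty c (wy0 ▸ by simp [mem_blk, oc, yc, wc])
  have hinj : Function.Injective ![o, y, z0, z1, w, a, c1, c2, c3, c4, x, x'] := by
    have hx4 := xc c4 hc4.2
    have hx1 := xc c1 hc1.1.2
    have hx2 := xc c2 yc2
    have hx3 := xc c3 hc3.1.2
    have hpts : ∀ p, G.Adj o p → p ≠ o ∧ p ≠ y ∧ p ≠ z0 ∧ p ≠ z1 ∧ p ≠ w := fun p hp =>
      ⟨hp.ne', fun h => hy.2 (h ▸ hp), fun h => f0.2 (h ▸ hp), fun h => f1.2 (h ▸ hp), fun h => fw.2 (h ▸ hp)⟩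
    have a4 : a ≠ c4 := fun h => hay (h ▸ hc4.2)
    obtain ⟨pa, pb, pc, pd, pe⟩ := hpts a ha
    have p1 := hpts c1 hc1.1.1
    have p2 := hpts c2 oc2
    have p3 := hpts c3 hc3.1.1
    have p4 := hpts c4 hc4.1
    have p5 := hpts x ox
    have p6 := hpts x' ox'
    have := hy.1
    have := f0.1
    have := f1.1
    have := fw.1
    rw [← List.nodup_ofFn]
    simp [List.ofFn_succ]
    grind
  have h := quad_pts hG ![o, y, z0, z1, w, a, c1, c2, c3, c4, x, x'] hinj ![5, 3, 3, 2, 1, 3, 3, 4, 2, 1, 2, 1]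
    (by intro i; fin_cases i <;> simp)
    [(0, 5), (0, 6), (0, 7), (0, 8), (0, 9), (0, 10), (0, 11), (1, 6), (1, 7), (1, 8), (1, 9), (2, 5), (2, 6),
      (2, 7), (2, 10), (3, 5), (3, 7), (3, 8), (3, 11), (4, 5), (4, 10), (4, 1)]
    (by
      simp [ha, hc1.1.1, oc2, hc3.1.1, hc4.1, ox, ox', hc1.1.2, yc2, hc3.1.2, hc4.2, az0.symm, hc1.2, zc2, zx,
        az1.symm, wc2, hc3.2, zx', hw.1.symm, hw.2.symm, hyw])
  revert h
  decide

/-- The two blocks in `kset` and the parallel block share a second point. -/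
theorem kset_second {y a z0 z1 u : V} (hy : Far G o y) (ha : G.Adj o a) (hay : ¬ G.Adj y a)
    (h0 : z0 ∈ kset G o y a) (h1 : z1 ∈ kset G o y a) (hne : z0 ≠ z1) (hu : Par G o y u) (au : G.Adj a u) :
    ∃ x, x ≠ a ∧ G.Adj o x ∧ ¬ G.Adj y x ∧ G.Adj z0 x ∧ G.Adj z1 x ∧ G.Adj u x := by
  obtain ⟨az0, k0, f0, z0y, nz0y⟩ := mem_kset hG hy ha h0
  obtain ⟨az1, k1, f1, -, -⟩ := mem_kset hG hy ha h1
  obtain ⟨x, xa, ox, nyx, zx, ux, uz0, -⟩ := exists_second hG hy ha h0 hu au
  obtain ⟨d, hd, hdn⟩ := Finset.exists_mem_notMem_of_card_lt_card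
    (show (blk G o y ∩ nb z0).card < (blk G o y).card by rw [k0, card_blk hG hy]; norm_num)
  have hd' := mem_blk.1 hd
  have hz0d : ¬ G.Adj z0 d := fun h => hdn (Finset.mem_inter.2 ⟨hd, (G.mem_neighborFinset _ _).2 h⟩)
  have hyk : y ∈ kset G o z0 d :=
    Finset.mem_filter.2 ⟨(G.mem_neighborFinset _ _).2 hd'.2.symm, by rw [← blk_comm, k0]⟩
  obtain ⟨N, hN, hNy⟩ := Finset.exists_mem_ne
    (show 1 < (kset G o z0 d).card by rw [kset_card hG f0 hd'.1 hz0d]; norm_num) y
  obtain ⟨dN, kN, fN, -, -⟩ := mem_kset hG f0 hd'.1 hN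
  have hcomp := kset_compl hG f0 hd'.1 hz0d hyk hN (Ne.symm hNy)
  have hax : blk G o z0 ∩ nb N = {a, x} := by
    have hr : (blk G o z0 \ nb y).card = 2 := by
      have h := Finset.card_sdiff_add_card_inter (blk G o z0) (nb y)
      rw [← blk_comm, k0, card_blk hG f0] at h
      omega
    have e1 : blk G o z0 ∩ nb N ⊆ blk G o z0 \ nb y := by
      intro c hc
      simp only [Finset.mem_inter, Finset.mem_sdiff, mem_blk, G.mem_neighborFinset] at hc ⊢
      exact ⟨hc.1, fun h => hcomp c hc.1.1 hc.1.2 h hc.2⟩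
    have e2 : ({a, x} : Finset V) ⊆ blk G o z0 \ nb y := by
      intro c hc
      simp only [Finset.mem_insert, Finset.mem_singleton] at hc
      rcases hc with rfl | rfl
      · simp [mem_blk, ha, az0.symm, hay]
      · simp [mem_blk, ox, zx, nyx]
    rw [Finset.eq_of_subset_of_card_le e1 (by rw [hr, kN]),
      Finset.eq_of_subset_of_card_le e2 (by rw [hr, Finset.card_pair xa.symm])]
  have hNa : G.Adj N a := by
    have h : a ∈ blk G o z0 ∩ nb N := by rw [hax]; simp
    simpa using (Finset.mem_inter.1 h).2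
  have hNx : G.Adj N x := by
    have h : x ∈ blk G o z0 ∩ nb N := by rw [hax]; simp
    simpa using (Finset.mem_inter.1 h).2
  have hNu : u ≠ N := fun h => hu.2.2.2.2 d hd'.1 hd'.2 (h ▸ dN.symm)
  have hk : (blk G o u ∩ nb N).card = 2 := by
    refine le_antisymm (k_le_two hG hu.2.1 fN hNu) ?_
    refine le_trans (Finset.card_pair xa.symm).ge (Finset.card_le_card fun c hc => ?_)
    simp only [Finset.mem_insert, Finset.mem_singleton] at hc
    rcases hc with rfl | rfl
    · simp [mem_blk, ha, au.symm, hNa]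
    · simp [mem_blk, ox, ux, hNx]
  have h3 := skew hG hu.symm fN hk
  have h4 := k_le_two hG hy fN (Ne.symm hNy)
  have h5 : 0 < (blk G o y ∩ nb N).card := Finset.card_pos.2 ⟨d, by simp [mem_blk, hd'.1, hd'.2, dN.symm]⟩
  have hNk : N ∈ kset G o y a := Finset.mem_filter.2 ⟨(G.mem_neighborFinset _ _).2 hNa.symm, by omega⟩
  have hN1 : N = z1 := by
    by_contra hn
    have hsub : ({z0, z1, N} : Finset V) ⊆ kset G o y a := by
      intro c hc
      simp only [Finset.mem_insert, Finset.mem_singleton] at hc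
      rcases hc with rfl | rfl | rfl <;> assumption
    have hNz0 : z0 ≠ N := fun h => hz0d (h ▸ dN.symm)
    have h6 := Finset.card_le_card hsub
    rw [Finset.card_eq_three.2 ⟨z0, z1, N, hne, hNz0, Ne.symm hn, rfl⟩, kset_card hG hy ha hay] at h6
    omega
  exact ⟨x, xa, ox, nyx, zx, hN1 ▸ hNx, ux⟩

end Cfsg.Agent.Steiner.SRG77
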