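import Cfsg.Agent.Lib.Steiner.Transport
import Mathlib.Data.Nat.Bitwise
import Mathlib.Data.Fintype.BigOperators

/-!
A checker for case trees over the blocks of a small Steiner system.
-/

set_option autoImplicit false

namespace Cfsg.Agent.Steiner.Search

open Cfsg

variable {v : ℕ}

/-- The mask of a set of points. -/
def msk (S : Finset (Fin v)) : ℕ := Nat.ofBits fun i : Fin v => decide (i ∈ S)

theorem testBit_msk (S : Finset (Fin v)) (i : Fin v) : (msk S).testBit i.val = decide (i ∈ S) := by
  simp [msk, Nat.testBit_ofBits_lt]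

theorem msk_ext {m : ℕ} {S : Finset (Fin v)} (hlt : m < 2 ^ v)
    (h : ∀ i : Fin v, m.testBit i.val = decide (i ∈ S)) : m = msk S := by
  refine Nat.eq_of_testBit_eq fun j => ?_
  by_cases hj : j < v
  · rw [h ⟨j, hj⟩, testBit_msk S ⟨j, hj⟩]
  · rw [Nat.testBit_lt_two_pow (hlt.trans_le (Nat.pow_le_pow_right (by norm_num) (by omega))),
      msk, Nat.testBit_ofBits_ge _ _ (by omega)]

theorem msk_injective : Function.Injective (msk : Finset (Fin v) → ℕ) := by
  intro S T h
  ext i
  have := testBit_msk S i
  rw [h, testBit_msk] at this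
  simpa using this.symm

/-- The points of a mask. -/
def points (v m : ℕ) : List (Fin v) := (List.finRange v).filter fun i => m.testBit i.val

/-- The points outside a mask. -/
def others (v m : ℕ) : List (Fin v) := (List.finRange v).filter fun i => !m.testBit i.val

/-- The masks of the subsets of a given size of a list of points. -/
def combos : ℕ → List (Fin v) → List ℕ
  | 0, _ => [0]
  | _ + 1, [] => []
  | r + 1, a :: l => (combos r l).map (Nat.lor (Nat.shiftLeft 1 a.val)) ++ combos (r + 1) l

/-- The masks of the subsets of size `t` of a mask. -/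
def subs (v t c : ℕ) : List ℕ := combos t (points v c)

/-- The masks of size `k` over a mask of size `t`. -/
def exts (v k t T : ℕ) : List ℕ := (combos (k - t) (others v T)).map (Nat.lor T)

theorem lor_shift_insert (a : Fin v) (S : Finset (Fin v)) :
    Nat.lor (Nat.shiftLeft 1 a.val) (msk S) = msk (insert a S) := by
  refine Nat.eq_of_testBit_eq fun j => ?_
  show (1 <<< a.val ||| msk S).testBit j = _
  rw [Nat.testBit_or, Nat.one_shiftLeft, Nat.testBit_two_pow]
  by_cases hj : j < v
  · rw [testBit_msk S ⟨j, hj⟩, testBit_msk (insert a S) ⟨j, hj⟩]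
    simp [Fin.ext_iff, eq_comm]
  · rw [msk, msk, Nat.testBit_ofBits_ge _ _ (by omega), Nat.testBit_ofBits_ge _ _ (by omega)]
    have := a.isLt
    simp
    omega

theorem msk_empty : msk (∅ : Finset (Fin v)) = 0 := by
  refine Nat.eq_of_testBit_eq fun j => ?_
  by_cases hj : j < v
  · rw [testBit_msk ∅ ⟨j, hj⟩]; simp
  · rw [msk, Nat.testBit_ofBits_ge _ _ (by omega)]; simp

theorem mem_combos_iff : ∀ (l : List (Fin v)) (r m : ℕ), l.Nodup →
    (m ∈ combos r l ↔ ∃ S : Finset (Fin v), S ⊆ l.toFinset ∧ S.card = r ∧ msk S = m)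
  | l, 0, m, _ => by
    simp only [combos, List.mem_singleton]
    exact ⟨fun h => ⟨∅, Finset.empty_subset _, rfl, msk_empty.trans h.symm⟩,
      fun ⟨S, _, hc, hm⟩ => by rw [← hm, Finset.card_eq_zero.1 hc, msk_empty]⟩
  | [], r + 1, m, _ => by
    simp only [combos, List.not_mem_nil, List.toFinset_nil, Finset.subset_empty, false_iff]
    rintro ⟨S, rfl, hc, -⟩
    simp at hc
  | a :: l, r + 1, m, hnd => by
    rw [List.nodup_cons] at hnd
    simp only [combos, List.mem_append, List.mem_map, mem_combos_iff l r _ hnd.2,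
      mem_combos_iff l (r + 1) _ hnd.2, List.toFinset_cons]
    constructor
    · rintro (⟨_, ⟨S, hS, hc, rfl⟩, rfl⟩ | ⟨S, hS, hc, rfl⟩)
      · have ha : a ∉ S := fun h => hnd.1 (List.mem_toFinset.1 (hS h))
        exact ⟨insert a S, Finset.insert_subset_insert _ hS,
          by rw [Finset.card_insert_of_notMem ha, hc], (lor_shift_insert a S).symm⟩
      · exact ⟨S, hS.trans (Finset.subset_insert _ _), hc, rfl⟩
    · rintro ⟨S, hS, hc, rfl⟩
      by_cases ha : a ∈ S
      · refine Or.inl ⟨_, ⟨S.erase a, ?_, by rw [Finset.card_erase_of_mem ha, hc]; rfl, rfl⟩, ?_⟩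
        · exact fun x hx => (Finset.mem_insert.1 (hS (Finset.mem_of_mem_erase hx))).resolve_left
            (Finset.ne_of_mem_erase hx)
        · rw [lor_shift_insert, Finset.insert_erase ha]
      · exact Or.inr ⟨S, (Finset.subset_insert_iff_of_notMem ha).1 hS, hc, rfl⟩

theorem toFinset_points (S : Finset (Fin v)) : (points v (msk S)).toFinset = S := by
  ext i; simp [points, testBit_msk]

theorem toFinset_others (S : Finset (Fin v)) : (others v (msk S)).toFinset = Sᶜ := by
  ext i; simp [others, testBit_msk]

theorem nodup_points (v m : ℕ) : (points v m).Nodup := (List.nodup_finRange v).filter _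

theorem nodup_others (v m : ℕ) : (others v m).Nodup := (List.nodup_finRange v).filter _

theorem mem_subs_iff {t : ℕ} (c : Finset (Fin v)) (m : ℕ) :
    m ∈ subs v t (msk c) ↔ ∃ S : Finset (Fin v), S ⊆ c ∧ S.card = t ∧ msk S = m := by
  rw [subs, mem_combos_iff _ _ _ (nodup_points v _), toFinset_points]

theorem lor_msk (S U : Finset (Fin v)) : Nat.lor (msk S) (msk U) = msk (S ∪ U) := by
  refine Nat.eq_of_testBit_eq fun j => ?_
  show (msk S ||| msk U).testBit j = _
  rw [Nat.testBit_or]
  by_cases hj : j < v
  · rw [testBit_msk S ⟨j, hj⟩, testBit_msk U ⟨j, hj⟩, testBit_msk (S ∪ U) ⟨j, hj⟩]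
    simp
  · simp [msk, Nat.testBit_ofBits_ge _ _ (show v ≤ j by omega)]

theorem mem_exts {k t : ℕ} {T b : Finset (Fin v)} (hT : T.card = t) (hb : b.card = k) (hTb : T ⊆ b) :
    msk b ∈ exts v k t (msk T) := by
  rw [exts, List.mem_map]
  refine ⟨msk (b \ T), ?_, ?_⟩
  · rw [mem_combos_iff _ _ _ (nodup_others v _), toFinset_others]
    exact ⟨b \ T, fun x hx => Finset.mem_compl.2 (Finset.mem_sdiff.1 hx).2,
      by rw [Finset.card_sdiff_of_subset hTb, hT, hb], rfl⟩
  · rw [lor_msk, Finset.union_sdiff_of_subset hTb]

/-- Mark every member of a list in a bit set. -/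
def mark (l : List ℕ) (cov : ℕ) : ℕ := l.foldr (fun s a => Nat.lor a (Nat.shiftLeft 1 s)) cov

theorem testBit_mark (l : List ℕ) (cov j : ℕ) :
    (mark l cov).testBit j = true ↔ j ∈ l ∨ cov.testBit j = true := by
  induction l with
  | nil => simp [mark]
  | cons a l ih =>
    show (mark l cov ||| 1 <<< a).testBit j = true ↔ _
    rw [Nat.testBit_or, Bool.or_eq_true, ih, Nat.one_shiftLeft, Nat.testBit_two_pow]
    simp only [decide_eq_true_eq, List.mem_cons]
    constructor
    · rintro ((h | h) | h)
      · exact Or.inl (Or.inr h)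
      · exact Or.inr h
      · exact Or.inl (Or.inl h.symm)
    · rintro ((h | h) | h)
      · exact Or.inr h.symm
      · exact Or.inl (Or.inl h)
      · exact Or.inl (Or.inr h)

/-- The `t`-sets covered by a list of blocks. -/
def covOf (v t : ℕ) : List ℕ → ℕ
  | [] => 0
  | c :: l => mark (subs v t c) (covOf v t l)

theorem testBit_covOf (t : ℕ) (j : ℕ) : ∀ l : List ℕ,
    (covOf v t l).testBit j = true ↔ ∃ c ∈ l, j ∈ subs v t c
  | [] => by simp [covOf]
  | c :: l => by simp [covOf, testBit_mark, testBit_covOf t j l]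

/-- The image of a point under a packed map. -/
def look (p i : ℕ) : ℕ := Nat.land (Nat.shiftRight p (5 * i)) 31

/-- The image of a mask under a packed map. -/
def imgMask (v p c : ℕ) : ℕ :=
  (List.range v).foldr (fun i a => if c.testBit i then Nat.lor a (Nat.shiftLeft 1 (look p i)) else a) 0

/-- A packed permutation of the points carrying the chosen blocks over all targets. -/
def leafOk (v : ℕ) (target chosen : List ℕ) (p : ℕ) : Bool :=
  ((List.range v).all fun i => decide (look p i < v)) &&
    (decide ((List.range v).map (look p)).Nodup) &&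
    (let img := chosen.map (imgMask v p); target.all fun m => img.contains m)

/-- Apply a checker to each element, threading the data. -/
def each (f : ℕ → List ℕ → Option (List ℕ)) : List ℕ → List ℕ → Option (List ℕ)
  | [], st => some st
  | c :: l, st => (f c st).bind (each f l)

/-- Check a case tree written in prefix order. -/
def check (v k t : ℕ) (target : List ℕ) : ℕ → List ℕ → ℕ → List ℕ → Option (List ℕ)
  | 0, _, _, _ => none
  | _ + 1, _, _, [] => none
  | _ + 1, _, _, [_] => none
  | n + 1, chosen, cov, 0 :: p :: rest => if leafOk v target chosen p then some rest else none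
  | n + 1, chosen, cov, (T + 1) :: q :: rest =>
    if (combos t (List.finRange v)).contains T && !cov.testBit T then
      each (fun c st => check v k t target n (c :: chosen) (mark (subs v t c) cov) st)
        ((exts v k t T).filter fun c => (subs v t c).all fun s => !cov.testBit s) (q :: rest)
    else none

theorem each_spec {f : ℕ → List ℕ → Option (List ℕ)} : ∀ {l st r : List ℕ}, each f l st = some r →
    ∀ c ∈ l, ∃ st' r', f c st' = some r'
  | a :: l, st, r, h, c, hc => by
    simp only [each, Option.bind_eq_some_iff] at h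
    obtain ⟨st', h1, h2⟩ := h
    rcases List.mem_cons.1 hc with rfl | hc
    · exact ⟨_, _, h1⟩
    · exact each_spec h2 c hc

theorem testBit_imgMask (p c j : ℕ) :
    (imgMask v p c).testBit j = true ↔ ∃ i < v, c.testBit i = true ∧ look p i = j := by
  have key : ∀ l : List ℕ,
      (l.foldr (fun i a => if c.testBit i then Nat.lor a (Nat.shiftLeft 1 (look p i)) else a) 0).testBit j
        = true ↔ ∃ i ∈ l, c.testBit i = true ∧ look p i = j := by
    intro l
    induction l with
    | nil => simp
    | cons a l ih =>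
      simp only [List.foldr_cons]
      split
      next h =>
        show (_ ||| 1 <<< look p a).testBit j = true ↔ _
        rw [Nat.testBit_or, Bool.or_eq_true, ih, Nat.one_shiftLeft, Nat.testBit_two_pow]
        simp [List.mem_cons, h]
        exact or_comm
      next h =>
        rw [ih]
        simp [List.mem_cons, h]
  rw [imgMask, key]
  simp only [List.mem_range]

theorem imgMask_msk (p : ℕ) (σ : Fin v → Fin v) (hσ : ∀ i : Fin v, (σ i).val = look p i.val)
    (S : Finset (Fin v)) : imgMask v p (msk S) = msk (S.image σ) := by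
  refine Nat.eq_of_testBit_eq fun j => Bool.eq_iff_iff.2 ?_
  rw [testBit_imgMask]
  constructor
  · rintro ⟨i, hi, hb, rfl⟩
    rw [testBit_msk S ⟨i, hi⟩, decide_eq_true_eq] at hb
    rw [← hσ ⟨i, hi⟩, testBit_msk, decide_eq_true_eq]
    exact Finset.mem_image_of_mem σ hb
  · intro h
    by_cases hj : j < v
    · rw [testBit_msk _ ⟨j, hj⟩, decide_eq_true_eq, Finset.mem_image] at h
      obtain ⟨i, hi, e⟩ := h
      exact ⟨i.val, i.isLt, by rw [testBit_msk]; simpa using hi,
        by rw [← hσ, e]⟩
    · rw [msk, Nat.testBit_ofBits_ge _ _ (by omega)] at h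
      simp at h

theorem check_spec {k t : ℕ} {target : List ℕ} {B : Set (Finset (Fin v))} (hB : IsSteinerSystem t k B) :
    ∀ (n : ℕ) (chosen : List ℕ) (cov : ℕ) (st r : List ℕ), check v k t target n chosen cov st = some r →
      cov = covOf v t chosen → (∀ c ∈ chosen, ∃ b ∈ B, msk b = c) →
      ∃ σ : Equiv.Perm (Fin v), ∀ m ∈ target, ∃ b ∈ B, msk (b.image σ) = m := by
  intro n
  induction n with
  | zero => intro _ _ _ _ h; simp [check] at h
  | succ n ih =>
    intro chosen cov st r h hcov hch
    match st, h with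
    | [], h => simp [check] at h
    | [_], h => simp [check] at h
    | 0 :: p :: rest, h =>
      simp only [check, Option.ite_none_right_eq_some] at h
      have hl := h.1
      simp only [leafOk, Bool.and_eq_true, List.all_eq_true, List.mem_range, decide_eq_true_eq,
        List.contains_iff_mem, List.mem_map] at hl
      obtain ⟨⟨hlt, hnd⟩, htar⟩ := hl
      let f : Fin v → Fin v := fun i => ⟨look p i.val, hlt i.val i.isLt⟩
      have hf : Function.Injective f := fun i j e => Fin.ext
        (List.inj_on_of_nodup_map hnd (List.mem_range.2 i.isLt) (List.mem_range.2 j.isLt) (congrArg Fin.val e))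
      refine ⟨Equiv.ofBijective f (Finite.injective_iff_bijective.1 hf), fun m hm => ?_⟩
      obtain ⟨c, hc, rfl⟩ := htar m hm
      obtain ⟨b, hb, rfl⟩ := hch c hc
      exact ⟨b, hb, (imgMask_msk p f (fun _ => rfl) b).symm⟩
    | (T + 1) :: q :: rest, h =>
      simp only [check, Option.ite_none_right_eq_some, Bool.and_eq_true, List.contains_iff_mem,
        Bool.not_eq_true'] at h
      obtain ⟨⟨hT, hTc⟩, he⟩ := h
      rw [mem_combos_iff _ _ _ (List.nodup_finRange v)] at hT
      obtain ⟨S, -, hSc, rfl⟩ := hT
      obtain ⟨b, ⟨hb, hSb⟩, -⟩ := hB.2 S hSc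
      obtain ⟨st', r', h'⟩ := each_spec he (msk b) (by
        rw [List.mem_filter, List.all_eq_true]
        refine ⟨mem_exts hSc (hB.1 b hb) hSb, fun s hs => ?_⟩
        obtain ⟨U, hU, hUc, rfl⟩ := (mem_subs_iff b s).1 hs
        by_contra hne
        rw [Bool.not_eq_true', Bool.not_eq_false, hcov, testBit_covOf] at hne
        obtain ⟨c, hc, hUs⟩ := hne
        obtain ⟨d, hd, rfl⟩ := hch c hc
        obtain ⟨U', hU', hU'c, e⟩ := (mem_subs_iff d _).1 hUs
        rw [msk_injective e] at hU'
        have hbd : b = d := (hB.2 U hUc).unique ⟨hb, hU⟩ ⟨hd, hU'⟩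
        have : (covOf v t chosen).testBit (msk S) = true := (testBit_covOf t _ chosen).2
          ⟨msk d, hc, (mem_subs_iff d _).2 ⟨S, hbd ▸ hSb, hSc, rfl⟩⟩
        rw [← hcov, hTc] at this
        exact Bool.false_ne_true this)
      refine ih _ _ st' r' h' (by rw [covOf, hcov]) ?_
      intro c hc
      rcases List.mem_cons.1 hc with rfl | hc
      · exact ⟨b, hb, rfl⟩
      · exact hch c hc

/-- The masks of a list as a set system. -/
def sysOf (v : ℕ) (l : List ℕ) : Set (Finset (Fin v)) := {b | msk b ∈ l}

/-- Every `t`-set is in exactly one of the listed `k`-sets. -/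
def steinerOk (v k t : ℕ) (l : List ℕ) : Bool :=
  (l.all fun c => decide (c < 2 ^ v) && ((points v c).length == k)) &&
    ((combos t (List.finRange v)).all fun T => (l.filter fun c => Nat.land T c == T).length == 1)

theorem land_eq_self_iff (S U : Finset (Fin v)) : Nat.land (msk S) (msk U) = msk S ↔ S ⊆ U := by
  constructor
  · intro h i hi
    have := congrArg (fun m : ℕ => m.testBit i.val) h
    simp only [show Nat.land (msk S) (msk U) = msk S &&& msk U from rfl, Nat.testBit_and,
      testBit_msk, hi, decide_true, Bool.true_and, decide_eq_true_eq] at this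
    exact this
  · intro h
    refine Nat.eq_of_testBit_eq fun j => ?_
    show (msk S &&& msk U).testBit j = _
    rw [Nat.testBit_and]
    by_cases hj : j < v
    · rw [testBit_msk S ⟨j, hj⟩, testBit_msk U ⟨j, hj⟩]
      by_cases hs : (⟨j, hj⟩ : Fin v) ∈ S
      · simp [hs, h hs]
      · simp [hs]
    · simp [msk, Nat.testBit_ofBits_ge _ _ (show v ≤ j by omega)]

theorem isSteiner_sysOf {k t : ℕ} {l : List ℕ} (h : steinerOk v k t l = true) :
    IsSteinerSystem t k (sysOf v l) := by
  simp only [steinerOk, Bool.and_eq_true, List.all_eq_true, beq_iff_eq, decide_eq_true_eq] at h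
  refine ⟨fun b hb => ?_, fun S hS => ?_⟩
  · rw [← (h.1 _ hb).2, ← List.toFinset_card_of_nodup (show (points v (msk b)).Nodup from (List.nodup_finRange v).filter _),
      toFinset_points]
  · have h1 := h.2 (msk S) ((mem_combos_iff _ _ _ (List.nodup_finRange v)).2 ⟨S, by simp, hS, rfl⟩)
    obtain ⟨c, hc⟩ := List.length_eq_one_iff.1 h1
    have hmem : c ∈ l.filter fun c => Nat.land (msk S) c == msk S := hc ▸ List.mem_singleton_self c
    simp only [List.mem_filter, beq_iff_eq] at hmem
    have e : c = msk (Finset.univ.filter fun i : Fin v => c.testBit i.val) :=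
      msk_ext (h.1 c hmem.1).1 fun i => by simp
    refine ⟨_, ⟨show msk _ ∈ l from e ▸ hmem.1, (land_eq_self_iff _ _).1 (e ▸ hmem.2)⟩, ?_⟩
    rintro b ⟨hb, hSb⟩
    have : msk b ∈ l.filter fun c => Nat.land (msk S) c == msk S := by
      simp only [List.mem_filter, beq_iff_eq]; exact ⟨hb, (land_eq_self_iff _ _).2 hSb⟩
    rw [hc, List.mem_singleton] at this
    exact msk_injective (this.trans e)

end Cfsg.Agent.Steiner.Search
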