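import Cfsg.Agent.Lib.Steiner.Search
import Cfsg.Agent.Lib.Steiner.Small
import Cfsg.Agent.Lib.Steiner.Graphs
import Cfsg.Agent.Lib.Steiner.Data22
import Cfsg.Agent.Lib.Golay.Mask

/-!
Every S(3, 6, 22) is the standard one.
-/

set_option autoImplicit false

namespace Cfsg.Agent.Steiner.Search22

open Cfsg Search

theorem pop_msk {v : ℕ} (hv : v ≤ 24) (S : Finset (Fin v)) : Golay24.pop24 (msk S) = S.card := by
  rw [Golay24.pop24_eq_popTo, Golay24.popTo_eq_sum, ← Finset.card_filter,
    ← Finset.card_map (Fin.castLEEmb hv)]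
  congr 1
  ext i
  simp only [Finset.mem_filter, Finset.mem_univ, true_and, Finset.mem_map, Fin.castLEEmb_apply]
  constructor
  · intro h
    by_cases hi : i.val < v
    · exact ⟨⟨i.val, hi⟩, by simpa [testBit_msk S ⟨i.val, hi⟩] using h, Fin.ext rfl⟩
    · rw [msk, Nat.testBit_ofBits_ge _ _ (by omega)] at h
      simp at h
  · rintro ⟨j, hj, rfl⟩
    simpa [testBit_msk] using hj

theorem land_msk {v : ℕ} (S U : Finset (Fin v)) : Nat.land (msk S) (msk U) = msk (S ∩ U) := by
  refine Nat.eq_of_testBit_eq fun j => ?_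
  show (msk S &&& msk U).testBit j = _
  rw [Nat.testBit_and]
  by_cases hj : j < v
  · rw [testBit_msk S ⟨j, hj⟩, testBit_msk U ⟨j, hj⟩, testBit_msk (S ∩ U) ⟨j, hj⟩]
    simp
  · simp [msk, Nat.testBit_ofBits_ge _ _ (show v ≤ j by omega)]

/-- A word with no or exactly two set bits. -/
def twoBits (x : ℕ) : Bool :=
  cond (Nat.beq x 0) true
    ((fun y => cond (Nat.beq y 0) false (Nat.beq (Nat.land y (Nat.sub y 1)) 0)) (Nat.land x (Nat.sub x 1)))

/-- A word with at most two set bits. -/
def atMostTwo (x : ℕ) : Bool :=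
  (fun y => Nat.beq (Nat.land y (Nat.sub y 1)) 0) (Nat.land x (Nat.sub x 1))

/-- All of a list, by the recursor. -/
noncomputable def allR (f : ℕ → Bool) (l : List ℕ) : Bool :=
  List.rec (motive := fun _ => Bool) true (fun a _ r => cond (f a) r false) l

/-- A filtered list, by the recursor. -/
noncomputable def filterR (f : ℕ → Bool) (l : List ℕ) : List ℕ :=
  List.rec (motive := fun _ => List ℕ) [] (fun a _ r => cond (f a) (a :: r) r) l

/-- Add `r` of the single bits in `L`, pruning by `keep`. -/
noncomputable def grow (keep : ℕ → Bool) (L : List ℕ) : ℕ → ℕ → List ℕ :=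
  List.rec (motive := fun _ => ℕ → ℕ → List ℕ) (fun r acc => cond (Nat.beq r 0) [acc] [])
    (fun a _ ih r acc => cond (Nat.beq r 0) [acc]
      ((fun acc' => cond (keep acc') (ih (Nat.sub r 1) acc') []) (Nat.lor acc a) ++ ih r acc)) L

/-- The masks of size `k` over `T` meeting each chosen mask in no or two points. -/
noncomputable def cands (v k t : ℕ) (chosen : List ℕ) (T : ℕ) : List ℕ :=
  filterR (fun c => allR (fun d => twoBits (Nat.land c d)) chosen)
    (grow (fun x => allR (fun d => atMostTwo (Nat.land x d)) chosen)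
      ((others v T).map fun i => Nat.shiftLeft 1 i.val) (k - t) T)

theorem allR_eq_true (f : ℕ → Bool) : ∀ l, allR f l = true ↔ ∀ a ∈ l, f a = true
  | [] => by simp [allR]
  | a :: l => by
    show cond (f a) (allR f l) false = true ↔ _
    cases h : f a <;> simp [h, allR_eq_true f l]

theorem mem_filterR (f : ℕ → Bool) (x : ℕ) : ∀ l, x ∈ l → f x = true → x ∈ filterR f l
  | a :: l, hx, hf => by
    show x ∈ cond (f a) (a :: filterR f l) (filterR f l)
    rcases List.mem_cons.1 hx with rfl | hx
    · simp [hf]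
    · cases f a <;> simp [mem_filterR f x l hx hf]

theorem mem_grow {v : ℕ} (keep : ℕ → Bool) :
    ∀ (L : List (Fin v)) (r : ℕ) (A S : Finset (Fin v)), L.Nodup → S ⊆ L.toFinset → S.card = r →
      (∀ U : Finset (Fin v), U ⊆ A ∪ S → keep (msk U) = true) →
      msk (A ∪ S) ∈ grow keep (L.map fun i => Nat.shiftLeft 1 i.val) r (msk A)
  | [], r, A, S, _, hS, hr, _ => by
    obtain rfl : S = ∅ := Finset.subset_empty.1 (by simpa using hS)
    subst hr
    simp [grow]
  | a :: L, 0, A, S, _, _, hr, _ => by
    obtain rfl : S = ∅ := Finset.card_eq_zero.1 hr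
    simp [grow]
  | a :: L, r + 1, A, S, hnd, hS, hr, hk => by
    rw [List.nodup_cons] at hnd
    show msk (A ∪ S) ∈ (cond (keep (Nat.lor (msk A) (Nat.shiftLeft 1 a.val)))
      (grow keep (L.map fun i => Nat.shiftLeft 1 i.val) r (Nat.lor (msk A) (Nat.shiftLeft 1 a.val))) []) ++
      grow keep (L.map fun i => Nat.shiftLeft 1 i.val) (r + 1) (msk A)
    rw [List.mem_append, show Nat.lor (msk A) (Nat.shiftLeft 1 a.val) = msk (insert a A) by
      rw [← lor_shift_insert]; exact Nat.lor_comm _ _]
    by_cases ha : a ∈ S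
    · have e : A ∪ S = insert a A ∪ S.erase a := by
        rw [Finset.insert_union, ← Finset.union_insert, Finset.insert_erase ha]
      refine Or.inl ?_
      rw [hk _ (Finset.insert_subset (Finset.mem_union_right _ ha) Finset.subset_union_left), cond_true, e]
      refine mem_grow keep L r _ _ hnd.2 ?_ (by rw [Finset.card_erase_of_mem ha, hr]; rfl) fun U hU => hk U (e ▸ hU)
      exact fun x hx => List.mem_toFinset.2 ((List.mem_cons.1 (List.mem_toFinset.1
        (hS (Finset.mem_of_mem_erase hx)))).resolve_left (Finset.ne_of_mem_erase hx))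
    · refine Or.inr (mem_grow keep L (r + 1) A S hnd.2 ?_ hr hk)
      exact fun x hx => List.mem_toFinset.2 ((List.mem_cons.1 (List.mem_toFinset.1 (hS hx))).resolve_left
        fun e => ha (e ▸ hx))

theorem small_masks : (∀ i : Fin 24, atMostTwo (Nat.shiftLeft 1 i.val) = true) ∧
    (∀ i j : Fin 24, i ≠ j → atMostTwo (Nat.lor (Nat.shiftLeft 1 i.val) (Nat.shiftLeft 1 j.val)) = true ∧
      twoBits (Nat.lor (Nat.shiftLeft 1 i.val) (Nat.shiftLeft 1 j.val)) = true) := by decide +kernel

theorem msk_pair {v : ℕ} (a b : Fin v) :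
    msk ({a, b} : Finset (Fin v)) = Nat.lor (Nat.shiftLeft 1 a.val) (Nat.shiftLeft 1 b.val) := by
  rw [← lor_shift_insert, show ({b} : Finset (Fin v)) = insert b ∅ from rfl, ← lor_shift_insert, msk_empty]
  exact congrArg (Nat.lor _) (Nat.or_zero _)

theorem atMostTwo_msk {v : ℕ} (hv : v ≤ 24) (S : Finset (Fin v)) (h : S.card ≤ 2) :
    atMostTwo (msk S) = true := by
  interval_cases hc : S.card
  · rw [Finset.card_eq_zero.1 hc, msk_empty]; rfl
  · obtain ⟨a, rfl⟩ := Finset.card_eq_one.1 hc
    rw [show ({a} : Finset (Fin v)) = insert a ∅ from rfl, ← lor_shift_insert, msk_empty]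
    exact (congrArg atMostTwo (Nat.or_zero _)).trans (small_masks.1 (a.castLE hv))
  · obtain ⟨a, b, hne, rfl⟩ := Finset.card_eq_two.1 hc
    rw [msk_pair]
    exact (small_masks.2 (a.castLE hv) (b.castLE hv) fun e => hne (Fin.castLE_injective hv e)).1

theorem twoBits_msk {v : ℕ} (hv : v ≤ 24) (S : Finset (Fin v)) (h : S.card = 0 ∨ S.card = 2) :
    twoBits (msk S) = true := by
  rcases h with h | h
  · rw [Finset.card_eq_zero.1 h, msk_empty]; rfl
  · obtain ⟨a, b, hne, rfl⟩ := Finset.card_eq_two.1 h
    rw [msk_pair]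
    exact (small_masks.2 (a.castLE hv) (b.castLE hv) fun e => hne (Fin.castLE_injective hv e)).2

/-- Check a case tree, pruning by the allowed intersection sizes. -/
noncomputable def check (v k t : ℕ) (target : List ℕ) : ℕ → List ℕ → List ℕ → Option (List ℕ)
  | 0, _, _ => none
  | _ + 1, _, [] => none
  | _ + 1, _, [_] => none
  | n + 1, chosen, 0 :: p :: rest => if leafOk v target chosen p then some rest else none
  | n + 1, chosen, (T + 1) :: q :: rest =>
    if decide (T < 2 ^ v) && (Nat.beq (Golay24.pop24 T) t) && allR (fun d => !(Nat.beq (Nat.land T d) T)) chosen then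
      each (fun c st => check v k t target n (c :: chosen) st) (cands v k t chosen T) (q :: rest)
    else none

theorem check_spec {v k t : ℕ} (hv : v ≤ 24) {target : List ℕ} {B : Set (Finset (Fin v))}
    (hB : IsSteinerSystem t k B) (hmeet : ∀ b ∈ B, ∀ c ∈ B, b ≠ c → (b ∩ c).card = 0 ∨ (b ∩ c).card = 2) :
    ∀ (n : ℕ) (chosen : List ℕ) (st r : List ℕ), check v k t target n chosen st = some r →
      (∀ c ∈ chosen, ∃ b ∈ B, msk b = c) →
      ∃ σ : Equiv.Perm (Fin v), ∀ m ∈ target, ∃ b ∈ B, msk (b.image σ) = m := by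
  intro n
  induction n with
  | zero => intro _ _ _ h; simp [check] at h
  | succ n ih =>
    intro chosen st r h hch
    match st, h with
    | [], h => simp [check] at h
    | [_], h => simp [check] at h
    | 0 :: p :: rest, h =>
      simp only [check, Option.ite_none_right_eq_some] at h
      have hl := h.1
      simp only [leafOk, Bool.and_eq_true, List.all_eq_true, List.mem_range, decide_eq_true_eq,
        List.contains_iff_mem, List.mem_map] at hl
      obtain ⟨⟨hlt, hnd⟩, htar⟩ := hl
      let f : Fin v → Fin v := fun i => ⟨look p i.val, hlt i.val i.isLt⟩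
      have hf : Function.Injective f := fun i j e => Fin.ext
        (List.inj_on_of_nodup_map hnd (List.mem_range.2 i.isLt) (List.mem_range.2 j.isLt) (congrArg Fin.val e))
      refine ⟨Equiv.ofBijective f (Finite.injective_iff_bijective.1 hf), fun m hm => ?_⟩
      obtain ⟨c, hc, rfl⟩ := htar m hm
      obtain ⟨b, hb, rfl⟩ := hch c hc
      exact ⟨b, hb, (imgMask_msk p f (fun _ => rfl) b).symm⟩
    | (T + 1) :: q :: rest, h =>
      simp only [check, Option.ite_none_right_eq_some, Bool.and_eq_true, decide_eq_true_eq, Nat.beq_eq,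
        allR_eq_true, Bool.not_eq_true'] at h
      obtain ⟨⟨⟨hlt, hpop⟩, hunc⟩, he⟩ := h
      have eT : T = msk (Finset.univ.filter fun i : Fin v => T.testBit i.val) := msk_ext hlt fun i => by simp
      generalize hS : (Finset.univ.filter fun i : Fin v => T.testBit i.val) = S at eT
      subst eT
      rw [pop_msk hv] at hpop
      obtain ⟨b, ⟨hb, hSb⟩, -⟩ := hB.2 S hpop
      have hd : ∀ s ∈ chosen, ∃ d ∈ B, msk d = s ∧ ((b ∩ d).card = 0 ∨ (b ∩ d).card = 2) := fun s hs => by
        obtain ⟨d, hd, rfl⟩ := hch s hs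
        refine ⟨d, hd, rfl, hmeet b hb d hd fun e => ?_⟩
        subst e
        have h1 := hunc _ hs
        rw [(land_eq_self_iff S b).2 hSb] at h1
        simp at h1
      obtain ⟨st', r', h'⟩ := each_spec he (msk b) (by
        refine mem_filterR _ _ _ ?_ ((allR_eq_true _ _).2 fun s hs => ?_)
        · have hkeep := mem_grow (fun x => allR (fun d => atMostTwo (Nat.land x d)) chosen)
            (others v (msk S)) (k - t) S (b \ S) (nodup_others v _) ?_ ?_ ?_
          · rwa [Finset.union_sdiff_of_subset hSb] at hkeep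
          · rw [toFinset_others]; exact fun x hx => Finset.mem_compl.2 (Finset.mem_sdiff.1 hx).2
          · rw [Finset.card_sdiff_of_subset hSb, hB.1 b hb, hpop]
          · intro U hU
            rw [Finset.union_sdiff_of_subset hSb] at hU
            rw [allR_eq_true]
            intro s hs
            obtain ⟨d, -, rfl, hc⟩ := hd s hs
            rw [land_msk]
            refine atMostTwo_msk hv _ ((Finset.card_le_card (Finset.inter_subset_inter_right hU)).trans ?_)
            omega
        · obtain ⟨d, -, rfl, hc⟩ := hd s hs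
          rw [land_msk]
          exact twoBits_msk hv _ hc)
      refine ih _ st' r' h' ?_
      intro c hc
      rcases List.mem_cons.1 hc with rfl | hc
      · exact ⟨b, hb, rfl⟩
      · exact hch c hc

set_option Elab.async false

theorem steiner22_ok : steinerOk 22 6 3 std22 = true := by decide +kernel
theorem treeE_ok : check 22 6 3 frame22 100 init22 treeE = some [] := by decide +kernel
theorem treeF_ok : check 22 6 3 std22 100 frame22 treeF = some [] := by decide +kernel

end Cfsg.Agent.Steiner.Search22
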