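import Cfsg.Agent.Lib.PermGp.PrimeDegree
import Cfsg.Agent.Lib.Golay.SimpleCrit
import Mathlib.GroupTheory.GroupAction.MultipleTransitivity

/-!
A sharply 4-transitive group of degree 11 is simple, and so is a sharply 5-transitive one of degree 12.
-/

set_option autoImplicit false

namespace Cfsg.Agent.Sharp11

open MulAction

variable {α : Type*} [Fintype α] [DecidableEq α]

theorem card_of_sharp {n : ℕ} (hn : n ≤ Fintype.card α) (G : Subgroup (Equiv.Perm α))
    [IsMultiplyPretransitive G α n] (hsharp : ∀ x : Fin n ↪ α, stabilizer G x = ⊥) :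
    Nat.card G = (Fintype.card α).descFactorial n := by
  haveI : IsPretransitive G (Fin n ↪ α) := ‹IsMultiplyPretransitive G α n›
  obtain ⟨x⟩ : Nonempty (Fin n ↪ α) := Function.Embedding.nonempty_of_card_le (by simpa using hn)
  have hb : Function.Bijective fun g : G => g • x := by
    refine ⟨fun g h e => ?_, fun y => exists_smul_eq G x y⟩
    have hm : h⁻¹ * g ∈ stabilizer G x := by
      refine Function.Embedding.ext fun i => ?_
      show h.1.symm (g.1 (x i)) = x i
      rw [Equiv.symm_apply_eq]
      exact congrArg (fun f : Fin n ↪ α => f i) e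
    rw [hsharp x, Subgroup.mem_bot, inv_mul_eq_one] at hm
    exact hm.symm
  rw [Nat.card_congr (Equiv.ofBijective _ hb), Nat.card_eq_fintype_card, Fintype.card_embedding_eq,
    Fintype.card_fin]

theorem twoTransOn {n : ℕ} (h2 : 2 ≤ n) (hn : n ≤ Fintype.card α) (G : Subgroup (Equiv.Perm α))
    [IsMultiplyPretransitive G α n] : Golay24.TwoTransOn G (Set.univ : Set α) where
  maps _ _ _ := Set.mem_univ _
  pairs := by
    intro a _ b _ c _ d _ hab hcd
    haveI : IsMultiplyPretransitive G α 2 :=
      isMultiplyPretransitive_of_le h2 (by simpa using hn)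
    exact is_two_pretransitive_iff.1 inferInstance hab hcd
  faithful g hg := Subtype.ext (Equiv.ext fun x => hg x (Set.mem_univ x))

theorem order_prime_count {H : Type*} [Group H] [Fintype H] [DecidableEq H] {p : ℕ} [hp : Fact p.Prime]
    (hP : ∀ P : Sylow p H, Nat.card (P : Subgroup H) = p) :
    Nat.card (Sylow p H) * (p - 1) ≤ (Finset.univ.filter fun g : H => orderOf g = p).card := by
  classical
  haveI : Fintype (Sylow p H) := Fintype.ofFinite _
  let F : Sylow p H → Finset H := fun P => Finset.univ.filter fun g => g ∈ (P : Subgroup H) ∧ orderOf g = p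
  have hF : ∀ P, (F P).card = p - 1 := by
    intro P
    have e : F P = (Finset.univ.filter fun g => g ∈ (P : Subgroup H)).erase 1 := by
      ext g
      simp only [F, Finset.mem_filter, Finset.mem_univ, true_and, Finset.mem_erase]
      refine ⟨fun h => ⟨fun e => ?_, h.1⟩, fun h => ⟨h.2, ?_⟩⟩
      · rw [e, orderOf_one] at h; exact hp.out.one_lt.ne h.2
      · refine orderOf_eq_prime ?_ h.1
        have := pow_card_eq_one' (G := (P : Subgroup H)) (x := ⟨g, h.2⟩)
        rw [hP] at this
        exact congrArg Subtype.val this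
    rw [e, Finset.card_erase_of_mem (by simp [Subgroup.one_mem]), ← Fintype.card_subtype,
      ← Nat.card_eq_fintype_card]
    exact congrArg (· - 1) (hP P)
  have hdisj : ((Finset.univ : Finset (Sylow p H)) : Set (Sylow p H)).PairwiseDisjoint F := by
    intro P _ Q _ hne
    rw [Function.onFun, Finset.disjoint_left]
    intro g hg hg'
    simp only [F, Finset.mem_filter, Finset.mem_univ, true_and] at hg hg'
    apply hne
    have key : ∀ R : Sylow p H, g ∈ (R : Subgroup H) → Subgroup.zpowers g = (R : Subgroup H) := fun R hR =>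
      Subgroup.eq_of_le_of_card_ge (Subgroup.zpowers_le.2 hR) (by rw [hP, Nat.card_zpowers, hg.2])
    exact Sylow.ext ((key P hg.1).symm.trans (key Q hg'.1))
  calc Nat.card (Sylow p H) * (p - 1) = ((Finset.univ : Finset (Sylow p H)).biUnion F).card := by
        rw [Finset.card_biUnion hdisj, Finset.sum_const_nat (fun P _ => hF P), Finset.card_univ,
          Nat.card_eq_fintype_card]
    _ ≤ _ := Finset.card_le_card fun g hg => by
        obtain ⟨P, -, h⟩ := Finset.mem_biUnion.1 hg
        exact Finset.mem_filter.2 ⟨Finset.mem_univ _, (Finset.mem_filter.1 h).2.2⟩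

theorem sylow_eleven : ∀ d ∈ Nat.divisors 10, ∀ n ∈ Nat.divisors 720,
    d * n ∣ 720 → n % 11 = 1 → (d * n = 720 → d = 5 ∧ n = 144) ∧ (144 ≤ n → n = 144 ∧ (d = 5 ∨ d = 1)) := by
  decide +kernel

theorem simple_of_sharp_four (hα : Fintype.card α = 11) (G : Subgroup (Equiv.Perm α))
    [IsMultiplyPretransitive G α 4] (hsharp : ∀ x : Fin 4 ↪ α, stabilizer G x = ⊥) :
    IsSimpleGroup G ∧ Nat.card G = 7920 := by
  classical
  have hG : Nat.card G = 7920 := by rw [card_of_sharp (by omega) G hsharp, hα]; decide
  refine ⟨?_, hG⟩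
  haveI : Fact (Nat.Prime 11) := ⟨by norm_num⟩
  haveI : Nontrivial G := Finite.one_lt_card_iff_nontrivial.1 (by omega)
  have hT := twoTransOn (n := 4) (by norm_num) (by omega) G
  haveI : IsPretransitive G α := by
    haveI : IsMultiplyPretransitive G α 1 := isMultiplyPretransitive_of_le (by norm_num : 1 ≤ 4) (by simp [hα])
    exact is_one_pretransitive_iff.1 inferInstance
  obtain ⟨P₀⟩ : Nonempty (Sylow 11 G) := inferInstance
  obtain ⟨dG, hdG, hGc, hGm⟩ := PermGp.card_eq_mul_sylow hα G P₀
  rw [hG] at hGc
  have hG720 : dG * Nat.card (Sylow 11 G) = 720 := by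
    have : 11 * (dG * Nat.card (Sylow 11 G)) = 11 * 720 := by rw [← mul_assoc, ← hGc]
    omega
  obtain ⟨-, hnG⟩ := (sylow_eleven dG (Nat.mem_divisors.2 ⟨hdG, by norm_num⟩) _
    (Nat.mem_divisors.2 ⟨Dvd.intro_left _ hG720, by norm_num⟩) (hG720 ▸ dvd_rfl) hGm).1 hG720
  refine ⟨fun N hN => ?_⟩
  by_cases hbot : N = ⊥
  · exact Or.inl hbot
  right
  haveI := hN
  let M : Subgroup (Equiv.Perm α) := N.map G.subtype
  haveI : IsPretransitive M α := ⟨fun x y => by
    obtain ⟨g, hg, h⟩ := hT.normal_transitive N hbot (Set.mem_univ x) (Set.mem_univ y)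
    exact ⟨⟨_, g, hg, rfl⟩, h⟩⟩
  let eM : N ≃* M := N.equivMapOfInjective G.subtype G.subtype_injective
  obtain ⟨Q⟩ : Nonempty (Sylow 11 M) := inferInstance
  obtain ⟨d, hd, hMc, hMm⟩ := PermGp.card_eq_mul_sylow hα M Q
  have hNM : Nat.card N = Nat.card M := Nat.card_congr eM.toEquiv
  have hsy : Nat.card (Sylow 11 G) ≤ Nat.card (Sylow 11 N) := by
    obtain ⟨R⟩ : Nonempty (Sylow 11 N) := inferInstance
    have hRc : Nat.card (R : Subgroup N) = 11 := by
      rw [Sylow.card_eq_multiplicity, hNM, ← Sylow.card_eq_multiplicity Q, PermGp.card_sylow hα M Q]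
    let S : Sylow 11 G := Sylow.ofCard ((R : Subgroup N).map N.subtype) (by
      rw [Subgroup.card_map_of_injective N.subtype_injective, hRc, PermGp.factorization_card hα G, pow_one])
    have hle : ∀ P : Sylow 11 G, (P : Subgroup G) ≤ N := fun P => by
      obtain ⟨g, rfl⟩ := exists_smul_eq G S P
      intro x hx
      rw [Sylow.coe_subgroup_smul, Subgroup.mem_pointwise_smul_iff_inv_smul_mem] at hx
      obtain ⟨y, -, hy⟩ : (MulAut.conj g)⁻¹ • x ∈ (R : Subgroup N).map N.subtype := hx
      have := hN.conj_mem _ (hy ▸ y.2 : (MulAut.conj g)⁻¹ • x ∈ N) g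
      simpa [MulAut.smul_def, mul_assoc] using this
    exact Nat.card_le_card_of_injective (fun P => P.subtype (hle P))
      fun P P' h => Sylow.subtype_injective h
  have hcN : Nat.card (Sylow 11 N) ≤ Nat.card (Sylow 11 M) :=
    Nat.card_le_card_of_injective (fun P => P.mapSurjective (f := eM.toMonoidHom) eM.surjective)
      fun P P' h => Sylow.ext (Subgroup.map_injective eM.injective (congrArg (fun Q : Sylow 11 M => (Q : Subgroup M)) h))
  have hdiv : d * Nat.card (Sylow 11 M) ∣ 720 := by
    have h := Subgroup.card_subgroup_dvd_card N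
    rw [hNM, hMc, hG, mul_assoc, show 7920 = 11 * 720 from rfl] at h
    exact Nat.dvd_of_mul_dvd_mul_left (by norm_num) h
  obtain ⟨hn, hd15⟩ := (sylow_eleven d (Nat.mem_divisors.2 ⟨hd, by norm_num⟩) _
    (Nat.mem_divisors.2 ⟨(dvd_mul_left _ _).trans hdiv, by norm_num⟩) hdiv hMm).2 (by omega)
  rcases hd15 with rfl | rfl
  · apply Subgroup.eq_top_of_card_eq
    omega
  · exfalso
    rw [hn] at hMc
    haveI : Fintype M := Fintype.ofFinite _
    have hS := order_prime_count (H := M) (p := 11) (PermGp.card_sylow hα M)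
    rw [hn] at hS
    let T : Finset M := Finset.univ.filter fun g => orderOf g ≠ 11
    have hTc : T.card ≤ 144 := by
      have := Finset.card_filter_add_card_filter_not (s := (Finset.univ : Finset M)) (fun g => orderOf g = 11)
      rw [Finset.card_univ, ← Nat.card_eq_fintype_card, hMc] at this
      simp only [T, ne_eq]
      omega
    have hstab : ∀ x : α, Finset.univ.filter (fun g : M => g • x = x) = T := by
      intro x
      have hc : Nat.card (stabilizer M x) = 144 := by
        have h := card_mul_card_stabilizer_aux M x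
        rw [hMc, hα] at h
        omega
      refine Finset.eq_of_subset_of_card_le ?_ ?_
      · intro g hg
        simp only [Finset.mem_filter, Finset.mem_univ, true_and, T] at hg ⊢
        intro ho
        have h11 : 11 ∣ Nat.card (stabilizer M x) := by
          rw [← ho, ← Subgroup.orderOf_mk g (show g ∈ stabilizer M x from hg)]
          exact orderOf_dvd_natCard _
        rw [hc] at h11
        norm_num at h11
      · exact hTc.trans (le_of_eq (hc.symm.trans (Nat.card_eq_fintype_card.trans (Fintype.card_subtype _))))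
    obtain ⟨x⟩ : Nonempty α := Fintype.card_pos_iff.1 (by omega)
    have htriv : stabilizer M x = ⊥ := by
      rw [Subgroup.eq_bot_iff_forall]
      intro g hg
      refine Subtype.ext (Equiv.ext fun y => ?_)
      have h1 : g ∈ Finset.univ.filter (fun g : M => g • x = x) := Finset.mem_filter.2 ⟨Finset.mem_univ _, hg⟩
      rw [hstab x, ← hstab y] at h1
      exact (Finset.mem_filter.1 h1).2
    have h := card_mul_card_stabilizer_aux M x
    rw [hMc, hα, htriv, Subgroup.card_bot] at h
    omega
where
  card_mul_card_stabilizer_aux (M : Subgroup (Equiv.Perm α)) [IsPretransitive M α] (x : α) :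
      Fintype.card α * Nat.card (stabilizer M x) = Nat.card M := by
    rw [← Nat.card_eq_fintype_card, ← index_stabilizer_of_transitive M x, Subgroup.index_mul_card]

theorem simple_of_sharp_five (hα : Fintype.card α = 12) (G : Subgroup (Equiv.Perm α))
    [IsMultiplyPretransitive G α 5] (hsharp : ∀ x : Fin 5 ↪ α, stabilizer G x = ⊥) :
    IsSimpleGroup G ∧ Nat.card G = 95040 := by
  classical
  have hG : Nat.card G = 95040 := by rw [card_of_sharp (by omega) G hsharp, hα]; decide
  refine ⟨?_, hG⟩
  haveI : Nontrivial G := Finite.one_lt_card_iff_nontrivial.1 (by omega)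
  obtain ⟨a⟩ : Nonempty α := Fintype.card_pos_iff.1 (by omega)
  let β := {x : α // x ≠ a}
  have hkeep : ∀ (g : stabilizer G a) (x : α), x ≠ a ↔ g.1.1 x ≠ a := fun g x =>
    (Iff.not ⟨fun h => g.1.1.injective (h.trans (show g.1.1 a = a from g.2).symm), fun h => h ▸ g.2⟩).symm
  let φ : stabilizer G a →* Equiv.Perm β :=
    { toFun := fun g => g.1.1.subtypePerm fun x => (hkeep g x).symm
      map_one' := rfl
      map_mul' := fun g h => rfl }
  have hinj : Function.Injective φ := fun g h e => Subtype.ext (Subtype.ext (Equiv.ext fun x => by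
    by_cases hx : x = a
    · rw [hx]; exact (show g.1.1 a = a from g.2).trans (show h.1.1 a = a from h.2).symm
    · exact congrArg (fun s : Equiv.Perm β => (s ⟨x, hx⟩).1) e))
  let up : (Fin 4 ↪ β) → (Fin 5 ↪ α) := fun z => ⟨Fin.cons a (fun i => (z i).1),
    Fin.cons_injective_iff.2 ⟨fun ⟨i, hi⟩ => (z i).2 hi, Subtype.val_injective.comp z.injective⟩⟩
  haveI : IsMultiplyPretransitive φ.range β 4 := by
    rw [isMultiplyPretransitive_iff]
    intro x y
    obtain ⟨g, hg⟩ := (isMultiplyPretransitive_iff.1 ‹IsMultiplyPretransitive G α 5›) (x := up x) (y := up y)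
    have h0 : g.1 a = a := congrArg (fun f : Fin 5 ↪ α => f 0) hg
    exact ⟨⟨φ ⟨g, h0⟩, _, rfl⟩, Function.Embedding.ext fun i =>
      Subtype.ext (congrArg (fun f : Fin 5 ↪ α => f i.succ) hg)⟩
  have hsimp := simple_of_sharp_four (α := β) (by simp [β, Fintype.card_subtype_compl, hα]) φ.range (fun x => by
    rw [Subgroup.eq_bot_iff_forall]
    rintro ⟨_, g, rfl⟩ hg
    have : g.1 = 1 := by
      rw [← Subgroup.mem_bot, ← hsharp (up x)]
      refine Function.Embedding.ext (Fin.cases g.2 fun i => ?_)
      exact congrArg (fun f : Fin 4 ↪ β => (f i).1) hg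
    obtain rfl : g = 1 := Subtype.ext this
    exact Subtype.ext (map_one φ))
  haveI := hsimp.1
  let e := MonoidHom.ofInjective hinj
  haveI : Nontrivial (stabilizer G a) := e.toEquiv.nontrivial
  haveI : IsSimpleGroup (stabilizer G a) :=
    IsSimpleGroup.isSimpleGroup_of_surjective e.symm.toMonoidHom e.symm.surjective
  exact Golay24.isSimple_of_simple_stabilizer (twoTransOn (n := 5) (by norm_num) (by omega) G) (Set.mem_univ a)
    inferInstance (q := 2) (r := 3) (by norm_num) (by norm_num) (by norm_num)
    (by rw [Set.ncard_univ, Nat.card_eq_fintype_card, hα]; norm_num)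
    (by rw [Set.ncard_univ, Nat.card_eq_fintype_card, hα]; norm_num)

end Cfsg.Agent.Sharp11
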