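import Cfsg.Agent.Lib.Steiner.Search

/-!
The root of a case tree, child by child.
-/

set_option autoImplicit false

namespace Cfsg.Agent.Steiner.Search

theorem check_root {v k t : ℕ} {target : List ℕ} (n T : ℕ) (l st : List ℕ) (hst : st.take 1 = [T + 1])
    (hlen : 2 ≤ st.length) (hT : (combos t (List.finRange v)).contains T = true)
    (hl : ((exts v k t T).filter fun c => (subs v t c).all fun s => !Nat.testBit 0 s) = l) :
    check v k t target (n + 1) [] 0 st =
      each (fun c r => check v k t target n [c] (mark (subs v t c) 0) r) l (st.drop 1) := by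
  match st, hlen with
  | a :: q :: rest, _ =>
    simp only [List.take_succ_cons, List.take_zero, List.cons.injEq, and_true] at hst
    subst hst
    simp only [check, hT, Nat.zero_testBit, Bool.not_false, Bool.and_self, if_true, List.drop_succ_cons, List.drop_zero]
    rw [← hl]
    simp

theorem each_seven {f : ℕ → List ℕ → Option (List ℕ)} {a b c d e g h : ℕ} {s0 s1 s2 s3 s4 s5 s6 s7 : List ℕ}
    (h0 : f a s0 = some s1) (h1 : f b s1 = some s2) (h2 : f c s2 = some s3) (h3 : f d s3 = some s4)
    (h4 : f e s4 = some s5) (h5 : f g s5 = some s6) (h6 : f h s6 = some s7) :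
    each f [a, b, c, d, e, g, h] s0 = some s7 := by
  simp only [each, h0, h1, h2, h3, h4, h5, h6, Option.bind_some]

theorem check_seven {v k t : ℕ} {target st : List ℕ} {n T a b c d e g h : ℕ} {s1 s2 s3 s4 s5 s6 s7 : List ℕ}
    (hst : st.take 1 = [T + 1]) (hlen : 2 ≤ st.length) (hT : (combos t (List.finRange v)).contains T = true)
    (hl : ((exts v k t T).filter fun c => (subs v t c).all fun s => !Nat.testBit 0 s) = [a, b, c, d, e, g, h])
    (h0 : check v k t target n [a] (mark (subs v t a) 0) (st.drop 1) = some s1)
    (h1 : check v k t target n [b] (mark (subs v t b) 0) s1 = some s2)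
    (h2 : check v k t target n [c] (mark (subs v t c) 0) s2 = some s3)
    (h3 : check v k t target n [d] (mark (subs v t d) 0) s3 = some s4)
    (h4 : check v k t target n [e] (mark (subs v t e) 0) s4 = some s5)
    (h5 : check v k t target n [g] (mark (subs v t g) 0) s5 = some s6)
    (h6 : check v k t target n [h] (mark (subs v t h) 0) s6 = some s7) (h7 : s7 = []) :
    check v k t target (n + 1) [] 0 st = some [] := by
  subst h7
  rw [check_root n T _ st hst hlen hT hl]
  exact each_seven (f := fun c r => check v k t target n [c] (mark (subs v t c) 0) r) h0 h1 h2 h3 h4 h5 h6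

end Cfsg.Agent.Steiner.Search
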