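import Cfsg.Prelude.Def_SporadicCombinatorics
import Cfsg.Agent.Lib.Steiner.Search
import Cfsg.Agent.Lib.Steiner.Small

/-!
The ternary code of length 12 in coordinates.
-/

set_option autoImplicit false

namespace Cfsg.Agent.Steiner.Ternary

open Cfsg

/-- The position of an array point in 0, ..., 11. -/
def ix : ArrayPt ≃ Fin 12 where
  toFun q := ⟨3 * q.1.val + q.2.val, by have h1 := q.1.isLt; have h2 : q.2.val < 3 := ZMod.val_lt q.2; omega⟩
  invFun k := (⟨k.val / 3, by omega⟩, (k.val % 3 : ℕ))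
  left_inv := by decide +kernel
  right_inv := by decide +kernel

/-- Six words spanning the code. -/
def gen : Fin 6 → Fin 12 → ZMod 3 :=
  ![![2, 2, 2, 1, 1, 1, 0, 0, 0, 0, 0, 0], ![0, 1, 2, 1, 2, 0, 2, 1, 0, 0, 0, 0], ![2, 1, 0, 2, 1, 0, 2, 0, 1, 0, 0, 0], ![2, 1, 1, 1, 0, 0, 1, 0, 0, 1, 0, 0], ![2, 0, 2, 2, 2, 0, 1, 0, 0, 0, 1, 0], ![1, 1, 2, 0, 1, 0, 1, 0, 0, 0, 0, 1]]

/-- The six positions read off by a code word. -/
def free : Fin 6 → Fin 12 := ![5, 7, 8, 9, 10, 11]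

/-- Coefficients expressing the other positions by the checks. -/
def coef : Fin 12 → Fin 12 → ZMod 3 :=
  ![![1, 2, 0, 1, 2, 2, 2, 0, 0, 0, 0, 0], ![1, 1, 0, 2, 2, 1, 2, 0, 0, 0, 0, 0], ![1, 1, 0, 2, 1, 2, 2, 0, 0, 0, 0, 0], ![2, 1, 0, 2, 0, 0, 1, 0, 0, 0, 0, 0], ![2, 0, 0, 0, 2, 2, 2, 0, 0, 0, 0, 0], ![0, 0, 0, 0, 0, 0, 0, 0, 0, 0, 0, 0], ![0, 2, 0, 2, 2, 2, 0, 0, 0, 0, 0, 0], ![0, 0, 0, 0, 0, 0, 0, 0, 0, 0, 0, 0], ![0, 0, 0, 0, 0, 0, 0, 0, 0, 0, 0, 0], ![0, 0, 0, 0, 0, 0, 0, 0, 0, 0, 0, 0], ![0, 0, 0, 0, 0, 0, 0, 0, 0, 0, 0, 0], ![0, 0, 0, 0, 0, 0, 0, 0, 0, 0, 0, 0]]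

/-- The nine tetracode words. -/
def tet (k : Fin 9) : Fin 4 → ZMod 3 :=
  ((k.val / 3 : ℕ) : ZMod 3) • ![0, 1, 1, 1] + ((k.val % 3 : ℕ) : ZMod 3) • ![1, 0, 1, 2]

/-- The word of six coordinates. -/
def enc (a : Fin 6 → ZMod 3) : ArrayPt → ZMod 3 := fun q => ∑ j, a j * gen j (ix q)

/-- The checks satisfied by the code words. -/
def chk (x : ArrayPt → ZMod 3) (k : Fin 12) : ZMod 3 :=
  if h : k.val < 3 then (∑ r, x (⟨k.val + 1, by omega⟩, r)) - ∑ r, x (0, r)
  else (∑ i, x (i, tet ⟨k.val - 3, by omega⟩ i)) + ∑ r, x (0, r)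

theorem tet_mem (k : Fin 9) : tet k ∈ tetracode :=
  add_mem (Submodule.smul_mem _ _ (Submodule.subset_span (Set.mem_insert _ _)))
    (Submodule.smul_mem _ _ (Submodule.subset_span (Set.mem_insert_of_mem _ rfl)))

theorem chk_eq_zero {x : ArrayPt → ZMod 3} (hx : x ∈ ternaryGolayCode) (k : Fin 12) : chk x k = 0 := by
  obtain ⟨s, hs, hs'⟩ := hx
  simp only [chk]
  split
  · rw [hs, hs, sub_self]
  · rw [hs' _ (tet_mem _), hs 0, add_neg_cancel]

theorem gen_mem : ∀ j, (fun q => gen j (ix q)) ∈ ternaryGolayCode := by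
  intro j
  refine ⟨-∑ r, gen j (ix (0, r)), fun i => ?_, fun t ht => ?_⟩
  · rw [neg_neg]; revert i j; decide +kernel
  · obtain ⟨a, b, rfl⟩ := Submodule.mem_span_pair.1 ht
    clear ht
    revert j a b
    decide +kernel

theorem enc_mem (a : Fin 6 → ZMod 3) : enc a ∈ ternaryGolayCode := by
  have e : enc a = ∑ j, a j • fun q => gen j (ix q) := by
    funext q; simp [enc]
  rw [e]
  exact Submodule.sum_mem _ fun j _ => Submodule.smul_mem _ _ (gen_mem j)

theorem chk_add (x y : ArrayPt → ZMod 3) (k : Fin 12) : chk (x + y) k = chk x k + chk y k := by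
  simp only [chk, Pi.add_apply, Finset.sum_add_distrib]
  split <;> ring

theorem chk_smul (c : ZMod 3) (x : ArrayPt → ZMod 3) (k : Fin 12) : chk (c • x) k = c * chk x k := by
  simp only [chk, Pi.smul_apply, smul_eq_mul, ← Finset.mul_sum]
  split <;> ring

/-- The difference between a word and the word of its six coordinates, less the checks. -/
def rebuildErr : (ArrayPt → ZMod 3) →ₗ[ZMod 3] (ArrayPt → ZMod 3) where
  toFun x q := x q - enc (fun j => x (ix.symm (free j))) q - ∑ k, coef (ix q) k * chk x k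
  map_add' x y := by
    funext q
    simp only [chk_add, Pi.add_apply, enc, add_mul, mul_add, Finset.sum_add_distrib]
    ring
  map_smul' c x := by
    funext q
    simp only [chk_smul, Pi.smul_apply, smul_eq_mul, RingHom.id_apply, enc, mul_assoc, mul_left_comm _ c,
      ← Finset.mul_sum]
    ring

theorem rebuildErr_single : ∀ p q : ArrayPt, rebuildErr (fun a => if p = a then 1 else 0) q = 0 := by
  decide +kernel

theorem mem_iff {x : ArrayPt → ZMod 3} : x ∈ ternaryGolayCode ↔ ∃ a, x = enc a := by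
  refine ⟨fun hx => ⟨fun j => x (ix.symm (free j)), funext fun q => ?_⟩, fun ⟨a, e⟩ => e ▸ enc_mem a⟩
  have h0 : rebuildErr x q = 0 := by
    rw [pi_eq_sum_univ x, map_sum]
    simp only [map_smul, Finset.sum_apply, Pi.smul_apply, rebuildErr_single, smul_zero, Finset.sum_const_zero]
  have h1 : x q - enc (fun j => x (ix.symm (free j))) q - ∑ k, coef (ix q) k * chk x k = 0 := h0
  simpa [chk_eq_zero hx, sub_eq_zero] using h1

theorem enc_free : ∀ (i j : Fin 6), gen i (free j) = if i = j then 1 else 0 := by decide +kernel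

theorem enc_injective : Function.Injective enc := by
  intro a b h
  funext j
  have := congrFun h (ix.symm (free j))
  simpa [enc, enc_free] using this

theorem setOf_eq (P : (ArrayPt → ZMod 3) → Prop) [DecidablePred P] :
    {x : ArrayPt → ZMod 3 | x ∈ ternaryGolayCode ∧ P x}.ncard =
      (Finset.univ.filter fun a : Fin 6 → ZMod 3 => P (enc a)).card := by
  rw [show {x : ArrayPt → ZMod 3 | x ∈ ternaryGolayCode ∧ P x} =
      enc '' ↑(Finset.univ.filter fun a : Fin 6 → ZMod 3 => P (enc a)) from ?_,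
    Set.ncard_image_of_injective _ enc_injective, Set.ncard_coe_finset]
  ext x
  constructor
  · rintro ⟨hx, hP⟩
    obtain ⟨a, rfl⟩ := mem_iff.1 hx
    exact ⟨a, by simpa using hP, rfl⟩
  · rintro ⟨a, ha, rfl⟩
    exact ⟨enc_mem a, by simpa using ha⟩

/-- The 132 supports of weight six, as masks. -/
def hexMasks : List ℕ :=
  [63, 222, 237, 243, 347, 366, 373, 413, 427, 438, 455, 504, 591, 630, 633, 667, 679, 700, 725, 746, 791, 813, 826, 860, 867, 910, 945, 969, 978, 996, 1117, 1127, 1146, 1175, 1198, 1209, 1227, 1268, 1295, 1331, 1340, 1366, 1385, 1434, 1445, 1484, 1489, 1506, 1566, 1579, 1589, 1619, 1644, 1677, 1714, 1734, 1752, 1761, 1817, 1830, 1861, 1866, 1904, 1923, 1940, 1960, 2135, 2155, 2172, 2191, 2229, 2234, 2265, 2278, 2334, 2343, 2361, 2381, 2418, 2451, 2476, 2506, 2516, 2529, 2589, 2606, 2611, 2650, 2661, 2710, 2729, 2755, 2764, 2800, 2827, 2868, 2886, 2897, 2920, 2949, 2968, 2978, 3099, 3117, 3126, 3150, 3185, 3228, 3235, 3269,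 3282, 3304, 3349, 3370, 3395, 3416, 3428, 3462, 3465, 3504, 3591, 3640, 3657, 3668, 3682, 3722, 3729, 3748, 3852, 3858, 3873, 4032]

/-- The supports of the weight-six words. -/
def hexadSet : Set (Finset ArrayPt) :=
  {h : Finset ArrayPt | ∃ x ∈ ternaryGolayCode, ternarySupport x = h ∧ h.card = 6}

theorem hexMasks_ok : Search.steinerOk 12 6 5 hexMasks = true := by decide +kernel

theorem hexMasks_sound : ∀ a : Fin 6 → ZMod 3, (ternarySupport (enc a)).card = 6 →
    Search.msk ((ternarySupport (enc a)).image ix) ∈ hexMasks := by decide +kernel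

theorem hexMasks_complete : ∀ m ∈ hexMasks, ∃ a : Fin 6 → ZMod 3, (ternarySupport (enc a)).card = 6 ∧
    Search.msk ((ternarySupport (enc a)).image ix) = m := by decide +kernel

theorem hexadSet_eq : hexadSet = (fun b : Finset (Fin 12) => b.image ix.symm) '' Search.sysOf 12 hexMasks := by
  ext h
  constructor
  · rintro ⟨x, hx, rfl, hc⟩
    obtain ⟨a, rfl⟩ := mem_iff.1 hx
    exact ⟨_, hexMasks_sound a hc, by simp [Finset.image_image]⟩
  · rintro ⟨b, hb, rfl⟩
    obtain ⟨a, hc, hm⟩ := hexMasks_complete _ hb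
    have e : (b.image ix.symm) = ternarySupport (enc a) := by
      rw [← Search.msk_injective hm]; simp [Finset.image_image]
    refine ⟨enc a, enc_mem a, e.symm, ?_⟩
    show (b.image ix.symm).card = 6
    rw [e, hc]

end Cfsg.Agent.Steiner.Ternary
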