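import Cfsg.Agent.Lib.Steiner.Counting
import Cfsg.Agent.Lib.Steiner.Biplane
import Cfsg.Agent.Lib.Golay.Trans
import Mathlib.LinearAlgebra.Dual.Lemmas
import Mathlib.Algebra.Field.ZMod

/-!
Every S(5, 8, 24) is a copy of the octads.
-/

set_option autoImplicit false

namespace Cfsg.Agent.Steiner

open Cfsg Finset

set_option linter.unusedSectionVars false

variable {α : Type*} [Fintype α] [DecidableEq α] {B : Set (Finset α)}

/-- Sums of blocks. -/
inductive Gen (B : Set (Finset α)) : Finset α → Prop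
  | zero : Gen B ∅
  | add {b S : Finset α} (hb : b ∈ B) (hS : Gen B S) : Gen B (symmDiff b S)

theorem Gen.block {b : Finset α} (hb : b ∈ B) : Gen B b := by
  have h := Gen.add hb Gen.zero
  rwa [← Finset.bot_eq_empty, symmDiff_bot] at h

theorem Gen.sum {S T : Finset α} (hS : Gen B S) (hT : Gen B T) : Gen B (symmDiff S T) := by
  induction hS with
  | zero => rwa [← Finset.bot_eq_empty, bot_symmDiff]
  | add hb _ ih => rw [symmDiff_assoc]; exact Gen.add hb ih

section
variable (hB : IsSteinerSystem 5 8 B) (hα : Fintype.card α = 24)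
include hB hα

theorem Gen.even_inter {b S : Finset α} (hb : b ∈ B) (hS : Gen B S) : Even (b ∩ S).card := by
  induction hS with
  | zero => simp
  | add hc _ ih => exact even_inter_symmDiff (even_inter24 hB hα hb hc) ih

theorem Gen.four {S : Finset α} (hS : Gen B S) : 4 ∣ S.card := by
  induction hS with
  | zero => simp
  | @add b S hb hS ih =>
    have h := card_symmDiff' b S
    obtain ⟨r, hr⟩ := Gen.even_inter hB hα hb hS
    rw [hB.1 b hb] at h
    omega

theorem Gen.even_meet {S T : Finset α} (hS : Gen B S) (hT : Gen B T) : Even (S ∩ T).card := by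
  have h := card_symmDiff' S T
  have a := Gen.four hB hα hS
  have b := Gen.four hB hα hT
  have c := Gen.four hB hα (hS.sum hT)
  rw [Nat.even_iff]
  omega

theorem Gen.weights {S : Finset α} (hS : Gen B S) :
    S.card = 0 ∨ S.card = 8 ∨ S.card = 12 ∨ S.card = 16 ∨ S.card = 24 := by
  have h4 := Gen.four hB hα hS
  have hle : S.card ≤ 24 := hα ▸ S.card_le_univ
  have hne4 : S.card ≠ 4 := fun e => by
    obtain ⟨b, hb, ho⟩ := exists_odd_inter hB hα S e
    exact ho (Gen.even_inter hB hα hb hS)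
  have hne20 : S.card ≠ 20 := fun e => by
    obtain ⟨b, hb, ho⟩ := exists_odd_inter hB hα Sᶜ (by rw [Finset.card_compl, hα, e])
    refine ho ?_
    have h := Finset.card_inter_add_card_sdiff b S
    obtain ⟨r, hr⟩ := Gen.even_inter hB hα hb hS
    rw [← Finset.sdiff_eq_inter_compl, Nat.even_iff]
    rw [hB.1 b hb] at h
    omega
  omega

variable {D : Finset α} (hD : Gen B D) (hD12 : D.card = 12)
include hD hD12

theorem outside_eq {z : Finset α} (hz : Gen B z) (h : z ∩ D = ∅) : z = ∅ ∨ z = Dᶜ := by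
  have hsub : z ⊆ Dᶜ := fun x hx => Finset.mem_compl.2 fun hxD =>
    Finset.notMem_empty x (h ▸ Finset.mem_inter.2 ⟨hx, hxD⟩)
  have hle := Finset.card_le_card hsub
  have hDc : Dᶜ.card = 12 := by rw [Finset.card_compl, hα, hD12]
  have h20 := card_symmDiff' z D
  rw [h, Finset.card_empty, hD12] at h20
  rcases Gen.weights hB hα hz with e | e | e | e | e
  · exact Or.inl (Finset.card_eq_zero.1 e)
  · rcases Gen.weights hB hα (hz.sum hD) with f | f | f | f | f <;> omega
  · exact Or.inr (Finset.eq_of_subset_of_card_le hsub (by omega))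
  all_goals omega

theorem hexad_six {S e : Finset α} (hS : S ⊆ D) (h5 : 5 ≤ S.card) (he : e ∈ B) (hSe : S ⊆ e) :
    (e ∩ D).card = 6 := by
  obtain ⟨r, hr⟩ := Gen.even_inter hB hα he hD
  have h1 := Finset.card_le_card (Finset.subset_inter hSe hS)
  have h2 := Finset.card_le_card (Finset.inter_subset_left : e ∩ D ⊆ e)
  have h3 := card_symmDiff' e D
  rw [hB.1 e he, hD12] at h3
  rw [hB.1 e he] at h2
  by_contra hne
  have : (e ∩ D).card = 8 := by omega
  rcases Gen.weights hB hα ((Gen.block he).sum hD) with f | f | f | f | f <;> omega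

theorem odd_four_count {A U : Finset α} (hA : A ⊆ D) (hev : ∀ b ∈ B, Even (b ∩ A).card) (hU : U ⊆ D)
    (hU4 : U.card = 4) (hodd : ¬ Even (U ∩ A).card) : A.card = (U ∩ A).card + 4 := by
  classical
  set P := (blocks B).filter fun e => U ⊆ e ∧ (e ∩ D).card = 6 with hP
  have hsix : ∀ x ∈ D \ U, ∃ e ∈ P, x ∈ e := by
    intro x hx
    rw [Finset.mem_sdiff] at hx
    obtain ⟨e, ⟨he, hs⟩, -⟩ := hB.2 (insert x U) (by rw [Finset.card_insert_of_notMem hx.2, hU4])
    refine ⟨e, Finset.mem_filter.2 ⟨mem_blocks.2 he, (Finset.subset_insert x U).trans hs, ?_⟩, hs (Finset.mem_insert_self x U)⟩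
    exact hexad_six hB hα hD hD12 (Finset.insert_subset hx.1 hU)
      (by rw [Finset.card_insert_of_notMem hx.2, hU4]) he hs
  have hpd : ∀ e ∈ P, ((e ∩ D) \ U).card = 2 ∧ ((e ∩ A) \ U).card = 1 := by
    intro e he
    simp only [hP, Finset.mem_filter, mem_blocks] at he
    have h1 : ((e ∩ D) \ U).card = 2 := by
      rw [Finset.card_sdiff_of_subset (Finset.subset_inter he.2.1 hU), he.2.2, hU4]
    refine ⟨h1, ?_⟩
    have h2 := Finset.card_le_card (show (e ∩ A) \ U ⊆ (e ∩ D) \ U from
      Finset.sdiff_subset_sdiff (Finset.inter_subset_inter_left hA) le_rfl)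
    have h3 := Finset.card_sdiff_add_card_inter (e ∩ A) U
    have e1 : (e ∩ A) ∩ U = U ∩ A := by
      ext x; simp only [Finset.mem_inter]
      exact ⟨fun h => ⟨h.2, h.1.2⟩, fun h => ⟨⟨he.2.1 h.1, h.2⟩, h.1⟩⟩
    rw [e1] at h3
    obtain ⟨r, hr⟩ := hev e he.1
    rw [Nat.even_iff] at hodd
    omega
  have hdisj : ∀ e ∈ P, ∀ e' ∈ P, ∀ x, x ∈ e → x ∈ e' → x ∈ D → x ∉ U → e = e' := by
    intro e he e' he' x hx hx' hxD hxU
    simp only [hP, Finset.mem_filter, mem_blocks] at he he'
    exact eq_of_subset hB (s := insert x U) (by rw [Finset.card_insert_of_notMem hxU, hU4]) he.1 he'.1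
      (Finset.insert_subset hx he.2.1) (Finset.insert_subset hx' he'.2.1)
  have hcount : ∀ X : Finset α, X ⊆ D → (X \ U).card = ∑ e ∈ P, ((e ∩ X) \ U).card := by
    intro X hX
    rw [← Finset.card_biUnion]
    · congr 1
      ext x
      simp only [Finset.mem_sdiff, Finset.mem_biUnion, Finset.mem_inter]
      refine ⟨fun hx => ?_, fun ⟨e, _, ⟨_, h2⟩, h3⟩ => ⟨h2, h3⟩⟩
      obtain ⟨e, he, hxe⟩ := hsix x (Finset.mem_sdiff.2 ⟨hX hx.1, hx.2⟩)
      exact ⟨e, he, ⟨hxe, hx.1⟩, hx.2⟩
    · intro e he e' he' hne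
      rw [Function.onFun, Finset.disjoint_left]
      intro x hx hx'
      simp only [Finset.mem_sdiff, Finset.mem_inter] at hx hx'
      exact hne (hdisj e he e' he' x hx.1.1 hx'.1.1 (hX hx.1.2) hx.2)
  have c1 := hcount D le_rfl
  rw [Finset.sum_congr rfl fun e he => (hpd e he).1, Finset.card_sdiff_of_subset hU, hD12, hU4] at c1
  have c2 := hcount A hA
  rw [Finset.sum_congr rfl fun e he => (hpd e he).2] at c2
  simp only [Finset.sum_const, smul_eq_mul] at c1 c2
  have c3 := Finset.card_sdiff_add_card_inter A U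
  rw [Finset.inter_comm A U] at c3
  omega

theorem even_hexads_trivial {A : Finset α} (hA : A ⊆ D) (hev : ∀ b ∈ B, Even (b ∩ A).card) :
    A = ∅ ∨ A = D := by
  classical
  by_contra hc
  push Not at hc
  have h1 : 0 < A.card := Finset.card_pos.2 hc.1
  have h2 : A.card < 12 := hD12 ▸ Finset.card_lt_card (Finset.ssubset_iff_subset_ne.2 ⟨hA, hc.2⟩)
  have hU : ∀ k, ¬ Even k → k ≤ 4 → k ≤ A.card → 4 - k ≤ 12 - A.card → A.card = k + 4 := by
    intro k hk hk4 hka hkn
    obtain ⟨X, hX, hXc⟩ := Finset.exists_subset_card_eq hka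
    obtain ⟨Y, hY, hYc⟩ := Finset.exists_subset_card_eq (s := D \ A) (n := 4 - k)
      (by rw [Finset.card_sdiff_of_subset hA, hD12]; omega)
    have hd : Disjoint X Y := (Finset.disjoint_sdiff (s := A) (t := D)).mono hX hY
    have hi : (X ∪ Y) ∩ A = X := by
      ext z
      simp only [Finset.mem_inter, Finset.mem_union]
      refine ⟨fun ⟨h, hzA⟩ => h.resolve_right fun hy => (Finset.mem_sdiff.1 (hY hy)).2 hzA,
        fun h => ⟨Or.inl h, hX h⟩⟩
    have := odd_four_count hB hα hD hD12 hA hev (U := X ∪ Y)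
      (Finset.union_subset (hX.trans hA) (hY.trans Finset.sdiff_subset))
      (by rw [Finset.card_union_of_disjoint hd, hXc, hYc]; omega) (by rw [hi, hXc]; exact hk)
    rwa [hi, hXc] at this
  by_cases hlo : A.card ≤ 2
  · have := hU 1 (by decide) (by omega) (by omega) (by omega); omega
  · by_cases hhi : A.card ≤ 9
    · have := hU 1 (by decide) (by omega) (by omega) (by omega)
      have := hU 3 (by decide) (by omega) (by omega) (by omega)
      omega
    · have := hU 3 (by decide) (by omega) (by omega) (by omega); omega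

theorem pair_gen {i j : α} (hi : i ∈ D) (hj : j ∈ D) (hij : i ≠ j) : ∃ x, Gen B x ∧ x ∩ D = {i, j} := by
  classical
  let ind : Finset α → (α → ZMod 2) := fun S z => if z ∈ S then 1 else 0
  have hind : ∀ S T, ind (symmDiff S T) = ind S + ind T := by
    intro S T
    funext z
    by_cases h1 : z ∈ S <;> by_cases h2 : z ∈ T <;> simp [ind, Finset.mem_symmDiff, h1, h2]
    decide
  have hinj : ∀ S T, ind S = ind T → S = T := by
    intro S T h
    ext z
    have := congrFun h z
    by_cases h1 : z ∈ S <;> by_cases h2 : z ∈ T <;> simp [ind, h1, h2] at this ⊢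
  let W : Submodule (ZMod 2) (α → ZMod 2) := Submodule.span (ZMod 2) {v | ∃ b ∈ B, ind (b ∩ D) = v}
  have hW : ∀ v ∈ W, ∃ x, Gen B x ∧ ind (x ∩ D) = v := by
    intro v hv
    induction hv using Submodule.span_induction with
    | mem v hv => obtain ⟨b, hb, rfl⟩ := hv; exact ⟨b, Gen.block hb, rfl⟩
    | zero => exact ⟨∅, Gen.zero, funext fun z => by simp [ind]⟩
    | add v w _ _ h1 h2 =>
      obtain ⟨x, hx, rfl⟩ := h1
      obtain ⟨y, hy, rfl⟩ := h2
      refine ⟨_, hx.sum hy, ?_⟩
      rw [← hind]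
      congr 1
      ext z; simp only [Finset.mem_inter, Finset.mem_symmDiff]; tauto
    | smul c v _ h =>
      obtain ⟨x, hx, rfl⟩ := h
      have : c = 0 ∨ c = 1 := by revert c; decide
      rcases this with rfl | rfl
      · exact ⟨∅, Gen.zero, funext fun z => by simp [ind]⟩
      · exact ⟨x, hx, by simp⟩
  by_cases hmem : ind {i, j} ∈ W
  · obtain ⟨x, hx, he⟩ := hW _ hmem
    exact ⟨x, hx, hinj _ _ he⟩
  exfalso
  obtain ⟨f, hf, hfW⟩ := Submodule.exists_dual_map_eq_bot_of_notMem hmem inferInstance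
  let A := D.filter fun z => f (Pi.single z 1) = 1
  have hfS : ∀ S, S ⊆ D → f (ind S) = ((S ∩ A).card : ZMod 2) := by
    intro S hS
    have : ind S = ∑ z ∈ S, Pi.single z 1 := by
      funext w
      rw [Finset.sum_apply]
      simp [ind, Pi.single_apply]
    rw [this, map_sum, show S ∩ A = S.filter fun z => f (Pi.single z 1) = 1 by
      ext z; simp only [A, Finset.mem_inter, Finset.mem_filter]; exact ⟨fun h => ⟨h.1, h.2.2⟩, fun h => ⟨h.1, hS h.1, h.2⟩⟩,
      Finset.card_filter, Nat.cast_sum]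
    refine Finset.sum_congr rfl fun z _ => ?_
    generalize f (Pi.single z 1) = c
    revert c; decide
  have hev : ∀ b ∈ B, Even (b ∩ A).card := by
    intro b hb
    have h0 : f (ind (b ∩ D)) = 0 := by
      have : f (ind (b ∩ D)) ∈ W.map f := ⟨_, Submodule.subset_span ⟨b, hb, rfl⟩, rfl⟩
      rw [hfW] at this
      exact this
    rw [hfS _ Finset.inter_subset_right, show b ∩ D ∩ A = b ∩ A by
      rw [Finset.inter_assoc, Finset.inter_eq_right.2 (Finset.filter_subset _ _)]] at h0
    exact (ZMod.natCast_eq_zero_iff_even).1 h0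
  refine hf ?_
  rw [hfS _ (Finset.insert_subset hi (Finset.singleton_subset_iff.2 hj))]
  rcases even_hexads_trivial hB hα hD hD12 (Finset.filter_subset _ _) hev with h | h
  · rw [show A = ∅ from h]; simp
  · rw [show A = D from h, Finset.inter_eq_left.2 (Finset.insert_subset hi (Finset.singleton_subset_iff.2 hj)),
      Finset.card_pair hij]
    rfl

theorem row_weight {i j : α} (hij : i ≠ j) {x : Finset α} (hx : Gen B x) (hxD : x ∩ D = {i, j}) :
    (x \ D).card = 6 := by
  have h1 := Finset.card_sdiff_add_card_inter x D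
  rw [hxD, Finset.card_pair hij] at h1
  have h2 := Finset.card_le_card (show x \ D ⊆ Dᶜ from fun z hz => Finset.mem_compl.2 (Finset.mem_sdiff.1 hz).2)
  rw [Finset.card_compl, hα, hD12] at h2
  have h3 := card_symmDiff' x D
  rw [hxD, Finset.card_pair hij, hD12] at h3
  rcases Gen.weights hB hα hx with e | e | e | e | e <;>
    rcases Gen.weights hB hα (hx.sum hD) with f | f | f | f | f <;> omega

end

/-- Positions of the twelve points of the standard dodecad. -/
def stdIn : Fin 12 → Fin 24 := ![0, 1, 3, 18, 9, 16, 8, 6, 13, 12, 2, 4]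
/-- Positions of the other twelve points. -/
def stdOut : Fin 12 → Fin 24 := ![23, 7, 10, 11, 17, 22, 15, 14, 20, 19, 5, 21]

/-- The standard points, as two twelves. -/
def stdPts : Fin 12 ⊕ Fin 12 → Fin 24 := Sum.elim stdIn stdOut

/-- The mask of a standard word. -/
def stdWord (i : Fin 11) : ℕ :=
  Nat.ofBits fun k : Fin 24 => decide (k = stdIn 0 ∨ k = stdIn i.succ ∨
    ∃ j : Fin 11, (stdSix.getD i.val 0).testBit j.val ∧ k = stdOut j.succ)

theorem std_facts : (∀ i, Golay24.inCode (stdWord i) = true) ∧ Function.Injective stdPts ∧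
    Golay24.inCode 16436384 = true ∧
    (∀ a, (16436384 : ℕ).testBit (stdIn a).val = false) ∧ (∀ a, (16436384 : ℕ).testBit (stdOut a).val = true) ∧
    ∀ i, (∀ a, (stdWord i).testBit (stdIn a).val = decide (a = 0 ∨ a = i.succ)) ∧
      (stdWord i).testBit (stdOut 0).val = false ∧
      ∀ j : Fin 11, (stdWord i).testBit (stdOut j.succ).val = (stdSix.getD i.val 0).testBit j.val := by
  decide +kernel

theorem exists_octad_iso (hB : IsSteinerSystem 5 8 B) (hα : Fintype.card α = 24) :
    ∃ e : α ≃ GolayPt, (fun b => b.image e) '' B = octads := by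
  classical
  obtain ⟨hcode, hptinj, hDcode, hDin, hDout, hrow⟩ := std_facts
  obtain ⟨S, -, hS⟩ := Finset.exists_subset_card_eq (show 5 ≤ (univ : Finset α).card by rw [Finset.card_univ, hα]; norm_num)
  obtain ⟨b₀, ⟨hb₀, -⟩, -⟩ := hB.2 S hS
  obtain ⟨s, hs, hs2⟩ := Finset.exists_subset_card_eq (show 2 ≤ b₀.card by rw [hB.1 b₀ hb₀]; norm_num)
  obtain ⟨c₀, hc₀⟩ := Finset.card_pos.1 (show 0 < meet B b₀ s by rw [meet24 hB hα hb₀ s hs, hs2]; decide)
  simp only [mem_filter, mem_blocks] at hc₀
  obtain ⟨D, hD, hD12⟩ : ∃ D, Gen B D ∧ D.card = 12 := by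
    refine ⟨_, (Gen.block hb₀).sum (Gen.block hc₀.1), ?_⟩
    have := card_symmDiff' b₀ c₀
    rw [hB.1 b₀ hb₀, hB.1 c₀ hc₀.1, hc₀.2.2, hs2] at this
    omega
  have hDc : Dᶜ.card = 12 := by rw [Finset.card_compl, hα, hD12]
  obtain ⟨d0, hd0⟩ : D.Nonempty := Finset.card_pos.1 (by omega)
  obtain ⟨o, ho⟩ : Dᶜ.Nonempty := Finset.card_pos.1 (by omega)
  obtain ⟨fd⟩ : Nonempty (Fin 11 ≃ D.erase d0) :=
    ⟨(Finset.equivFinOfCardEq (by rw [Finset.card_erase_of_mem hd0, hD12])).symm⟩
  obtain ⟨fc⟩ : Nonempty (Fin 11 ≃ (Dᶜ.erase o : Finset α)) :=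
    ⟨(Finset.equivFinOfCardEq (by rw [Finset.card_erase_of_mem ho, hDc])).symm⟩
  let dl : Fin 11 → α := fun i => fd i
  let pl : Fin 11 → α := fun i => fc i
  have dlinj : Function.Injective dl := Subtype.val_injective.comp fd.injective
  have plinj : Function.Injective pl := Subtype.val_injective.comp fc.injective
  have dlm : ∀ i, dl i ∈ D ∧ d0 ≠ dl i := fun i =>
    ⟨Finset.mem_of_mem_erase (fd i).2, (Finset.ne_of_mem_erase (fd i).2).symm⟩
  have plm : ∀ i, pl i ∉ D ∧ o ≠ pl i := fun i =>
    ⟨Finset.mem_compl.1 (Finset.mem_of_mem_erase (fc i).2), (Finset.ne_of_mem_erase (fc i).2).symm⟩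
  choose x hx hxD using fun i => pair_gen hB hα hD hD12 hd0 (dlm i).1 (dlm i).2
  let V : Fin 11 → Finset α := fun i => if o ∈ x i then Dᶜ \ (x i \ D) else x i \ D
  have hoD : o ∉ D := Finset.mem_compl.1 ho
  have hVsub : ∀ i, V i ⊆ Dᶜ.erase o := by
    intro i z hz
    simp only [V] at hz
    split at hz
    next h =>
      rw [Finset.mem_sdiff] at hz
      exact Finset.mem_erase.2 ⟨fun e => hz.2 (e ▸ Finset.mem_sdiff.2 ⟨h, hoD⟩), hz.1⟩
    next h =>
      rw [Finset.mem_sdiff] at hz
      exact Finset.mem_erase.2 ⟨fun e => h (e ▸ hz.1), Finset.mem_compl.2 hz.2⟩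
  have hv6 : ∀ i, (x i \ D).card = 6 := fun i => row_weight hB hα hD hD12 (dlm i).2 (hx i) (hxD i)
  have hvsub : ∀ i, x i \ D ⊆ Dᶜ := fun i z hz => Finset.mem_compl.2 (Finset.mem_sdiff.1 hz).2
  have hV6 : ∀ i, (V i).card = 6 := by
    intro i
    simp only [V]
    split
    · rw [Finset.card_sdiff_of_subset (hvsub i), hDc, hv6]
    · exact hv6 i
  have hV3 : ∀ i j, i ≠ j → (V i ∩ V j).card = 3 := by
    intro i j hij
    have hz : (symmDiff (x i) (x j)) ∩ D = {dl i, dl j} := by
      have e : (symmDiff (x i) (x j)) ∩ D = symmDiff (x i ∩ D) (x j ∩ D) := by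
        ext z; simp only [Finset.mem_inter, Finset.mem_symmDiff]; tauto
      rw [e, hxD, hxD]
      ext z
      simp only [Finset.mem_symmDiff, Finset.mem_insert, Finset.mem_singleton]
      have a := (dlm i).2; have b := (dlm j).2; have c := dlinj.ne hij
      by_cases h0 : z = d0
      · subst h0; simp [a, b]
      · simp only [h0, false_or]
        by_cases h1 : z = dl i
        · subst h1; simp [c]
        · simp [h1]
    have h6 := row_weight hB hα hD hD12 (dlinj.ne hij) ((hx i).sum (hx j)) hz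
    have e : symmDiff (x i) (x j) \ D = symmDiff (x i \ D) (x j \ D) := by
      ext z; simp only [Finset.mem_sdiff, Finset.mem_symmDiff]; tauto
    rw [e] at h6
    have h := card_symmDiff' (x i \ D) (x j \ D)
    rw [h6, hv6, hv6] at h
    have c1 : ((x i \ D) ∩ (x j \ D)).card = 3 := by omega
    have hflip : ∀ u w : Finset α, u ⊆ Dᶜ → w ⊆ Dᶜ → u.card = 6 → w.card = 6 → (u ∩ w).card = 3 →
        ((Dᶜ \ u) ∩ w).card = 3 ∧ ((Dᶜ \ u) ∩ (Dᶜ \ w)).card = 3 := by
      intro u w hu hw hu6 hw6 h3
      have a : (Dᶜ \ u) ∩ w = w \ u := by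
        ext z; simp only [Finset.mem_inter, Finset.mem_sdiff]
        exact ⟨fun h => ⟨h.2, h.1.2⟩, fun h => ⟨⟨hw h.1, h.2⟩, h.1⟩⟩
      have b : (Dᶜ \ u) ∩ (Dᶜ \ w) = Dᶜ \ (u ∪ w) := by
        ext z; simp only [Finset.mem_inter, Finset.mem_sdiff, Finset.mem_union]; tauto
      have h1 := Finset.card_sdiff_add_card_inter w u
      rw [Finset.inter_comm w u] at h1
      have h2 := Finset.card_union_add_card_inter u w
      rw [a, b, Finset.card_sdiff_of_subset (Finset.union_subset hu hw), hDc]
      omega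
    obtain ⟨f1, f2⟩ := hflip _ _ (hvsub i) (hvsub j) (hv6 i) (hv6 j) c1
    obtain ⟨f3, -⟩ := hflip _ _ (hvsub j) (hvsub i) (hv6 j) (hv6 i) (by rwa [Finset.inter_comm])
    rw [Finset.inter_comm] at f3
    simp only [V]
    split_ifs <;> assumption
  let A : Fin 11 → Finset (Fin 11) := fun i => univ.filter fun k => pl k ∉ V i
  have himg : ∀ i, (univ.filter fun k => pl k ∈ V i).image pl = V i := by
    intro i
    ext z
    simp only [Finset.mem_image, Finset.mem_filter, Finset.mem_univ, true_and]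
    refine ⟨fun ⟨k, hk, e⟩ => e ▸ hk, fun hz => ⟨fc.symm ⟨z, hVsub i hz⟩, ?_, ?_⟩⟩ <;> simp [pl, hz]
  have hA5 : ∀ i, (A i).card = 5 := by
    intro i
    have h := Finset.card_filter_add_card_filter_not (s := (univ : Finset (Fin 11))) fun k => pl k ∈ V i
    rw [← Finset.card_image_of_injective _ plinj, himg, hV6, Finset.card_univ, Fintype.card_fin] at h
    simp only [A]; omega
  have hA2 : ∀ i j, i ≠ j → (A i ∩ A j).card = 2 := by
    intro i j hij
    have h1 : (univ.filter fun k => pl k ∈ V i ∧ pl k ∈ V j).card = 3 := by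
      rw [← hV3 i j hij, ← Finset.card_image_of_injective _ plinj, ← himg i, ← himg j,
        ← Finset.image_inter _ _ plinj, himg, himg]
      congr 2
      ext k; simp
    have h2 := Finset.card_union_add_card_inter (A i) (A j)
    have h3 := Finset.card_filter_add_card_filter_not (s := (univ : Finset (Fin 11))) fun k => pl k ∈ V i ∧ pl k ∈ V j
    have h4 : (univ.filter fun k => ¬ (pl k ∈ V i ∧ pl k ∈ V j)) = A i ∪ A j := by
      ext k; simp [A, Finset.mem_union, imp_iff_not_or]
    rw [h1, h4, Finset.card_univ, Fintype.card_fin] at h3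
    rw [hA5, hA5] at h2
    omega
  obtain ⟨σ, τ, hστ⟩ := biplane_normal A hA5 hA2
  let ψ : Fin 12 ⊕ Fin 12 → α := Sum.elim (Fin.cons d0 fun i => dl (σ i)) (Fin.cons o fun j => pl (τ j))
  have hψ : Function.Bijective ψ := by
    rw [Fintype.bijective_iff_injective_and_card]
    refine ⟨Function.Injective.sumElim ?_ ?_ ?_, by simp [hα]⟩
    · exact Fin.cons_injective_iff.2 ⟨fun ⟨i, hi⟩ => (dlm _).2 hi.symm, dlinj.comp σ.injective⟩
    · exact Fin.cons_injective_iff.2 ⟨fun ⟨i, hi⟩ => (plm _).2 hi.symm, plinj.comp τ.injective⟩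
    · intro a b e
      have h1 : ∀ a, (Fin.cons d0 fun i => dl (σ i) : Fin 12 → α) a ∈ D := by
        intro a; refine Fin.cases ?_ (fun i => ?_) a
        · simpa using hd0
        · simpa using (dlm (σ i)).1
      have h2 : ∀ a, (Fin.cons o fun j => pl (τ j) : Fin 12 → α) a ∉ D := by
        intro a; refine Fin.cases ?_ (fun i => ?_) a
        · simpa using hoD
        · simpa using (plm (τ i)).1
      exact h2 b (e ▸ h1 a)
  let φ : Fin 12 ⊕ Fin 12 → GolayPt := Golay24.pt ∘ stdPts
  have hφ : Function.Bijective φ := by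
    rw [Fintype.bijective_iff_injective_and_card]
    exact ⟨Golay24.ptEquiv.symm.injective.comp hptinj, by simp [ZMod.card]⟩
  let e : α ≃ GolayPt := (Equiv.ofBijective ψ hψ).symm.trans (Equiv.ofBijective φ hφ)
  have heψ : ∀ k, e (ψ k) = φ k := fun k => by
    simp [e, Equiv.ofBijective_symm_apply_apply ψ hψ]
  have hmask : ∀ (W : Finset α) (m : ℕ), (∀ k, ψ k ∈ W ↔ m.testBit (stdPts k).val = true) →
      W.image e = Golay24.setOf m := by
    intro W m h
    ext z
    obtain ⟨k, rfl⟩ := hφ.2 z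
    rw [← heψ, e.injective.mem_finset_image, h, heψ, Golay24.mem_setOf]
    show _ ↔ m.testBit (Golay24.idx (Golay24.pt (stdPts k))) = true
    rw [Golay24.idx_pt]
  have hInC : ∀ m, Golay24.inCode m = true → m < 2 ^ 24 →
      Golay24.setOf m ∈ supports (golayCode : Set (GolayPt → ZMod 2)) := fun m h hm => by
    rw [Golay24.mem_supports_iff_inCode, Golay24.maskOf_setOf hm]; exact h
  let Good : Finset α → Prop := fun W => W.image e ∈ supports (golayCode : Set (GolayPt → ZMod 2))
  have good_add : ∀ S T, Good S → Good T → Good (symmDiff S T) := fun S T h1 h2 => by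
    show (symmDiff S T).image e ∈ _
    rw [Finset.image_symmDiff _ _ e.injective]
    exact Golay24.symmDiff_mem_supports h1 h2
  have good0 : Good ∅ := by
    show (∅ : Finset α).image e ∈ _
    rw [Finset.image_empty]
    exact ⟨0, Submodule.zero_mem _, by ext z; simp [support₂]⟩
  have goodDc : Good Dᶜ := by
    show Dᶜ.image e ∈ _
    rw [hmask Dᶜ 16436384 ?_]
    · exact hInC _ hDcode (by norm_num)
    rintro (a | a)
    · show ψ (Sum.inl a) ∈ Dᶜ ↔ Nat.testBit 16436384 (stdIn a).val = true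
      rw [hDin]
      refine Fin.cases ?_ (fun i => ?_) a <;> simp [ψ, hd0, (dlm _).1]
    · show ψ (Sum.inr a) ∈ Dᶜ ↔ Nat.testBit 16436384 (stdOut a).val = true
      rw [hDout]
      refine Fin.cases ?_ (fun i => ?_) a <;> simp [ψ, hoD, (plm _).1]
  have goodRow : ∀ i, Good ({d0, dl i} ∪ V i) := by
    intro i'
    obtain ⟨i, rfl⟩ := σ.surjective i'
    show ({d0, dl (σ i)} ∪ V (σ i) : Finset α).image e ∈ _
    rw [hmask _ (stdWord i) ?_]
    · exact hInC _ (hcode i) (Nat.ofBits_lt_two_pow _)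
    obtain ⟨r1, r2, r3⟩ := hrow i
    have notV : ∀ z ∈ D, z ∉ V (σ i) := fun z hz hzV =>
      Finset.mem_compl.1 (Finset.mem_of_mem_erase (hVsub _ hzV)) hz
    rintro (a | a)
    · show _ ↔ (stdWord i).testBit (stdIn a).val = true
      rw [r1, decide_eq_true_eq]
      refine Fin.cases ?_ (fun k => ?_) a
      · simp [ψ]
      · simp only [ψ, Sum.elim_inl, Fin.cons_succ, Finset.mem_union, Finset.mem_insert, Finset.mem_singleton,
          notV _ (dlm (σ k)).1, or_false, (dlm (σ k)).2.symm, false_or, dlinj.eq_iff, σ.injective.eq_iff,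
          Fin.succ_ne_zero, Fin.succ_inj]
    · show _ ↔ (stdWord i).testBit (stdOut a).val = true
      refine Fin.cases ?_ (fun k => ?_) a
      · rw [r2]
        simp only [ψ, Sum.elim_inr, Fin.cons_zero, Finset.mem_union, Finset.mem_insert, Finset.mem_singleton,
          Bool.false_eq_true, iff_false, not_or]
        exact ⟨⟨fun h => hoD (h ▸ hd0), fun h => hoD (h ▸ (dlm _).1)⟩,
          fun h => Finset.ne_of_mem_erase (hVsub _ h) rfl⟩
      · rw [r3, hστ]
        simp only [ψ, Sum.elim_inr, Fin.cons_succ, Finset.mem_union, Finset.mem_insert, Finset.mem_singleton,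
          A, Finset.mem_filter, Finset.mem_univ, true_and, not_not]
        exact ⟨fun h => h.resolve_left fun h' => (plm (τ k)).1
          (h'.elim (fun e' => e' ▸ hd0) fun e' => e' ▸ (dlm _).1), Or.inr⟩
  have goodx : ∀ i, Good (x i) := by
    intro i
    have hxe : x i = {d0, dl i} ∪ (x i \ D) := by
      rw [← hxD i]; ext z; simp only [Finset.mem_union, Finset.mem_inter, Finset.mem_sdiff]; tauto
    by_cases h : o ∈ x i
    · have : x i = symmDiff ({d0, dl i} ∪ V i) Dᶜ := by
        ext z
        rw [Finset.mem_symmDiff]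
        conv_lhs => rw [hxe]
        simp only [V, if_pos h, Finset.mem_union, Finset.mem_insert, Finset.mem_singleton, Finset.mem_sdiff,
          Finset.mem_compl]
        by_cases hz : z ∈ D
        · simp [hz]
        · have n0 : z ≠ d0 := fun e => hz (e ▸ hd0)
          have n1 : z ≠ dl i := fun e => hz (e ▸ (dlm i).1)
          simp [hz, n0, n1]
      rw [this]
      exact good_add _ _ (goodRow i) goodDc
    · have : x i = {d0, dl i} ∪ V i := by simp only [V, if_neg h]; exact hxe
      rw [this]; exact goodRow i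
  have key : ∀ T : Finset (Fin 11), ∃ y, Gen B y ∧ Good y ∧ ∀ i, (dl i ∈ y ↔ i ∈ T) := by
    intro T
    induction T using Finset.induction_on with
    | empty => exact ⟨∅, Gen.zero, good0, fun i => by simp⟩
    | @insert a T ha ih =>
      obtain ⟨y, hy, hyg, hyT⟩ := ih
      refine ⟨symmDiff (x a) y, (hx a).sum hy, good_add _ _ (goodx a) hyg, fun i => ?_⟩
      have : dl i ∈ x a ↔ i = a := by
        have h : dl i ∈ x a ∩ D ↔ dl i ∈ ({d0, dl a} : Finset α) := by rw [hxD a]
        simpa [(dlm i).1, (dlm i).2.symm, dlinj.eq_iff] using h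
      rw [Finset.mem_symmDiff, this, hyT, Finset.mem_insert]
      by_cases hi : i = a
      · subst hi; simp [ha]
      · simp [hi]
  have hblock : ∀ b ∈ B, b.image e ∈ octads := by
    intro b hb
    refine ⟨?_, by rw [Finset.card_image_of_injective _ e.injective, hB.1 b hb]⟩
    obtain ⟨y, hy, hyg, hyT⟩ := key (univ.filter fun i => dl i ∈ b)
    have hz : Gen B (symmDiff b y) := (Gen.block hb).sum hy
    have hz0 : symmDiff b y ∩ D = ∅ := by
      have hsub : symmDiff b y ∩ D ⊆ {d0} := by
        intro z hz'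
        rw [Finset.mem_inter, Finset.mem_symmDiff] at hz'
        rw [Finset.mem_singleton]
        by_contra hne
        obtain ⟨i, hi⟩ : ∃ i, dl i = z := ⟨fd.symm ⟨z, Finset.mem_erase.2 ⟨hne, hz'.2⟩⟩, by simp [dl]⟩
        have := hyT i
        rw [hi] at this
        simp only [Finset.mem_filter, Finset.mem_univ, true_and, hi] at this
        tauto
      rcases Finset.subset_singleton_iff.1 hsub with h | h
      · exact h
      · have := Gen.even_meet hB hα hz hD
        rw [h] at this
        simp at this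
    have hg : Good (symmDiff b y) := by
      rcases outside_eq hB hα hD hD12 hz hz0 with h | h <;> rw [h]
      exacts [good0, goodDc]
    have hgb := good_add _ _ hg hyg
    rwa [symmDiff_symmDiff_cancel_right] at hgb
  refine ⟨e, Set.eq_of_subset_of_ncard_le (fun _ ⟨b, hb, he⟩ => he ▸ hblock b hb) ?_ (Set.toFinite _)⟩
  rw [Set.ncard_image_of_injective _ (Finset.image_injective e.injective), Golay24.octads_ncard, ncard_eq_card,
    show blocks B = (blocks B).filter fun b => (∅ : Finset α) ⊆ b by simp,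
    card_through hB hα 0 759 Finset.card_empty (by norm_num) (by decide +kernel) (by decide +kernel)]

end Cfsg.Agent.Steiner
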